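import Mathlib

/-!
# Elementary facts about the alternating groups of degree five and six
-/

namespace CfsgLib.SpectrumFive

open Equiv

/-- The three-cycle `i ↦ j ↦ k ↦ i` as an element of the alternating group. -/
def cyc {n : ℕ} (i j k : Fin n) (h : i ≠ j ∧ j ≠ k) : alternatingGroup (Fin n) :=
  ⟨swap i j * swap j k, by
    rw [Equiv.Perm.mem_alternatingGroup, map_mul, Equiv.Perm.sign_swap h.1,
      Equiv.Perm.sign_swap h.2]
    rfl⟩

/-- An element of order four of the alternating group of degree six. -/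
def fourSix : alternatingGroup (Fin 6) :=
  ⟨swap 0 1 * swap 1 2 * swap 2 3 * swap 4 5, by rw [Equiv.Perm.mem_alternatingGroup]; decide⟩

theorem fourSix_pow : fourSix ^ 4 = 1 ∧ fourSix ^ 2 ≠ 1 := by decide +kernel

theorem eq_pow_of_commute_fourSix :
    ∀ a : alternatingGroup (Fin 6), a * fourSix = fourSix * a →
      a = 1 ∨ a = fourSix ∨ a = fourSix ^ 2 ∨ a = fourSix ^ 3 := by
  decide +kernel

theorem isConj_fourSix :
    ∀ a : alternatingGroup (Fin 6), a ^ 4 = 1 → a ^ 2 ≠ 1 → ∃ m, m * fourSix = a * m := by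
  decide +kernel

/-- Two commuting involutions in the alternating group of degree five or six. -/
theorem exists_four_five : ∃ a b : alternatingGroup (Fin 5),
    a * a = 1 ∧ b * b = 1 ∧ a ≠ 1 ∧ b ≠ 1 ∧ a ≠ b ∧ a * b = b * a :=
  ⟨⟨swap 0 1 * swap 2 3, by rw [Equiv.Perm.mem_alternatingGroup]; decide⟩,
    ⟨swap 0 2 * swap 1 3, by rw [Equiv.Perm.mem_alternatingGroup]; decide⟩, by decide +kernel⟩

theorem exists_four_six : ∃ a b : alternatingGroup (Fin 6),
    a * a = 1 ∧ b * b = 1 ∧ a ≠ 1 ∧ b ≠ 1 ∧ a ≠ b ∧ a * b = b * a :=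
  ⟨⟨swap 0 1 * swap 2 3, by rw [Equiv.Perm.mem_alternatingGroup]; decide⟩,
    ⟨swap 0 2 * swap 1 3, by rw [Equiv.Perm.mem_alternatingGroup]; decide⟩, by decide +kernel⟩

/-- The alternating group of degree six has an elementary abelian subgroup of order nine. -/
theorem nine_six : ∃ a b : alternatingGroup (Fin 6), a * b = b * a ∧
    orderOf a = 3 ∧ orderOf b = 3 ∧ orderOf (a * b) = 3 ∧ orderOf (a * b ^ 2) = 3 := by
  refine ⟨cyc 0 1 2 (by decide), cyc 3 4 5 (by decide), by decide +kernel, ?_, ?_, ?_, ?_⟩ <;>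
    exact orderOf_eq_prime (p := 3) (hp := ⟨Nat.prime_three⟩) (by decide +kernel) (by decide +kernel)

/-- Consecutive three-cycles on a path from an element to its inverse. -/
theorem path_five : ∃ a b c : alternatingGroup (Fin 5), orderOf a = 3 ∧ orderOf b = 3 ∧ orderOf c = 3 ∧
    (orderOf (a * b) = 3 ∧ (a * b⁻¹) ^ 2 = 1) ∧ (orderOf (b * c) = 3 ∧ (b * c⁻¹) ^ 2 = 1) ∧
    (orderOf (c * a⁻¹) = 3 ∧ (c * a) ^ 2 = 1) := by
  refine ⟨cyc 0 1 2 (by decide), cyc 1 3 2 (by decide), cyc 1 2 4 (by decide), ?_, ?_, ?_,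
    ⟨?_, ?_⟩, ⟨?_, ?_⟩, ⟨?_, ?_⟩⟩ <;>
    first
    | exact orderOf_eq_prime (p := 3) (hp := ⟨Nat.prime_three⟩) (by decide +kernel) (by decide +kernel)
    | decide +kernel

/-- Four three-cycles with trivial product whose reversed product has order three. -/
theorem quad_five : ∃ y₁ y₂ y₃ y₄ : alternatingGroup (Fin 5), orderOf y₁ = 3 ∧ orderOf y₂ = 3 ∧
    orderOf y₃ = 3 ∧ orderOf y₄ = 3 ∧ y₁ * y₂ * y₃ * y₄ = 1 ∧
    orderOf (y₄ * y₃ * y₂ * y₁) = 3 := by
  refine ⟨cyc 2 3 4 (by decide), cyc 1 2 4 (by decide), cyc 0 1 4 (by decide),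
    cyc 0 4 3 (by decide), ?_, ?_, ?_, ?_, ?_, ?_⟩ <;>
    first
    | exact orderOf_eq_prime (p := 3) (hp := ⟨Nat.prime_three⟩) (by decide +kernel) (by decide +kernel)
    | decide +kernel

end CfsgLib.SpectrumFive
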