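import Cfsg.Agent.SpectrumFive.Bilinear
import Cfsg.Agent.SpectrumFive.AltFacts
import Cfsg.Prelude.Def_Transfer

/-!
# The kernel of a map onto `A₅` or `A₆`
-/

set_option autoImplicit false
set_option linter.style.haveILetI false

namespace CfsgLib.SpectrumFive

open scoped commutatorElement

universe u

variable {G : Type u} [Group G] [Finite G]

/-- A kernel which is a `p`-group is a `2`-group when the image has two commuting involutions. -/
theorem isPGroup_two_kernel (h : OrdersLeFive G) {A : Type*} [Group A] (π : G →* A)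
    (hπ : Function.Surjective π) {p : ℕ} (hp : p.Prime) (hR : IsPGroup p π.ker) {a b : A}
    (ha : a * a = 1) (hb : b * b = 1) (ha1 : a ≠ 1) (hb1 : b ≠ 1) (hne : a ≠ b)
    (hab : a * b = b * a) : IsPGroup 2 π.ker := by
  haveI := Fact.mk hp
  rcases eq_or_ne π.ker ⊥ with e | hker
  · rw [e]; exact IsPGroup.of_bot
  obtain ⟨r, hr, hr1⟩ := (Subgroup.bot_or_exists_ne_one π.ker).resolve_left hker
  obtain ⟨k, hk⟩ := IsPGroup.iff_orderOf.1 hR ⟨r, hr⟩
  rw [Subgroup.orderOf_mk] at hk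
  have hk0 : k ≠ 0 := fun e => hr1 (orderOf_eq_one_iff.1 (by rw [hk, e, pow_zero]))
  have hp5 : p ≤ 5 := le_trans (Nat.le_self_pow hk0 p) (hk ▸ h r)
  by_contra hp2
  have hp35 : p = 3 ∨ p = 5 := by
    have := hp.two_le
    interval_cases p
    · exact absurd hR hp2
    · exact Or.inl rfl
    · exact absurd hp (by norm_num)
    · exact Or.inr rfl
  have hro := orderOf_eq_of_mem h hp35 hR hr hr1
  -- every involution of the image lifts to one inverting the kernel
  have hlift : ∀ c : A, c * c = 1 → c ≠ 1 → ∃ t : G, π t = c ∧ t * r * t⁻¹ = r⁻¹ := by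
    intro c hc hc1
    obtain ⟨t, rfl⟩ := hπ c
    have ht2 : t * t ∈ π.ker := by rw [MonoidHom.mem_ker, map_mul, hc]
    have hne1 : t ≠ 1 := fun e => hc1 (by rw [e, map_one])
    have ho : orderOf t = 2 := by
      have hsq : t * t = 1 := by
        by_contra hsq
        have h2 : orderOf (π t) = 2 := orderOf_eq_prime (by rw [pow_two, hc]) hc1
        have hd : 2 ∣ orderOf t := h2 ▸ orderOf_map_dvd π t
        have h3 : p ∣ orderOf t := by
          refine (dvd_of_eq (orderOf_eq_of_mem h hp35 hR ht2 hsq).symm).trans ?_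
          rw [← pow_two]
          exact orderOf_pow_dvd 2
        have h10 : 2 * p ∣ orderOf t := Nat.Coprime.mul_dvd_of_dvd_of_dvd
          (by rcases hp35 with rfl | rfl <;> norm_num) hd h3
        have := Nat.le_of_dvd (orderOf_pos t) h10
        have := h t
        omega
      exact orderOf_eq_prime (by rw [pow_two, hsq]) hne1
    exact ⟨t, rfl, conj_eq_inv_of_involution h hp35 hR ho
      (Subgroup.normalizer_eq_top π.ker ▸ Subgroup.mem_top t) hr⟩
  obtain ⟨t, rfl, ht⟩ := hlift a ha ha1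
  obtain ⟨u, rfl, hu⟩ := hlift b hb hb1
  have hc : Commute r (t * u) := by
    refine (mul_inv_eq_iff_eq_mul.1 ?_).symm
    calc t * u * r * (t * u)⁻¹ = t * (u * r * u⁻¹) * t⁻¹ := by group
      _ = (t * r * t⁻¹)⁻¹ := by rw [hu]; group
      _ = r := by rw [ht, inv_inv]
  have h1 : (π t * π u) ^ p = 1 := by
    rw [← map_mul, ← map_pow, pow_eq_one_of_commute h hp35 hro hc, map_one]
  have h2 : (π t * π u) ^ 2 = 1 := by
    rw [(show Commute (π t) (π u) from hab).mul_pow, pow_two, pow_two, ha, hb, one_mul]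
  have h3 : π t * π u = 1 := orderOf_eq_one_iff.1 (Nat.eq_one_of_dvd_coprimes
    (by rcases hp35 with rfl | rfl <;> norm_num : Nat.Coprime p 2)
    (orderOf_dvd_of_pow_eq_one h1) (orderOf_dvd_of_pow_eq_one h2))
  exact hne (by rw [eq_inv_of_mul_eq_one_left h3, inv_eq_of_mul_eq_one_right hb])

/-- With image `A₆` the kernel is trivial. -/
theorem kernel_eq_bot (h : OrdersLeFive G) (π : G →* alternatingGroup (Fin 6))
    (hπ : Function.Surjective π) (hker : IsPGroup 2 π.ker) : π.ker = ⊥ := by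
  haveI : Fact (Nat.Prime 2) := ⟨Nat.prime_two⟩
  by_contra hne
  haveI : Nontrivial π.ker := (Subgroup.nontrivial_iff_ne_bot _).2 hne
  haveI := π.normal_ker
  set Z := (Subgroup.center π.ker).map π.ker.subtype with hZ
  have hle : Z ≤ π.ker := Subgroup.map_subtype_le _
  obtain ⟨V, _, f, ρ, hadd, hzero, hρ⟩ := exists_action h π hπ hker Z hle (by
    rintro k hk _ ⟨c, hc, rfl⟩
    exact congrArg Subtype.val (Subgroup.mem_center_iff.1 hc ⟨k, hk⟩))
  obtain ⟨a, b, hab, ha, hb, hab1, hab2⟩ := nine_six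
  have h3 : (1 + 1 + 1 : AddMonoid.End V) = 0 := by
    have hA := hρ a ha
    have hB := hρ b hb
    have hAB := hρ _ hab1
    have hAB2 := hρ _ hab2
    have hc : ρ b * ρ a = ρ a * ρ b := by rw [← map_mul, ← map_mul, hab]
    rw [map_mul] at hAB
    rw [map_mul, map_pow] at hAB2
    set x := ρ a
    set y := ρ b
    clear_value x y
    have hy3 : y * y * y = 1 := by
      linear_combination (norm := noncomm_ring) y * hB - hB
    have e1 : x * y * (x * y) = x * x * (y * y) := by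
      rw [show x * y * (x * y) = x * (y * x) * y by noncomm_ring, hc]; noncomm_ring
    have hc2 : y * y * x = x * (y * y) := by
      rw [mul_assoc, hc, ← mul_assoc, hc, mul_assoc]
    have e2 : x * y ^ 2 * (x * y ^ 2) = x * x * y := by
      rw [pow_two, show x * (y * y) * (x * (y * y)) = x * (y * y * x) * (y * y) by noncomm_ring,
        hc2, show x * (x * (y * y)) * (y * y) = x * x * (y * y * y) * y by noncomm_ring, hy3, mul_one]
    rw [e1] at hAB
    rw [e2, pow_two] at hAB2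
    linear_combination (norm := noncomm_ring) hA + hB + hAB + hAB2 - (1 + x + x * x) * hB
  have hone : ∀ v : V, v = 0 := by
    intro v
    have h1 : v + v + v = 0 := by
      have := DFunLike.congr_fun h3 v
      exact this
    have h2 := congrArg (fun v => ((f v : Z) : G)) h1
    simp only [hadd, hzero] at h2
    apply f.injective
    refine Subtype.ext ?_
    rw [hzero]
    exact eq_one_of_pow_four (Or.inl rfl) (by rw [pow_three']; exact h2)
      (pow_four_of_mem h hker (hle (f v).2))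
  haveI := hker.center_nontrivial
  obtain ⟨c, hc⟩ := exists_ne (1 : Subgroup.center π.ker)
  have hmem : ((c : π.ker) : G) ∈ Z := ⟨_, c.2, rfl⟩
  have := hone (f.symm ⟨_, hmem⟩)
  have h1 := congrArg (fun v => ((f v : Z) : G)) this
  simp only [hzero, Equiv.apply_symm_apply] at h1
  exact hc (Subtype.ext (Subtype.ext h1))

/-- The elements of a central subgroup of the kernel over `A₅` are involutions. -/
theorem sq_of_central (h : OrdersLeFive G) (π : G →* alternatingGroup (Fin 5))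
    (hπ : Function.Surjective π) (hker : IsPGroup 2 π.ker) (Z : Subgroup G) [Z.Normal]
    (hle : Z ≤ π.ker) (hcent : ∀ k ∈ π.ker, ∀ z ∈ Z, k * z = z * k) :
    ∀ z ∈ Z, z * z = 1 := by
  obtain ⟨V, _, f, ρ, hadd, hzero, hρ⟩ := exists_action h π hπ hker Z hle hcent
  obtain ⟨a, b, c, ha, hb, hc, ⟨-, hab⟩, ⟨-, hbc⟩, ⟨-, hca⟩⟩ := path_five
  have key : ∀ {a b : alternatingGroup (Fin 5)}, orderOf a = 3 → orderOf b = 3 →
      (a * b⁻¹) ^ 2 = 1 → 2 * ρ a = 2 * ρ b := by
    intro a b ha hb hab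
    have hai : a⁻¹ = a * a := inv_eq_of_mul_eq_one_right (by rw [← mul_assoc, ← pow_three', ← ha, pow_orderOf_eq_one])
    have hbi : b⁻¹ = b * b := inv_eq_of_mul_eq_one_right (by rw [← mul_assoc, ← pow_three', ← hb, pow_orderOf_eq_one])
    have h1 : a * b⁻¹ = b * a⁻¹ := by
      rw [pow_two] at hab
      rw [eq_inv_of_mul_eq_one_left hab, mul_inv_rev, inv_inv]
    have h2 : a⁻¹ * b = b⁻¹ * a := by
      have : a * b⁻¹ * a = b := by rw [h1, inv_mul_cancel_right]
      nth_rw 1 [← this]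
      group
    refine two_mul_eq (hρ a ha) (hρ b hb) ?_ ?_
    · rw [← map_mul, ← map_mul, ← map_mul, ← map_mul, ← hai, ← hbi, h1]
    · rw [← map_mul, ← map_mul, ← map_mul, ← map_mul, ← hai, ← hbi, h2]
  have hai : orderOf a⁻¹ = 3 := by rw [orderOf_inv, ha]
  have e1 := key ha hb hab
  have e2 := key hb hc hbc
  have e3 := key hc hai (by rwa [inv_inv])
  have hinv : ρ a⁻¹ = ρ a * ρ a := by
    rw [← map_mul]
    congr 1
    exact inv_eq_of_mul_eq_one_right (by rw [← mul_assoc, ← pow_three', ← ha, pow_orderOf_eq_one])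
  have e : 2 * ρ a = 2 * (ρ a * ρ a) := hinv ▸ e1.trans (e2.trans e3)
  have hA := hρ a ha
  have h6 : (1 + 1 + 1 + 1 + 1 + 1 : AddMonoid.End V) = 0 := by
    set x := ρ a
    linear_combination (norm := noncomm_ring) 6 * hA - 4 * (x * hA) - 2 * (e * x) - e
  intro z hz
  set v := f.symm ⟨z, hz⟩ with hv
  have h1 : v + v + v + v + v + v = 0 := by
    have := DFunLike.congr_fun h6 v
    exact this
  have h2 := congrArg (fun v => ((f v : Z) : G)) h1
  simp only [hadd, hzero, hv, Equiv.apply_symm_apply] at h2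
  have h4 : z * z * z * z = 1 := by
    have := pow_four_of_mem h hker (hle hz)
    simpa [pow_succ] using this
  calc z * z = (z * z * z * z) * (z * z) := by rw [h4, one_mul]
    _ = 1 := by rw [← mul_assoc]; exact h2

/-- With image `A₅` the kernel is elementary abelian. -/
theorem kernel_elementary : ∀ (n : ℕ) (G : Type u) [Group G] [Finite G],
    Nat.card G = n → OrdersLeFive G → ∀ π : G →* alternatingGroup (Fin 5),
      Function.Surjective π → IsPGroup 2 π.ker → Cfsg.IsElementaryAbelian 2 π.ker := by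
  intro n
  induction n using Nat.strong_induction_on with
  | _ n ih =>
  intro G _ _ hn h π hπ hker
  haveI : Fact (Nat.Prime 2) := ⟨Nat.prime_two⟩
  haveI := π.normal_ker
  rcases eq_or_ne π.ker ⊥ with e | hne
  · rw [e]
    exact ⟨inferInstance, fun a ha => by rw [Subgroup.mem_bot.1 ha, one_pow]⟩
  haveI : Nontrivial π.ker := (Subgroup.nontrivial_iff_ne_bot _).2 hne
  set Z := (Subgroup.center π.ker).map π.ker.subtype with hZdef
  have hle : Z ≤ π.ker := Subgroup.map_subtype_le _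
  have hcent : ∀ k ∈ π.ker, ∀ z ∈ Z, k * z = z * k := by
    rintro k hk _ ⟨c, hc, rfl⟩
    exact congrArg Subtype.val (Subgroup.mem_center_iff.1 hc ⟨k, hk⟩)
  have hZ2 := sq_of_central h π hπ hker Z hle hcent
  have hlt : Nat.card (G ⧸ Z) < n := by
    haveI := hker.center_nontrivial
    have h1 : 1 < Nat.card Z := by
      rw [hZdef, ← Nat.card_congr ((Subgroup.center π.ker).equivMapOfInjective _
        π.ker.subtype_injective).toEquiv]
      exact Finite.one_lt_card
    rw [← hn, Subgroup.card_eq_card_quotient_mul_card_subgroup Z]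
    exact lt_mul_of_one_lt_right Nat.card_pos h1
  let π' : G ⧸ Z →* alternatingGroup (Fin 5) := QuotientGroup.lift Z π hle
  have hker' : π'.ker = π.ker.map (QuotientGroup.mk' Z) := by
    ext x
    obtain ⟨g, rfl⟩ := QuotientGroup.mk'_surjective Z x
    refine ⟨fun hx => ⟨g, hx, rfl⟩, ?_⟩
    rintro ⟨k, hk, e⟩
    rw [MonoidHom.mem_ker, ← e]
    exact hk
  obtain ⟨hab', hsq'⟩ := ih _ hlt (G ⧸ Z) rfl (h.quotient Z) π'
    (fun a => (hπ a).elim fun g hg => ⟨g, hg⟩) (hker' ▸ hker.map _)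
  have hmem : ∀ {a : G}, a ∈ π.ker → (a : G ⧸ Z) ∈ π'.ker := fun ha => hker' ▸ ⟨_, ha, rfl⟩
  have hsq : ∀ a ∈ π.ker, a * a ∈ Z := fun a ha => by
    rw [← QuotientGroup.eq_one_iff]
    have := hsq' _ (hmem ha)
    rwa [pow_two] at this
  have hcomm : ∀ a ∈ π.ker, ∀ b ∈ π.ker, ⁅a, b⁆ ∈ Z := fun a ha b hb => by
    rw [← QuotientGroup.eq_one_iff]
    have hc : (⟨_, hmem ha⟩ : π'.ker) * ⟨_, hmem hb⟩ = ⟨_, hmem hb⟩ * ⟨_, hmem ha⟩ := mul_comm' _ _
    have hc' := congrArg Subtype.val hc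
    show QuotientGroup.mk' Z ⁅a, b⁆ = 1
    rw [map_commutatorElement, commutatorElement_eq_one_iff_mul_comm]
    exact hc'
  -- the commutator pairing vanishes
  have hab : ∀ a ∈ π.ker, ∀ b ∈ π.ker, a * b = b * a := by
    obtain ⟨q₁, q₂, q₃, q₄, o₁, o₂, o₃, o₄, hprod, hrev⟩ := quad_five
    obtain ⟨y₁, rfl⟩ := hπ q₁
    obtain ⟨y₂, rfl⟩ := hπ q₂
    obtain ⟨y₃, rfl⟩ := hπ q₃
    obtain ⟨y₄, rfl⟩ := hπ q₄
    set Y := y₁ * y₂ * y₃ * y₄ with hY
    set Y' := y₄ * y₃ * y₂ * y₁ with hY'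
    have hconj : ∀ {k : G} (y : G), k ∈ π.ker → y * k * y⁻¹ ∈ π.ker :=
      fun y hk => π.normal_ker.conj_mem _ hk y
    have hYker : Y ∈ π.ker := by
      rw [MonoidHom.mem_ker, hY, map_mul, map_mul, map_mul, hprod]
    have hfix : ∀ a ∈ π.ker, ∀ w ∈ π.ker, ⁅a, Y' * w * Y'⁻¹⁆ = ⁅a, w⁆ := by
      intro a ha w hw
      have hstep := fun {y : G} (hy : orderOf (π y) = 3) {v w : G} (hv : v ∈ π.ker) (hw : w ∈ π.ker) =>
        commutator_conj_eq h π hker Z hle hcent hZ2 hcomm hsq hy hv hw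
      have h0 : ⁅Y * a * Y⁻¹, w⁆ = ⁅a, w⁆ := by
        refine commutator_congr (commutatorElement_eq_one_iff_mul_comm.2 (hcent w hw _ ?_).symm)
        have := hcomm a⁻¹ (inv_mem ha) Y hYker
        rw [commutatorElement_def, inv_inv] at this
        convert this using 1
        group
      rw [← h0, show Y * a * Y⁻¹ = y₁ * (y₂ * (y₃ * (y₄ * a * y₄⁻¹) * y₃⁻¹) * y₂⁻¹) * y₁⁻¹ by
          rw [hY]; group,
        hstep o₁ (hconj _ (hconj _ (hconj _ ha))) hw,
        hstep o₂ (hconj _ (hconj _ ha)) (hconj _ hw),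
        hstep o₃ (hconj _ ha) (hconj _ (hconj _ hw)),
        hstep o₄ ha (hconj _ (hconj _ (hconj _ hw))), hY']
      congr 1
      group
    intro a ha u hu
    have hY3 : orderOf (π Y') = 3 := by rw [hY', map_mul, map_mul, map_mul, hrev]
    set w := (Y' * Y')⁻¹ * u * (Y' * Y') with hw
    have hwk : w ∈ π.ker := π.normal_ker.conj_mem' _ hu _
    have h1 : u = Y' * (Y' * w * Y'⁻¹) * Y'⁻¹ := by rw [hw]; group
    have h2 : ⁅a, u⁆ = ⁅a, w⁆ := by rw [h1, hfix a ha _ (hconj _ hwk), hfix a ha w hwk]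
    -- `u` is `w` times its conjugate, modulo `Z`
    have hprod3 := orbit_prod_eq_one (h.quotient Z) π' (hker' ▸ hker.map _)
      (y := (Y' : G ⧸ Z)) (z := (w : G ⧸ Z)) (by simpa [π'] using hY3) (hmem hwk) (by
        exact congrArg Subtype.val (mul_comm' (⟨_, hmem hwk⟩ : π'.ker) ⟨_, mul_mem
          (π'.normal_ker.conj_mem _ (hmem hwk) _)
          (π'.normal_ker.conj_mem _ (π'.normal_ker.conj_mem _ (hmem hwk) _) _)⟩))
    have hz : w * (Y' * w * Y'⁻¹) * u ∈ Z := by
      rw [h1]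
      exact (QuotientGroup.eq_one_iff _).1 hprod3
    have hw' := hconj Y' hwk
    have h3 : ⁅a, w * (Y' * w * Y'⁻¹) * u⁆ = 1 :=
      commutatorElement_eq_one_iff_mul_comm.2 (hcent a ha _ hz)
    have hadd : ∀ {p q : G}, p ∈ π.ker → q ∈ π.ker → ⁅a, p * q⁆ = ⁅a, p⁆ * ⁅a, q⁆ := by
      intro p q hp hq
      calc ⁅a, p * q⁆ = ⁅a, p⁆ * (p * ⁅a, q⁆ * p⁻¹) := by simp only [commutatorElement_def]; group
        _ = ⁅a, p⁆ * ⁅a, q⁆ := by rw [hcent p hp _ (hcomm a ha q hq), mul_inv_cancel_right]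
    rw [hadd (mul_mem hwk hw') hu, hadd hwk hw', hfix a ha w hwk, h2,
      hZ2 _ (hcomm a ha w hwk), one_mul] at h3
    exact commutatorElement_eq_one_iff_mul_comm.1 (h2.trans h3)
  refine ⟨⟨⟨fun a b => Subtype.ext (hab a a.2 b b.2)⟩⟩, fun a ha => ?_⟩
  rw [pow_two]
  exact sq_of_central h π hπ hker π.ker le_rfl hab a ha

end CfsgLib.SpectrumFive
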