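import Cfsg.Agent.SpectrumFive.Almost
import Cfsg.Agent.SpectrumFive.Kernel
import Cfsg.Agent.FgsSix.PrimePowerOrders

/-!
# Groups with element orders exactly `1` to `5`
-/

set_option autoImplicit false
set_option linter.style.haveILetI false

namespace CfsgLib.SpectrumFive

universe u

variable {G : Type u} [Group G] [Finite G]

/-- A map onto `A₅` or `A₆` with kernel a group of prime power order. -/
theorem exists_map (hle : OrdersLeFive G) (hpp : ∀ g : G, g ≠ 1 → IsPrimePow (orderOf g))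
    (hns : ¬ Group.IsSolvable G) :
    ∃ (R : Subgroup G) (_ : R.Normal) (p : ℕ), p.Prime ∧ IsPGroup p R ∧
      (Nonempty (G ⧸ R ≃* alternatingGroup (Fin 5)) ∨
        Nonempty (G ⧸ R ≃* alternatingGroup (Fin 6))) := by
  obtain ⟨R, ⟨hRn, hRs⟩, hRmax⟩ := Set.Finite.exists_maximal
    (s := {N : Subgroup G | N.Normal ∧ Group.IsSolvable N}) (Set.toFinite _)
    ⟨⊥, inferInstance, inferInstance⟩
  haveI := hRn
  obtain ⟨p, hp, hRp⟩ := CfsgLib.FgsSix.radical_isPGroup hpp hns R hRs
  refine ⟨R, hRn, p, hp, hRp, ?_⟩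
  haveI : Nontrivial (G ⧸ R) := by
    by_contra h
    rw [not_nontrivial_iff_subsingleton] at h
    exact hns (CfsgLib.FgsSix.isSolvable_of_quotient R hRs inferInstance)
  obtain ⟨M, hMn, hMs, hMa, hMin⟩ := CfsgLib.FgsSix.exists_simple_socle
    (CfsgLib.FgsSix.isPrimePow_quotient hpp R) (by
    intro N hN hNs
    haveI := hN
    have hK : Group.IsSolvable ↥(N.comap (QuotientGroup.mk' R)) := by
      refine Group.isSolvable_of_ker_le_range (Subgroup.inclusion (QuotientGroup.le_comap_mk' R N))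
        ((QuotientGroup.mk' R).subgroupComap N) ?_
      intro x hx
      exact ⟨⟨x, (QuotientGroup.eq_one_iff _).1 (congrArg Subtype.val (MonoidHom.mem_ker.1 hx))⟩, rfl⟩
    have h1 := hRmax ⟨hN.comap _, hK⟩ (QuotientGroup.le_comap_mk' R N)
    rw [← Subgroup.map_comap_eq_self_of_surjective (QuotientGroup.mk'_surjective R) N,
      Subgroup.map_eq_bot_iff, QuotientGroup.ker_mk']
    exact h1)
  haveI := hMn
  haveI := hMs
  have hq := hle.quotient R
  rcases nonempty_equiv_simple (hq.subgroup M) hMa with ⟨⟨e⟩⟩ | ⟨⟨e⟩⟩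
  · exact Or.inl ⟨((Subgroup.topEquiv (G := G ⧸ R)).symm.trans
      (MulEquiv.subgroupCongr (eq_top_five hq hMa e).symm)).trans e⟩
  · exact Or.inr ⟨((Subgroup.topEquiv (G := G ⧸ R)).symm.trans
      (MulEquiv.subgroupCongr (eq_top_six hq hMa hMin e).symm)).trans e⟩

/-- Element orders exactly `1, …, 5`: `A₆`, or elementary abelian by `A₅`. -/
theorem structure_of_spectrum (h : Set.range (orderOf : G → ℕ) = {k : ℕ | 1 ≤ k ∧ k ≤ 5}) :
    Nonempty (G ≃* ↥(alternatingGroup (Fin 6))) ∨
      ∃ (N : Subgroup G) (_ : N.Normal), Cfsg.IsElementaryAbelian 2 N ∧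
        Nonempty (G ⧸ N ≃* ↥(alternatingGroup (Fin 5))) := by
  have hle : OrdersLeFive G := fun g => by
    have hg : orderOf g ∈ {k : ℕ | 1 ≤ k ∧ k ≤ 5} := h ▸ ⟨g, rfl⟩
    exact hg.2
  have hpp : ∀ g : G, g ≠ 1 → IsPrimePow (orderOf g) := fun g hg => by
    have h5 := hle g
    have h0 := orderOf_pos g
    have h1 : orderOf g ≠ 1 := fun e => hg (orderOf_eq_one_iff.1 e)
    generalize orderOf g = m at h5 h0 h1
    interval_cases m
    · exact absurd rfl h1
    · exact Nat.prime_two.isPrimePow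
    · exact Nat.prime_three.isPrimePow
    · exact ⟨2, 2, Nat.prime_iff.1 Nat.prime_two, by norm_num, by norm_num⟩
    · exact Nat.prime_five.isPrimePow
  have hns : ¬ Group.IsSolvable G := fun hs => by
    haveI := hs
    have h2 := CfsgLib.FgsSix.card_primeFactors_le_two hpp ⊤ inferInstance
    have hmem : ({2, 3, 5} : Finset ℕ) ⊆ (Nat.card (⊤ : Subgroup G)).primeFactors := by
      intro r hr
      have hr5 : r.Prime ∧ 1 ≤ r ∧ r ≤ 5 := by
        simp only [Finset.mem_insert, Finset.mem_singleton] at hr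
        rcases hr with rfl | rfl | rfl <;> norm_num
      obtain ⟨g, hg⟩ : r ∈ Set.range (orderOf : G → ℕ) := h ▸ hr5.2
      rw [Subgroup.card_top, Nat.mem_primeFactors]
      exact ⟨hr5.1, hg ▸ orderOf_dvd_natCard g, Nat.card_pos.ne'⟩
    have h3 : ({2, 3, 5} : Finset ℕ).card ≤ 2 := le_trans (Finset.card_le_card hmem) h2
    norm_num at h3
  obtain ⟨R, hRn, p, hp, hRp, ⟨⟨e⟩⟩ | ⟨⟨e⟩⟩⟩ := exists_map hle hpp hns
  · right
    set π := e.toMonoidHom.comp (QuotientGroup.mk' R)
    have hker : π.ker = R := by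
      ext x
      rw [MonoidHom.mem_ker]
      exact (map_eq_one_iff e e.injective).trans (QuotientGroup.eq_one_iff x)
    have hsurj : Function.Surjective π := e.surjective.comp (QuotientGroup.mk'_surjective R)
    obtain ⟨a, b, ha, hb, ha1, hb1, hne, hab⟩ := exists_four_five
    have h2 := isPGroup_two_kernel hle π hsurj hp (hker ▸ hRp) ha hb ha1 hb1 hne hab
    exact ⟨R, hRn, hker ▸ kernel_elementary _ G rfl hle π hsurj h2, ⟨e⟩⟩
  · left
    set π := e.toMonoidHom.comp (QuotientGroup.mk' R)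
    have hker : π.ker = R := by
      ext x
      rw [MonoidHom.mem_ker]
      exact (map_eq_one_iff e e.injective).trans (QuotientGroup.eq_one_iff x)
    have hsurj : Function.Surjective π := e.surjective.comp (QuotientGroup.mk'_surjective R)
    obtain ⟨a, b, ha, hb, ha1, hb1, hne, hab⟩ := exists_four_six
    have h2 := isPGroup_two_kernel hle π hsurj hp (hker ▸ hRp) ha hb ha1 hb1 hne hab
    exact ⟨MulEquiv.ofBijective π
      ⟨(MonoidHom.ker_eq_bot_iff π).1 (kernel_eq_bot hle π hsurj h2), hsurj⟩⟩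

end CfsgLib.SpectrumFive
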