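import Cfsg.Agent.SpectrumFive.Locals

/-!
# Elements of order three acting on the kernel of a map onto a quotient

For `π : G →* A` with a `2`-group kernel, an element of order three of `A` acts on every abelian
normal subgroup centralised by the kernel as an endomorphism `a` with `a ^ 2 + a + 1 = 0`.
-/

set_option autoImplicit false
set_option linter.style.haveILetI false

namespace CfsgLib.SpectrumFive

universe u

variable {G : Type u} [Group G] [Finite G] {A : Type*} [Group A]

/-- A lift of an element of order three has order three. -/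
theorem orderOf_lift_three (h : OrdersLeFive G) (π : G →* A) {y : G} (hy : orderOf (π y) = 3) :
    orderOf y = 3 := by
  have hd : 3 ∣ orderOf y := hy ▸ orderOf_map_dvd π y
  have := h y
  have := orderOf_pos y
  obtain ⟨c, hc⟩ := hd
  omega

omit [Finite G] in
/-- The kernel `2`-group has exponent four. -/
theorem pow_four_of_mem (h : OrdersLeFive G) {R : Subgroup G} (hR : IsPGroup 2 R) {x : G}
    (hx : x ∈ R) : x ^ 4 = 1 := by
  haveI : Fact (Nat.Prime 2) := ⟨Nat.prime_two⟩
  obtain ⟨k, hk⟩ := IsPGroup.iff_orderOf.1 hR ⟨x, hx⟩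
  rw [Subgroup.orderOf_mk] at hk
  rw [← orderOf_dvd_iff_pow_eq_one, hk, show (4 : ℕ) = 2 ^ 2 by norm_num]
  refine Nat.pow_dvd_pow 2 ?_
  by_contra hk3
  have := Nat.pow_le_pow_right two_pos (show 3 ≤ k by omega)
  have := h x
  omega

/-- The product of the three conjugates by a lift of an element of order three is trivial. -/
theorem orbit_prod_eq_one (h : OrdersLeFive G) (π : G →* A) (hker : IsPGroup 2 π.ker)
    {y z : G} (hy : orderOf (π y) = 3) (hz : z ∈ π.ker)
    (hzz : Commute z (y * z * y⁻¹ * (y * (y * z * y⁻¹) * y⁻¹))) :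
    z * (y * z * y⁻¹) * (y * (y * z * y⁻¹) * y⁻¹) = 1 := by
  have hyo := orderOf_lift_three h π hy
  set w := z * (y * z * y⁻¹) * (y * (y * z * y⁻¹) * y⁻¹) with hw
  have hy3 : y * y * y = 1 := by rw [← pow_three', ← hyo, pow_orderOf_eq_one]
  have hconj : y * w * y⁻¹ = w := by
    calc y * w * y⁻¹ = (y * z * y⁻¹) * (y * (y * z * y⁻¹) * y⁻¹) *
          ((y * y * y) * z * (y * y * y)⁻¹) := by rw [hw]; group
      _ = w := by
        rw [hy3, inv_one, one_mul, mul_one, hw, mul_assoc z]
        exact hzz.eq.symm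
  have hwR : w ∈ π.ker := mul_mem (mul_mem hz (π.normal_ker.conj_mem _ hz y))
    (π.normal_ker.conj_mem _ (π.normal_ker.conj_mem _ hz y) y)
  exact eq_one_of_pow_four (Or.inl rfl)
    (pow_eq_one_of_commute h (Or.inl rfl) hyo (mul_inv_eq_iff_eq_mul.1 hconj))
    (pow_four_of_mem h hker hwR)

/-- The action of `A` on an abelian normal subgroup centralised by the kernel, by endomorphisms, in
which every element of order three satisfies `a ^ 2 + a + 1 = 0`. -/
theorem exists_action (h : OrdersLeFive G) (π : G →* A) (hπ : Function.Surjective π)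
    (hker : IsPGroup 2 π.ker) (Z : Subgroup G) [Z.Normal] (hle : Z ≤ π.ker)
    (hcent : ∀ k ∈ π.ker, ∀ z ∈ Z, k * z = z * k) :
    ∃ (V : Type u) (_ : AddCommGroup V) (f : V ≃ Z) (ρ : A →* AddMonoid.End V),
      (∀ v w, ((f (v + w) : Z) : G) = (f v : G) * (f w : G)) ∧
      ((f 0 : Z) : G) = 1 ∧
      ∀ a : A, orderOf a = 3 → ρ a * ρ a + ρ a + 1 = 0 := by
  letI : CommGroup Z :=
    { (inferInstance : Group Z) with
      mul_comm := fun a b => Subtype.ext (hcent _ (hle a.2) _ b.2) }
  let φ : G →* MulAut Z := MulAut.conjNormal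
  have hφ : π.ker ≤ φ.ker := by
    intro k hk
    refine MonoidHom.mem_ker.2 (MulEquiv.ext fun z => Subtype.ext ?_)
    rw [MulAut.conjNormal_apply]
    exact mul_inv_eq_iff_eq_mul.2 (hcent k hk _ z.2)
  let ψ : A →* MulAut Z := π.liftOfRightInverse _ (Function.rightInverse_surjInv hπ) ⟨φ, hφ⟩
  let ρ : A →* AddMonoid.End (Additive Z) :=
    { toFun := fun a => MonoidHom.toAdditive (ψ a).toMonoidHom
      map_one' := by rw [map_one]; rfl
      map_mul' := fun a b => by rw [map_mul]; rfl }
  refine ⟨Additive Z, inferInstance, Additive.toMul, ρ, fun v w => rfl, rfl, fun a ha => ?_⟩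
  obtain ⟨y, rfl⟩ := hπ a
  have hψ : ψ (π y) = φ y := π.liftOfRightInverse_comp_apply _ _ ⟨φ, hφ⟩ y
  refine AddMonoidHom.ext fun v => Additive.toMul.injective (Subtype.ext ?_)
  show ((ψ (π y) (ψ (π y) v.toMul) * ψ (π y) v.toMul * v.toMul : Z) : G) = 1
  rw [hψ, Subgroup.coe_mul, Subgroup.coe_mul]
  show y * ↑(φ y v.toMul) * y⁻¹ * (y * ↑v.toMul * y⁻¹) * ↑v.toMul = 1
  set z : G := ↑v.toMul with hz
  have hzZ : z ∈ Z := v.toMul.2
  rw [show ((φ y v.toMul : Z) : G) = y * z * y⁻¹ from MulAut.conjNormal_apply y _]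
  have hv1 : y * z * y⁻¹ ∈ Z := ‹Z.Normal›.conj_mem z hzZ y
  have hv2 : y * (y * z * y⁻¹) * y⁻¹ ∈ Z := ‹Z.Normal›.conj_mem _ hv1 y
  have hmul := orbit_prod_eq_one h π hker ha (hle hzZ) (hcent _ (hle hzZ) _ (mul_mem hv1 hv2))
  rw [← hmul]
  rw [hcent _ (hle (mul_mem hv2 hv1)) _ hzZ, hcent _ (hle hv2) _ hv1, mul_assoc z]

/-- In a ring, two such elements with an involutory quotient agree up to two-torsion. -/
theorem two_mul_eq {E : Type*} [Ring E] {a b : E} (ha : a * a + a + 1 = 0)
    (hb : b * b + b + 1 = 0) (hinv : a * (b * b) = b * (a * a)) (hinv' : a * a * b = b * b * a) :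
    2 * a = 2 * b := by
  have ha2 : a * a = -1 - a := by linear_combination (norm := noncomm_ring) ha
  have hb2 : b * b = -1 - b := by linear_combination (norm := noncomm_ring) hb
  rw [ha2, hb2] at hinv hinv'
  linear_combination (norm := noncomm_ring) hinv' - hinv

end CfsgLib.SpectrumFive
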