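import Mathlib

/-!
# The arithmetic of three characters

The system satisfied by three characters with signed degrees `D`, ratios `r` at an involution and
integer weights `u` has no solution.
-/

namespace CfsgLib.SpectrumFive

/-- Weights `(1, -2, 0)`. -/
theorem pair_equation (D₁ D₂ D₃ : ℤ) (x₁ x₂ x₃ : ℝ) (hD : D₁ + D₂ + D₃ = -1) (hu : x₁ - 2 * x₂ = 0)
    (hx : x₂ ≠ 0) (h1 : (D₁ : ℝ) * x₁ + D₂ * x₂ + D₃ * x₃ = 0)
    (h2 : (D₁ : ℝ) * x₁ ^ 2 + D₂ * x₂ ^ 2 + D₃ * x₃ ^ 2 = 0) :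
    (D₁ + 1) * (D₂ + 4) = 4 := by
  obtain rfl : x₁ = 2 * x₂ := by linarith
  obtain rfl : D₃ = -1 - D₁ - D₂ := by linarith
  push_cast at h1 h2
  have h3 : x₂ ^ 2 * (((D₁ + 1) * (D₂ + 4) - 4 : ℤ) : ℝ) = 0 := by
    push_cast
    linear_combination (-(-1 - (D₁ : ℝ) - D₂)) * h2 +
      ((-1 - (D₁ : ℝ) - D₂) * x₃ - (2 * D₁ + D₂) * x₂) * h1
  rcases mul_eq_zero.1 h3 with h | h
  · exact absurd (pow_eq_zero_iff two_ne_zero |>.1 h) hx
  · have h' : ((D₁ + 1) * (D₂ + 4) - 4 : ℤ) = 0 := by exact_mod_cast h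
    linarith

/-- The only solutions of the pair equation are small. -/
theorem pair_false {D₁ D₂ : ℤ} (h : (D₁ + 1) * (D₂ + 4) = 4) (h1 : 6 ≤ |D₁|) : False := by
  have hd : D₁ + 1 ∣ 4 := ⟨_, h.symm⟩
  have h4 : |D₁ + 1| ≤ 4 := Int.le_of_dvd (by norm_num) ((abs_dvd _ _).2 hd)
  have := abs_sub_abs_le_abs_sub D₁ (D₁ + 1)
  rw [show D₁ - (D₁ + 1) = -1 by ring] at this
  norm_num at this
  omega

/-- Weights `(1, -1, -1)`. -/
theorem triple_false (D₁ D₂ D₃ : ℤ) (x₁ x₂ x₃ : ℝ) (hD : D₁ + D₂ + D₃ = -1)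
    (hu : x₁ - x₂ - x₃ = 0) (hx₂ : x₂ ≠ 0) (hx₃ : x₃ ≠ 0) (d1 : 2 ≤ |D₁|) (d2 : 2 ≤ |D₂|)
    (d3 : 2 ≤ |D₃|) (h1 : (D₁ : ℝ) * x₁ + D₂ * x₂ + D₃ * x₃ = 0)
    (h2 : (D₁ : ℝ) * x₁ ^ 2 + D₂ * x₂ ^ 2 + D₃ * x₃ ^ 2 = 0) : False := by
  obtain rfl : x₁ = x₂ + x₃ := by linarith
  have hcases : ((D₁ + D₂) * (D₁ + D₃) * (D₂ + D₃) : ℤ) = 0 := by
    have h3 : x₂ ^ 2 * (((D₁ + D₂) * (D₁ + D₃) * (D₂ + D₃) : ℤ) : ℝ) = 0 := by
      push_cast
      linear_combination ((D₁ : ℝ) + D₃) ^ 2 * h2 -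
        (((D₁ : ℝ) + D₃) * x₂ * (2 * D₁) + ((D₁ : ℝ) + D₃) ^ 2 * x₃ -
          ((D₁ : ℝ) + D₃) * ((D₁ : ℝ) + D₂) * x₂) * h1
    rcases mul_eq_zero.1 h3 with h | h
    · exact absurd (pow_eq_zero_iff two_ne_zero |>.1 h) hx₂
    · exact_mod_cast h
  rcases mul_eq_zero.1 hcases with h | h
  · rcases mul_eq_zero.1 h with h | h
    · obtain rfl : D₃ = -1 := by linarith
      norm_num at d3
    · obtain rfl : D₂ = -1 := by linarith
      norm_num at d2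
  · obtain rfl : D₁ = -1 := by linarith
    norm_num at d1

/-- No three characters fit. -/
theorem no_three_characters (D u : Fin 3 → ℤ) (r : Fin 3 → ℝ)
    (hD : ∑ i, D i = -1) (hDr : ∑ i, (D i : ℝ) * r i = -1)
    (hDr2 : ∑ i, (D i : ℝ) * r i ^ 2 = -1)
    (hu : ∑ i, u i = -1) (hur : ∑ i, (u i : ℝ) * r i = -1) (hsq : ∑ i, u i ^ 2 ≤ 8)
    (hr : ∀ i, r i ≠ 1) (h2 : ∀ i, 2 ≤ |D i|)
    (h6 : 5 ≤ ∑ i, u i ^ 2 → ∀ i, 6 ≤ |D i|) : False := by
  simp only [Fin.sum_univ_three] at *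
  have hD' : ((D 0 : ℝ)) + D 1 + D 2 = -1 := by exact_mod_cast hD
  have hu' : ((u 0 : ℝ)) + u 1 + u 2 = -1 := by exact_mod_cast hu
  set x : Fin 3 → ℝ := fun i => 1 - r i with hx
  have e1 : (D 0 : ℝ) * x 0 + D 1 * x 1 + D 2 * x 2 = 0 := by
    simp only [hx]; linear_combination hD' - hDr
  have e2 : (D 0 : ℝ) * x 0 ^ 2 + D 1 * x 1 ^ 2 + D 2 * x 2 ^ 2 = 0 := by
    simp only [hx]; linear_combination hD' - 2 * hDr + hDr2
  have e3 : (u 0 : ℝ) * x 0 + u 1 * x 1 + u 2 * x 2 = 0 := by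
    simp only [hx]; linear_combination hu' - hur
  have hx0 : ∀ i, x i ≠ 0 := fun i => sub_ne_zero.2 (Ne.symm (hr i))
  have n0 := sq_nonneg (u 0)
  have n1 := sq_nonneg (u 1)
  have n2 := sq_nonneg (u 2)
  have b0 : -2 ≤ u 0 ∧ u 0 ≤ 2 := ⟨by nlinarith, by nlinarith⟩
  have b1 : -2 ≤ u 1 ∧ u 1 ≤ 2 := ⟨by nlinarith, by nlinarith⟩
  have p := hx0 0
  have q := hx0 1
  have s := hx0 2
  have hu2 : u 2 = -1 - u 0 - u 1 := by linarith
  obtain ⟨⟨l0, r0⟩, l1, r1⟩ := And.intro b0 b1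
  generalize ha : u 0 = a at *
  generalize hb : u 1 = b at *
  generalize hc : u 2 = c at *
  interval_cases a <;> interval_cases b <;> norm_num at hu2 <;> subst hu2 <;>
    (try norm_num at hsq) <;> (try norm_num at h6) <;> (try norm_num at e3) <;>
    first
    | exact p (by linarith)
    | exact q (by linarith)
    | exact s (by linarith)
    | exact triple_false (D 0) (D 1) (D 2) (x 0) (x 1) (x 2) hD (by linarith) q s (h2 0) (h2 1) (h2 2) e1 e2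
    | exact triple_false (D 1) (D 0) (D 2) (x 1) (x 0) (x 2) (by linarith) (by linarith) p s (h2 1) (h2 0) (h2 2) (by linarith) (by linarith)
    | exact triple_false (D 2) (D 0) (D 1) (x 2) (x 0) (x 1) (by linarith) (by linarith) p q (h2 2) (h2 0) (h2 1) (by linarith) (by linarith)
    | exact pair_false (pair_equation (D 0) (D 1) (D 2) (x 0) (x 1) (x 2) hD (by linarith) q e1 e2) (h6 0)
    | exact pair_false (pair_equation (D 0) (D 2) (D 1) (x 0) (x 2) (x 1) (by linarith) (by linarith) s (by linarith) (by linarith)) (h6 0)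
    | exact pair_false (pair_equation (D 1) (D 0) (D 2) (x 1) (x 0) (x 2) (by linarith) (by linarith) p (by linarith) (by linarith)) (h6 1)
    | exact pair_false (pair_equation (D 1) (D 2) (D 0) (x 1) (x 2) (x 0) (by linarith) (by linarith) s (by linarith) (by linarith)) (h6 1)
    | exact pair_false (pair_equation (D 2) (D 0) (D 1) (x 2) (x 0) (x 1) (by linarith) (by linarith) p (by linarith) (by linarith)) (h6 2)
    | exact pair_false (pair_equation (D 2) (D 1) (D 0) (x 2) (x 1) (x 0) (by linarith) (by linarith) q (by linarith) (by linarith)) (h6 2)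

end CfsgLib.SpectrumFive
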