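import Cfsg.Agent.SpectrumFive.Simple
import Cfsg.Agent.SpectrumFive.AltFacts

/-!
# A socle of type `A₅` or `A₆` is the whole group
-/

set_option autoImplicit false
set_option linter.style.haveILetI false

namespace CfsgLib.SpectrumFive

universe u

variable {G : Type u} [Group G] [Finite G] {p : ℕ}

/-- A `2`-group normalising a nontrivial `p`-subgroup embeds into its nontrivial elements. -/
theorem card_two_group_le (h : OrdersLeFive G) (hp : p = 3 ∨ p = 5) {P T : Subgroup G}
    (hP : IsPGroup p P) (hne : P ≠ ⊥) (hT : IsPGroup 2 T)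
    (hTN : T ≤ Subgroup.normalizer (P : Set G)) : Nat.card T ≤ Nat.card P - 1 := by
  classical
  obtain ⟨y, hy, hy1⟩ := (Subgroup.bot_or_exists_ne_one P).resolve_left hne
  have hyo := orderOf_eq_of_mem h hp hP hy hy1
  let f : T → {x : P // x ≠ 1} := fun t =>
    ⟨⟨(t : G) * y * (t : G)⁻¹, (Subgroup.mem_normalizer_iff.1 (hTN t.2) y).1 hy⟩,
      fun e => hy1 (conj_eq_one_iff.1 (congrArg Subtype.val e))⟩
  have hf : Function.Injective f := by
    intro a b e
    have e' : (a : G) * y * (a : G)⁻¹ = (b : G) * y * (b : G)⁻¹ :=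
      congrArg Subtype.val (congrArg Subtype.val e)
    set w : G := (b : G)⁻¹ * a with hwdef
    have hc : Commute y w := by
      refine (mul_inv_eq_iff_eq_mul.1 ?_).symm
      calc w * y * w⁻¹ = (b : G)⁻¹ * ((a : G) * y * (a : G)⁻¹) * b := by rw [hwdef]; group
        _ = y := by rw [e']; group
    have h1 := pow_eq_one_of_commute h hp hyo hc
    obtain ⟨k, hk⟩ := hT (b⁻¹ * a)
    have h2 : w ^ 2 ^ k = 1 := congrArg Subtype.val hk
    have hco : Nat.Coprime p (2 ^ k) := Nat.Coprime.pow_right _ (by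
      rcases hp with rfl | rfl <;> norm_num)
    have h3 : w = 1 := orderOf_eq_one_iff.1 (Nat.eq_one_of_dvd_coprimes hco
      (orderOf_dvd_of_pow_eq_one h1) (orderOf_dvd_of_pow_eq_one h2))
    exact (Subtype.ext (inv_mul_eq_one.1 h3)).symm
  refine (Nat.card_le_card_of_injective f hf).trans (le_of_eq ?_)
  have h1 : Nat.card {x : P // x ≠ 1} + 1 = Nat.card P := by
    rw [← Finite.card_option]
    exact Nat.card_congr (Equiv.optionSubtypeNe 1)
  omega

/-- An element of prime order `r ≠ p` normalising a nontrivial `p`-subgroup `P` moves every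
nontrivial element, so `r` divides `|P| - 1`. -/
theorem dvd_card_sub_one (h : OrdersLeFive G) (hp : p = 3 ∨ p = 5) {P : Subgroup G}
    (hP : IsPGroup p P) {r : ℕ} (hr : r.Prime) (hrp : r ≠ p) {g : G} (hg : orderOf g = r)
    (hgN : g ∈ Subgroup.normalizer (P : Set G)) : r ∣ Nat.card P - 1 := by
  classical
  haveI := Fact.mk hr
  haveI := Fintype.ofFinite P
  let σ : Equiv.Perm P := (Subgroup.normalizerMonoidHom P ⟨g, hgN⟩).toEquiv
  have hσ : σ ^ r ^ 1 = 1 := by
    rw [pow_one]
    let φ : Subgroup.normalizer (P : Set G) →* Equiv.Perm P :=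
      { toFun := fun x => (Subgroup.normalizerMonoidHom P x).toEquiv
        map_one' := by rw [map_one]; rfl
        map_mul' := fun x y => by rw [map_mul]; rfl }
    show φ ⟨g, hgN⟩ ^ r = 1
    rw [← map_pow, show (⟨g, hgN⟩ : Subgroup.normalizer (P : Set G)) ^ r = 1 from
      Subtype.ext (by simp [← hg, pow_orderOf_eq_one]), map_one]
  have hsupp : σ.supportᶜ = {1} := by
    ext x
    rw [Finset.mem_compl, Equiv.Perm.mem_support, not_not, Finset.mem_singleton]
    constructor
    · intro hx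
      by_contra hx1
      have hx' : g * (x : G) * g⁻¹ = x := congrArg Subtype.val hx
      have hxo := orderOf_eq_of_mem h hp hP x.2 fun e => hx1 (Subtype.ext e)
      have h1 := pow_eq_one_of_commute h hp hxo (mul_inv_eq_iff_eq_mul.1 hx').symm
      have := orderOf_dvd_of_pow_eq_one h1
      rw [hg, Nat.prime_dvd_prime_iff_eq hr (prime_of_eq hp)] at this
      exact hrp this
    · rintro rfl
      exact map_one (Subgroup.normalizerMonoidHom P ⟨g, hgN⟩)
  have hmod := Equiv.Perm.card_compl_support_modEq hσ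
  rw [hsupp, Finset.card_singleton, ← Nat.card_eq_fintype_card] at hmod
  exact (Nat.modEq_iff_dvd' Nat.card_pos).1 hmod

variable {M : Subgroup G} [M.Normal]

/-- The Frattini argument: the index of `M` is the relative index in the normaliser of a Sylow
subgroup of `M`, and that normaliser has even intersection with `M` when elements of order `p` are
real in `M`. -/
theorem normalizer_data [Fact p.Prime] (hMo : OrdersLeFive M) (hp : p = 3 ∨ p = 5)
    (hr : IsReal M p) (P : Sylow p M) :
    M.index ∣ Nat.card (Subgroup.normalizer (((P : Subgroup M).map M.subtype : Subgroup G) : Set G)) ∧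
      M.index * 2 ∣
        Nat.card (Subgroup.normalizer (((P : Subgroup M).map M.subtype : Subgroup G) : Set G)) := by
  set N := Subgroup.normalizer (((P : Subgroup M).map M.subtype : Subgroup G) : Set G) with hN
  have hidx : (M.subgroupOf N).index = M.index := by
    rw [← Subgroup.relIndex_top_right (H := M), ← P.normalizer_sup_eq_top,
      Subgroup.relIndex_sup_right]
    rfl
  have hmul := (M.subgroupOf N).index_mul_card
  rw [hidx] at hmul
  refine ⟨Dvd.intro _ hmul, ?_⟩
  obtain ⟨x, g, hx, hg⟩ := hr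
  obtain ⟨t, htN, ht⟩ := even_normalizer_of_real hMo hp P hx hg
  have htN' : (t : G) ∈ N := (Subgroup.le_normalizer_map M.subtype) ⟨t, htN, rfl⟩
  rw [← hmul]
  refine Nat.mul_dvd_mul_left _ ?_
  have := orderOf_dvd_natCard (G := M.subgroupOf N) ⟨⟨(t : G), htN'⟩, t.2⟩
  rw [← Subgroup.orderOf_coe, ← Subgroup.orderOf_coe] at this
  rwa [show orderOf (((⟨⟨(t : G), htN'⟩, t.2⟩ : M.subgroupOf N) : N) : G) = 2 by
    rw [show (((⟨⟨(t : G), htN'⟩, t.2⟩ : M.subgroupOf N) : N) : G) = (t : G) from rfl,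
      Subgroup.orderOf_coe, ht]] at this

omit [M.Normal] in
lemma card_sylow_of_card [Fact p.Prime] (P : Sylow p M) {e r : ℕ} (hc : Nat.card M = p ^ e * r)
    (hr : ¬ p ∣ r) : Nat.card (P : Subgroup M) = p ^ e := by
  have hr0 : r ≠ 0 := fun e' => hr (e' ▸ dvd_zero p)
  rw [P.card_eq_multiplicity, hc, Nat.factorization_mul (pow_ne_zero _ (Fact.out : p.Prime).ne_zero) hr0,
    Finsupp.add_apply, (Fact.out : p.Prime).factorization_pow, Finsupp.single_eq_same,
    Nat.factorization_eq_zero_of_not_dvd hr, add_zero]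

/-- A prime dividing the index, different from `p`, divides `|P| - 1`; powers of two give more. -/
theorem index_data (h : OrdersLeFive G) [Fact p.Prime] (hp : p = 3 ∨ p = 5) (hr : IsReal M p)
    (P : Sylow p M) {a : ℕ} (hPc : Nat.card (P : Subgroup M) = a) (ha : 1 < a) :
    (∀ r : ℕ, r.Prime → r ≠ p → r ∣ M.index → r ∣ a - 1) ∧
      ∀ j : ℕ, 2 ^ j ∣ M.index → 2 ^ (j + 1) ≤ a - 1 := by
  set P' := (P : Subgroup M).map M.subtype with hP'
  have hP'c : Nat.card P' = a :=
    (Nat.card_congr ((P : Subgroup M).equivMapOfInjective _ M.subtype_injective).toEquiv).symm.trans hPc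
  have hP'p : IsPGroup p P' := P.isPGroup'.map _
  have hP'ne : P' ≠ ⊥ := fun e => by rw [e, Subgroup.card_bot] at hP'c; omega
  obtain ⟨h1, h2⟩ := normalizer_data (h.subgroup M) hp hr P
  refine ⟨fun r hr' hrp hd => ?_, fun j hj => ?_⟩
  · haveI := Fact.mk hr'
    obtain ⟨g, hg⟩ := exists_prime_orderOf_dvd_card' (G := Subgroup.normalizer (P' : Set G)) r
      (hd.trans h1)
    rw [← hP'c]
    exact dvd_card_sub_one h hp hP'p hr' hrp (by rw [Subgroup.orderOf_coe, hg]) g.2
  · haveI : Fact (Nat.Prime 2) := ⟨Nat.prime_two⟩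
    obtain ⟨T, hT⟩ := Sylow.exists_subgroup_card_pow_prime (G := Subgroup.normalizer (P' : Set G)) 2
      (n := j + 1) ((by rw [pow_succ]; exact Nat.mul_dvd_mul_right hj 2 : 2 ^ (j + 1) ∣ M.index * 2).trans h2)
    have hTc := (Nat.card_congr (T.equivMapOfInjective _
      (Subgroup.normalizer (P' : Set G)).subtype_injective).toEquiv).symm.trans hT
    rw [← hP'c, ← hTc]
    exact card_two_group_le h hp hP'p hP'ne ((IsPGroup.of_card hT).map _) (Subgroup.map_subtype_le _)

/-- Socle `A₅`. -/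
theorem eq_top_five (h : OrdersLeFive G) [IsSimpleGroup M] (hM : ¬ IsMulCommutative M)
    (e : M ≃* alternatingGroup (Fin 5)) : M = ⊤ := by
  haveI : Fact (Nat.Prime 3) := ⟨Nat.prime_three⟩
  haveI : Fact (Nat.Prime 5) := ⟨Nat.prime_five⟩
  have hc : Nat.card M = 60 := by
    rw [Nat.card_congr e.toEquiv, nat_card_alternatingGroup, Nat.card_fin]; decide
  obtain ⟨hr3, hr5⟩ := isReal (h.subgroup M) hM
  obtain ⟨Q⟩ : Nonempty (Sylow 3 M) := inferInstance
  obtain ⟨P⟩ : Nonempty (Sylow 5 M) := inferInstance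
  obtain ⟨q1, q2⟩ := index_data h (Or.inl rfl) hr3 Q
    (card_sylow_of_card Q (e := 1) (r := 20) (by rw [hc]; norm_num) (by norm_num)) (by norm_num)
  obtain ⟨p1, -⟩ := index_data h (Or.inr rfl) hr5 P
    (card_sylow_of_card P (e := 1) (r := 12) (by rw [hc]; norm_num) (by norm_num)) (by norm_num)
  rw [← Subgroup.index_eq_one]
  by_contra hne
  obtain ⟨r, hr, hd⟩ := Nat.exists_prime_and_dvd hne
  rcases prime_le_five h hr (hd.trans (Subgroup.index_dvd_card M)) with rfl | rfl | rfl
  · exact absurd (q2 1 (by simpa using hd)) (by norm_num)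
  · exact absurd (p1 3 hr (by norm_num) hd) (by norm_num)
  · exact absurd (q1 5 hr (by norm_num) hd) (by norm_num)

/-- Socle `A₆`. -/
theorem eq_top_six (h : OrdersLeFive G) [IsSimpleGroup M] (hM : ¬ IsMulCommutative M)
    (hmin : ∀ N : Subgroup G, N.Normal → N ≠ ⊥ → M ≤ N)
    (e : M ≃* alternatingGroup (Fin 6)) : M = ⊤ := by
  haveI : Fact (Nat.Prime 2) := ⟨Nat.prime_two⟩
  haveI : Fact (Nat.Prime 3) := ⟨Nat.prime_three⟩
  haveI : Fact (Nat.Prime 5) := ⟨Nat.prime_five⟩
  have hc : Nat.card M = 360 := by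
    rw [Nat.card_congr e.toEquiv, nat_card_alternatingGroup, Nat.card_fin]; decide
  obtain ⟨hr3, hr5⟩ := isReal (h.subgroup M) hM
  obtain ⟨Q⟩ : Nonempty (Sylow 3 M) := inferInstance
  obtain ⟨P⟩ : Nonempty (Sylow 5 M) := inferInstance
  obtain ⟨q1, -⟩ := index_data h (Or.inl rfl) hr3 Q
    (card_sylow_of_card Q (e := 2) (r := 40) (by rw [hc]; norm_num) (by norm_num)) (by norm_num)
  obtain ⟨p1, p2⟩ := index_data h (Or.inr rfl) hr5 P
    (card_sylow_of_card P (e := 1) (r := 72) (by rw [hc]; norm_num) (by norm_num)) (by norm_num)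
  rw [← Subgroup.index_eq_one]
  by_contra hne
  have h2 : M.index = 2 := by
    obtain ⟨n, hn⟩ : ∃ n, M.index = 2 ^ n := by
      refine ⟨_, Nat.eq_prime_pow_of_unique_prime_dvd Subgroup.index_ne_zero_of_finite fun {r} hr hd => ?_⟩
      rcases prime_le_five h hr (hd.trans (Subgroup.index_dvd_card M)) with rfl | rfl | rfl
      · rfl
      · exact absurd (p1 3 hr (by norm_num) hd) (by norm_num)
      · exact absurd (q1 5 hr (by norm_num) hd) (by norm_num)
    have := p2 n (dvd_of_eq hn.symm)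
    have h4 : 2 ^ (n + 1) ≤ 2 ^ 2 := le_trans this (by norm_num)
    have hn1 := (Nat.pow_le_pow_iff_right (by norm_num : 1 < 2)).1 h4
    have hn1' : n ≤ 1 := by omega
    interval_cases n
    · exact absurd hn hne
    · exact hn
  -- an element outside `M` commutes with an element of order four of `M`
  have hne' : M ≠ ⊤ := fun e' => by rw [e', Subgroup.index_top] at h2; omega
  obtain ⟨g, hgM⟩ : ∃ g : G, g ∉ M := by
    by_contra hcon
    push Not at hcon
    exact hne' ((Subgroup.eq_top_iff' M).2 hcon)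
  set d : M := e.symm fourSix with hd
  have hd4 : d ^ 4 = 1 := by rw [hd, ← map_pow, fourSix_pow.1, map_one]
  have hd2 : d ^ 2 ≠ 1 := by
    rw [hd, ← map_pow]
    exact fun e' => fourSix_pow.2 (e.symm.injective (e'.trans (map_one _).symm))
  let d' : M := ⟨g * (d : G) * g⁻¹, Subgroup.Normal.conj_mem ‹_› _ d.2 g⟩
  obtain ⟨m, hm⟩ := isConj_fourSix (e d')
    (by rw [← map_pow, show d' ^ 4 = 1 from Subtype.ext (by
      show (g * (d : G) * g⁻¹) ^ 4 = 1
      rw [conj_pow, ← Subgroup.coe_pow, hd4]; simp), map_one])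
    (by
      rw [← map_pow]
      intro e'
      refine hd2 (Subtype.ext ?_)
      have h' : (g * (d : G) * g⁻¹) ^ 2 = 1 :=
        congrArg Subtype.val (e.injective (e'.trans (map_one _).symm) : d' ^ 2 = 1)
      rw [conj_pow, conj_eq_one_iff] at h'
      exact h')
  -- `w` commutes with `d` and lies outside `M`
  set w : G := ((e.symm m : M) : G)⁻¹ * g with hwdef
  have hwM : w ∉ M := fun hw => hgM (by
    have := mul_mem (e.symm m).2 hw
    rwa [hwdef, mul_inv_cancel_left] at this)
  have hwd : Commute w (d : G) := by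
    have h' : ((e.symm m : M) : G) * (d : G) = g * (d : G) * g⁻¹ * ((e.symm m : M) : G) := by
      have := congrArg e.symm hm
      rw [map_mul, map_mul, e.symm_apply_apply, ← hd] at this
      exact congrArg Subtype.val this
    refine mul_inv_eq_iff_eq_mul.1 ?_
    calc w * (d : G) * w⁻¹
        = ((e.symm m : M) : G)⁻¹ * (g * (d : G) * g⁻¹) * ((e.symm m : M) : G) := by
          rw [hwdef]; group
      _ = (d : G) := by rw [mul_assoc, ← h']; group
  have hdo : orderOf ((d : G) ^ 2) = 2 := by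
    refine orderOf_eq_prime ?_ fun e' => hd2 (Subtype.ext e')
    rw [← pow_mul]
    exact congrArg Subtype.val hd4
  have hw4 : w ^ 4 = 1 := pow_four_eq_one_of_commute h hdo (hwd.symm.pow_left 2)
  obtain ⟨z, hz, hzM⟩ : ∃ z : G, orderOf z = 2 ∧ z ∉ M := by
    have hw2M : w ^ 2 ∈ M := Subgroup.sq_mem_of_index_two h2 w
    have hcomm : e ⟨w ^ 2, hw2M⟩ * fourSix = fourSix * e ⟨w ^ 2, hw2M⟩ := by
      have : (⟨w ^ 2, hw2M⟩ : M) * d = d * ⟨w ^ 2, hw2M⟩ := Subtype.ext (hwd.pow_left 2).eq
      simpa [hd] using congrArg e this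
    by_cases hw2 : w ^ 2 = 1
    · exact ⟨w, orderOf_eq_prime hw2 fun e' => hwM (e' ▸ one_mem M), hwM⟩
    have hsq : (⟨w ^ 2, hw2M⟩ : M) ^ 2 = 1 := Subtype.ext (by
      show (w ^ 2) ^ 2 = 1
      rw [← pow_mul, hw4])
    have hsame : (⟨w ^ 2, hw2M⟩ : M) = d ^ 2 := by
      have hinj : ∀ i : ℕ, e ⟨w ^ 2, hw2M⟩ = fourSix ^ i → (⟨w ^ 2, hw2M⟩ : M) = d ^ i :=
        fun i hi => by rw [hd, ← map_pow, ← hi, e.symm_apply_apply]
      rcases eq_pow_of_commute_fourSix _ hcomm with e' | e' | e' | e'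
      · exact absurd (congrArg Subtype.val (e.injective (e'.trans (map_one _).symm))) hw2
      · rw [hinj 1 (by rw [e', pow_one]), pow_one] at hsq
        exact absurd hsq hd2
      · exact hinj 2 e'
      · rw [hinj 3 e', ← pow_mul, show 3 * 2 = 4 + 2 by rfl, pow_add, hd4, one_mul] at hsq
        exact absurd hsq hd2
    refine ⟨w * d, orderOf_eq_prime ?_ ?_, fun hwd' => hwM ?_⟩
    · rw [hwd.mul_pow, show w ^ 2 = (d : G) ^ 2 from congrArg Subtype.val hsame, ← pow_add]
      exact congrArg Subtype.val hd4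
    · intro e'
      exact hwM (eq_inv_of_mul_eq_one_left e' ▸ inv_mem d.2)
    · have := mul_mem hwd' (inv_mem d.2)
      rwa [mul_inv_cancel_right] at this
  -- an involution outside `M` inverts no element of order three or five
  obtain ⟨N, hN, hN2, hzN⟩ := mem_normal_two h hz fun x hx hinv => by
    obtain ⟨q, hq, hxq⟩ : ∃ q, (q = 3 ∨ q = 5) ∧ orderOf x = q := ⟨_, hx, rfl⟩
    have hqodd : Nat.Coprime q 2 := by rcases hq with rfl | rfl <;> norm_num
    have hmemM : ∀ y : G, y ^ q = 1 → y ∈ M := by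
      intro y hy
      haveI := M.normal_of_index_eq_two h2
      rw [← QuotientGroup.eq_one_iff]
      refine orderOf_eq_one_iff.1 (Nat.eq_one_of_dvd_coprimes hqodd ?_ ?_)
      · refine orderOf_dvd_of_pow_eq_one ?_
        rw [← QuotientGroup.mk_pow, hy, QuotientGroup.mk_one]
      · refine orderOf_dvd_of_pow_eq_one ?_
        rw [← QuotientGroup.mk_pow, QuotientGroup.eq_one_iff]
        exact Subgroup.sq_mem_of_index_two h2 y
    have hxM : x ∈ M := hmemM x (by rw [← hxq, pow_orderOf_eq_one])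
    obtain ⟨t, ht, htx⟩ := exists_conj_inv (G := M) (h.subgroup M) hq
      (hq.elim (fun e' => e' ▸ hr3) fun e' => e' ▸ hr5) (x := ⟨x, hxM⟩)
      (by rw [Subgroup.orderOf_mk, hxq])
    have htx' : (t : G) * x * (t : G)⁻¹ = x⁻¹ := congrArg Subtype.val htx
    have hcx : Commute x (z * t) := by
      refine (mul_inv_eq_iff_eq_mul.1 ?_).symm
      calc z * (t : G) * x * (z * t)⁻¹ = z * ((t : G) * x * (t : G)⁻¹) * z⁻¹ := by group
        _ = (z * x * z⁻¹)⁻¹ := by rw [htx']; group
        _ = x := by rw [hinv, inv_inv]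
    have h1 := pow_eq_one_of_commute h hq hxq hcx
    have := mul_mem (hmemM _ h1) (inv_mem t.2)
    rw [mul_inv_cancel_right] at this
    exact hzM this
  have hMN := hmin N hN fun e' => by
    rw [e', Subgroup.mem_bot] at hzN
    rw [hzN, orderOf_one] at hz
    omega
  obtain ⟨x, g', hx, -⟩ := hr3
  obtain ⟨k, hk⟩ := IsPGroup.iff_orderOf.1 (hN2.to_le hMN) x
  rw [hx] at hk
  have := Nat.prime_three.dvd_of_dvd_pow (n := k) (m := 2) (dvd_of_eq hk)
  norm_num at this

end CfsgLib.SpectrumFive
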