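import Cfsg.Agent.SpectrumFive.Action

/-!
# Commutators of a kernel of class at most two
-/

set_option autoImplicit false

namespace CfsgLib.SpectrumFive

open scoped commutatorElement

universe u

variable {G : Type u} [Group G] [Finite G] {A : Type*} [Group A]

omit [Finite G] in
/-- The commutator pairing on a class two group: equal arguments modulo the centre give equal
values. -/
lemma commutator_congr {a b w : G} (hb : ⁅a⁻¹ * b, w⁆ = 1) :
    ⁅b, w⁆ = ⁅a, w⁆ := by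
  have h : a⁻¹ * b * w = w * (a⁻¹ * b) := commutatorElement_eq_one_iff_mul_comm.1 hb
  calc ⁅b, w⁆ = a * ((a⁻¹ * b) * w * (a⁻¹ * b)⁻¹) * a⁻¹ * w⁻¹ := by
        rw [commutatorElement_def]; group
    _ = ⁅a, w⁆ := by rw [h, commutatorElement_def]; group

/-- If the kernel `R` is a `2`-group of class two with squares in an elementary abelian central
subgroup `Z`, the commutator pairing moves lifts of elements of order three across. -/
theorem commutator_conj_eq (h : OrdersLeFive G) (π : G →* A) (hker : IsPGroup 2 π.ker)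
    (Z : Subgroup G) [Z.Normal] (hle : Z ≤ π.ker)
    (hcent : ∀ k ∈ π.ker, ∀ z ∈ Z, k * z = z * k) (hZ2 : ∀ z ∈ Z, z * z = 1)
    (hcomm : ∀ a ∈ π.ker, ∀ b ∈ π.ker, ⁅a, b⁆ ∈ Z) (hsq : ∀ a ∈ π.ker, a * a ∈ Z)
    {y : G} (hy : orderOf (π y) = 3) {v w : G} (hv : v ∈ π.ker) (hw : w ∈ π.ker) :
    ⁅y * v * y⁻¹, w⁆ = ⁅v, y * w * y⁻¹⁆ := by
  have hc : ∀ {z : G}, z ∈ Z → ∀ {k : G}, k ∈ π.ker → ⁅z, k⁆ = 1 := fun hz k hk =>
    commutatorElement_eq_one_iff_mul_comm.2 (hcent k hk _ hz).symm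
  have hconj : ∀ {k : G}, k ∈ π.ker → y * k * y⁻¹ ∈ π.ker := fun hk => π.normal_ker.conj_mem _ hk y
  -- left and right additivity
  have hadd : ∀ {a b k : G}, a ∈ π.ker → b ∈ π.ker → k ∈ π.ker →
      ⁅a * b, k⁆ = ⁅a, k⁆ * ⁅b, k⁆ := by
    intro a b k ha hb hk
    have h1 := hcent a ha _ (hcomm b hb k hk)
    calc ⁅a * b, k⁆ = a * ⁅b, k⁆ * a⁻¹ * ⁅a, k⁆ := by simp only [commutatorElement_def]; group
      _ = ⁅b, k⁆ * ⁅a, k⁆ := by rw [h1]; group
      _ = ⁅a, k⁆ * ⁅b, k⁆ := hcent _ (hle (hcomm b hb k hk)) _ (hcomm a ha k hk)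
  have hsymm : ∀ {a b : G}, a ∈ π.ker → b ∈ π.ker → ⁅a, b⁆ = ⁅b, a⁆ := fun ha hb => by
    rw [← commutatorElement_inv, inv_eq_of_mul_eq_one_right (hZ2 _ (hcomm _ hb _ ha))]
  have hadd' : ∀ {a b k : G}, a ∈ π.ker → b ∈ π.ker → k ∈ π.ker →
      ⁅k, a * b⁆ = ⁅k, a⁆ * ⁅k, b⁆ := fun ha hb hk => by
    rw [hsymm hk (mul_mem ha hb), hadd ha hb hk, hsymm ha hk, hsymm hb hk]
  -- the last conjugate is the product of the first two, modulo `Z`
  let π' : G ⧸ Z →* A := QuotientGroup.lift Z π hle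
  have hker' : π'.ker = π.ker.map (QuotientGroup.mk' Z) := by
    ext x
    obtain ⟨g, rfl⟩ := QuotientGroup.mk'_surjective Z x
    refine ⟨fun hx => ⟨g, hx, rfl⟩, ?_⟩
    rintro ⟨k, hk, e⟩
    rw [MonoidHom.mem_ker, ← e]
    exact hk
  have hthird : ∀ {k : G}, k ∈ π.ker →
      (k * (y * k * y⁻¹))⁻¹ * (y * (y * k * y⁻¹) * y⁻¹) ∈ Z := by
    intro k hk
    have hk1 := hconj hk
    have hk2 := hconj hk1
    have h1 := orbit_prod_eq_one (h.quotient Z) π' (hker' ▸ hker.map _)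
      (y := (y : G ⧸ Z)) (z := (k : G ⧸ Z)) (by simpa [π'] using hy)
      (hker' ▸ ⟨k, hk, rfl⟩) (by
        show (k : G ⧸ Z) * _ = _ * _
        refine (QuotientGroup.eq_iff_div_mem (N := Z)).2 ?_
        rw [div_eq_mul_inv]
        have := hcomm k hk _ (mul_mem hk1 hk2)
        convert this using 1
        rw [commutatorElement_def]; group)
    have h2 : k * (y * k * y⁻¹) * (y * (y * k * y⁻¹) * y⁻¹) ∈ Z :=
      (QuotientGroup.eq_one_iff _).1 h1
    have h3 := hsq _ (mul_mem hk hk1)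
    have h4 := mul_mem (inv_mem h3) h2
    convert h4 using 1
    group
  set v' := y * v * y⁻¹ with hv'
  set w' := y * w * y⁻¹ with hw'
  have hv1 : v' ∈ π.ker := hconj hv
  have hw1 : w' ∈ π.ker := hconj hw
  have hv2 : y * v' * y⁻¹ ∈ π.ker := hconj hv1
  have hw2 : y * w' * y⁻¹ ∈ π.ker := hconj hw1
  have hsum : ⁅v, w⁆ * ⁅v', w'⁆ * ⁅y * v' * y⁻¹, y * w' * y⁻¹⁆ = 1 := by
    have hz := hcomm v hv w hw
    have h1 : y * ⁅v, w⁆ * y⁻¹ = ⁅v', w'⁆ := conjugate_commutatorElement v w y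
    have h2 : y * ⁅v', w'⁆ * y⁻¹ = ⁅y * v' * y⁻¹, y * w' * y⁻¹⁆ :=
      conjugate_commutatorElement v' w' y
    rw [← h2, ← h1]
    refine orbit_prod_eq_one h π hker hy (hle hz) (hcent _ (hle hz) _ (mul_mem ?_ ?_))
    · exact h1 ▸ hcomm _ hv1 _ hw1
    · rw [h1, h2]; exact hcomm _ hv2 _ hw2
  have hlast : ⁅y * v' * y⁻¹, y * w' * y⁻¹⁆ = ⁅v, w⁆ * ⁅v, w'⁆ * (⁅v', w⁆ * ⁅v', w'⁆) := by
    rw [commutator_congr (a := v * v') (hc (hthird hv) hw2),
      hsymm (mul_mem hv hv1) hw2, commutator_congr (a := w * w') (hc (hthird hw) (mul_mem hv hv1)),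
      ← hsymm (mul_mem hv hv1) (mul_mem hw hw1), hadd hv hv1 (mul_mem hw hw1),
      hadd' hw hw1 hv, hadd' hw hw1 hv1]
  rw [hlast] at hsum
  set p := ⁅v, w⁆
  set q := ⁅v', w'⁆
  set r := ⁅v, w'⁆
  set s := ⁅v', w⁆
  have hp : p ∈ Z := hcomm v hv w hw
  have hq : q ∈ Z := hcomm v' hv1 w' hw1
  have hr : r ∈ Z := hcomm v hv w' hw1
  have hs : s ∈ Z := hcomm v' hv1 w hw
  clear_value p q r s
  have key : p * q * (p * r * (s * q)) = r * s := by
    calc p * q * (p * r * (s * q)) = p * (q * p) * r * s * q := by group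
      _ = (p * p) * (q * (r * s)) * q := by rw [← hcent p (hle hp) q hq]; group
      _ = (p * p) * (r * s) * (q * q) := by
        rw [hcent q (hle hq) _ (mul_mem hr hs)]; group
      _ = r * s := by rw [hZ2 p hp, hZ2 q hq, one_mul, mul_one]
  rw [key] at hsum
  rw [eq_inv_of_mul_eq_one_right hsum, inv_eq_of_mul_eq_one_right (hZ2 r hr)]

end CfsgLib.SpectrumFive
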