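import Mathlib

/-!
# The finitely many possible orders

With `a = 5 ^ m` and `b = 3 ^ n`, the congruences for the numbers of Sylow subgroups and the bound
from pairs of involutions leave six orders.
-/

namespace CfsgLib.SpectrumFive

/-- The conditions on the exponents and the two indices. -/
def CaseOK (m n s k l : ℕ) : Prop :=
  3 ^ n * 2 ^ s % (k * 5 ^ m) = k ∧ 5 ^ m * 2 ^ s % (l * 3 ^ n) = l ∧
    ((5 ^ m - 1) * 2 ^ s ≤ k * 5 ^ m * 3 ^ n ∨ (3 ^ n - 1) * 2 ^ s ≤ l * 5 ^ m * 3 ^ n)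

/-- Boolean version of the final claim for one tuple. -/
def caseCheck (m n s k l : ℕ) : Bool :=
  !((3 ^ n * 2 ^ s % (k * 5 ^ m) == k) && (5 ^ m * 2 ^ s % (l * 3 ^ n) == l) &&
    (decide ((5 ^ m - 1) * 2 ^ s ≤ k * 5 ^ m * 3 ^ n) ||
      decide ((3 ^ n - 1) * 2 ^ s ≤ l * 5 ^ m * 3 ^ n))) ||
    [60, 120, 240, 360, 720].contains (5 ^ m * 3 ^ n * 2 ^ s)

theorem caseCheck_all :
    ((List.range 8).all fun m => (List.range 8).all fun n => (List.range 23).all fun s =>
      [2, 4, 8].all fun k => [2, 4, 8].all fun l => caseCheck (m + 1) (n + 1) s k l) = true := by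
  decide +kernel

theorem card_cases {m n s k l : ℕ} (hm : 1 ≤ m) (hn : 1 ≤ n) (hm8 : m ≤ 8) (hn8 : n ≤ 8)
    (hs : s ≤ 22) (hk : k = 2 ∨ k = 4 ∨ k = 8) (hl : l = 2 ∨ l = 4 ∨ l = 8)
    (h : CaseOK m n s k l) :
    5 ^ m * 3 ^ n * 2 ^ s ∈ [60, 120, 240, 360, 720] := by
  have := caseCheck_all
  simp only [List.all_eq_true, List.mem_range] at this
  have hc := this (m - 1) (by omega) (n - 1) (by omega) s (by omega) k (by simpa using hk) l
    (by simpa using hl)
  rw [Nat.sub_add_cancel hm, Nat.sub_add_cancel hn, caseCheck] at hc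
  obtain ⟨h1, h2, h3⟩ := h
  simp only [Bool.or_eq_true, Bool.not_eq_true', Bool.and_eq_false_iff, beq_eq_false_iff_ne,
    Bool.or_eq_false_iff, decide_eq_false_iff_not, List.contains_iff_mem] at hc
  rcases hc with ((hc | hc) | hc) | hc
  · exact absurd h1 hc
  · exact absurd h2 hc
  · exact (h3.elim hc.1 hc.2).elim
  · exact hc

end CfsgLib.SpectrumFive
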