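import Cfsg.Agent.SpectrumFive.Real
import Cfsg.Agent.Small.Counting

/-!
# Counting Sylow subgroups and involutions when element orders are at most five
-/

set_option autoImplicit false
set_option linter.style.haveILetI false

namespace CfsgLib.SpectrumFive

variable {G : Type*} [Group G] [Finite G] {p : ℕ}

/-- Trivial intersection makes the number of Sylow subgroups one modulo their order. -/
theorem card_sylow_modEq (h : OrdersLeFive G) (hp : p = 3 ∨ p = 5) (P : Sylow p G) :
    Nat.card (Sylow p G) ≡ 1 [MOD Nat.card (P : Subgroup G)] := by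
  classical
  haveI := Fact.mk (prime_of_eq hp)
  let Y : SubMulAction (P : Subgroup G) (Sylow p G) :=
    { carrier := {R | R ≠ P}
      smul_mem' := fun g R hR hgR => hR (by
        have hgP : (g : G)⁻¹ • P = P :=
          Sylow.smul_eq_iff_mem_normalizer.2 (Subgroup.le_normalizer (inv_mem g.2))
        have hgR' : (g : G) • R = P := hgR
        exact (eq_inv_smul_iff.2 hgR').trans hgP) }
  have hfree : ∀ R : Y, MulAction.stabilizer (P : Subgroup G) R = ⊥ := by
    intro R
    refine (Subgroup.eq_bot_iff_forall _).2 fun g hg => Subtype.ext ?_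
    have hgR : (g : G) • (R : Sylow p G) = R := congrArg Subtype.val (MulAction.mem_stabilizer_iff.1 hg)
    have hmem : (g : G) ∈ (P : Subgroup G) ⊓
        Subgroup.normalizer (((R : Sylow p G) : Subgroup G) : Set G) :=
      ⟨g.2, Sylow.smul_eq_iff_mem_normalizer.1 hgR⟩
    have hmem' : (g : G) ∈ (P : Subgroup G) ⊓ ((R : Sylow p G) : Subgroup G) := by
      rwa [← P.isPGroup'.inf_normalizer_sylow (R : Sylow p G)]
    rw [sylow_inf_eq_bot h hp (Ne.symm R.2)] at hmem'
    exact Subgroup.mem_bot.1 hmem'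
  have hY := Nat.card_congr (MulAction.selfEquivOrbitsQuotientProd hfree)
  rw [Nat.card_prod] at hY
  have hsplit : Nat.card (Sylow p G) = Nat.card Y + 1 := by
    rw [← Finite.card_option]
    exact (Nat.card_congr (Equiv.optionSubtypeNe P)).symm
  rw [hsplit, hY, Nat.ModEq, Nat.add_mod, Nat.mul_mod_left, zero_add, Nat.mod_mod]

/-- Orbit counting for the conjugation action on Sylow subgroups. -/
theorem card_sylow_mul_index [Fact p.Prime] (P : Sylow p G) :
    Nat.card (Sylow p G) * ((inN (P : Subgroup G)).index * Nat.card (P : Subgroup G)) =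
      Nat.card G := by
  haveI := Fintype.ofFinite G
  rw [P.card_eq_index_normalizer, ← card_inN (H := (P : Subgroup G)), Subgroup.index_mul_card]
  exact (Subgroup.normalizer ((P : Subgroup G) : Set G)).index_mul_card

/-- Some involution whose centraliser is a Sylow `2`-subgroup. -/
theorem exists_central_involution (h : OrdersLeFive G) (h2 : 2 ∣ Nat.card G) (S : Sylow 2 G) :
    ∃ z : G, orderOf z = 2 ∧
      Nat.card (Subgroup.centralizer ({z} : Set G)) = Nat.card (S : Subgroup G) := by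
  haveI : Fact (Nat.Prime 2) := ⟨Nat.prime_two⟩
  have hne : (S : Subgroup G) ≠ ⊥ := S.ne_bot_of_dvd_card h2
  haveI : Nontrivial (S : Subgroup G) := (Subgroup.nontrivial_iff_ne_bot _).2 hne
  have hcn : Nontrivial (Subgroup.center (S : Subgroup G)) := S.isPGroup'.center_nontrivial
  obtain ⟨n, hn0, hn⟩ := (S.isPGroup'.to_subgroup (Subgroup.center (S : Subgroup G))).nontrivial_iff_card.1 hcn
  obtain ⟨c, hc⟩ := exists_prime_orderOf_dvd_card' (G := Subgroup.center (S : Subgroup G)) 2
    (hn ▸ dvd_pow_self 2 hn0.ne')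
  set z : G := ((c : (S : Subgroup G)) : G) with hz
  have hzo : orderOf z = 2 := by rw [hz, Subgroup.orderOf_coe, Subgroup.orderOf_coe, hc]
  refine ⟨z, hzo, ?_⟩
  have hle : (S : Subgroup G) ≤ Subgroup.centralizer ({z} : Set G) := fun s hs =>
    Subgroup.mem_centralizer_singleton_iff.2
      (congrArg Subtype.val (Subgroup.mem_center_iff.1 c.2 ⟨s, hs⟩))
  have hC : IsPGroup 2 (Subgroup.centralizer ({z} : Set G)) := fun y => ⟨2, Subtype.ext
    (pow_four_eq_one_of_commute h hzo (Subgroup.mem_centralizer_singleton_iff.1 y.2).symm)⟩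
  rw [S.3 hC hle]

/-- An involution inverting no element of order three or five lies in a normal `2`-subgroup. -/
theorem mem_normal_two (h : OrdersLeFive G) {z : G} (hz : orderOf z = 2)
    (hno : ∀ x : G, orderOf x = 3 ∨ orderOf x = 5 → z * x * z⁻¹ ≠ x⁻¹) :
    ∃ N : Subgroup G, N.Normal ∧ IsPGroup 2 N ∧ z ∈ N := by
  haveI : Fact (Nat.Prime 2) := ⟨Nat.prime_two⟩
  refine CfsgLib.Small.baerSuzuki_elem (p := 2) z fun g => ?_
  have hzz : z * z = 1 := by rw [← pow_two, ← hz, pow_orderOf_eq_one]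
  have hzi : z⁻¹ = z := inv_eq_of_mul_eq_one_right hzz
  set v := g * z * g⁻¹ with hv
  have hvv : v * v = 1 := by
    rw [hv, show g * z * g⁻¹ * (g * z * g⁻¹) = g * (z * z) * g⁻¹ by group, hzz, mul_one,
      mul_inv_cancel]
  have hinv : z * (z * v) * z⁻¹ = (z * v)⁻¹ := by
    rw [mul_inv_rev, hzi, inv_eq_of_mul_eq_one_right hvv, ← mul_assoc, hzz, one_mul]
  refine isPGroup_closure_pair hzz hvv ?_
  rw [← orderOf_dvd_iff_pow_eq_one]
  have h5' := h (z * v)
  have h0 := orderOf_pos (z * v)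
  by_contra hne
  generalize hm : orderOf (z * v) = m at h5' h0 hne
  interval_cases m <;> first | (revert hne; decide) | skip
  · exact hno _ (Or.inl hm) hinv
  · exact hno _ (Or.inr hm) hinv

/-- In a non-abelian simple group every involution inverts an element of order three or five. -/
theorem exists_inverted [IsSimpleGroup G] (h : OrdersLeFive G) (hG : ¬ IsMulCommutative G) {z : G}
    (hz : orderOf z = 2) :
    (∃ x : G, orderOf x = 3 ∧ z * x * z⁻¹ = x⁻¹) ∨ ∃ x : G, orderOf x = 5 ∧ z * x * z⁻¹ = x⁻¹ := by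
  by_contra hcon
  rw [not_or] at hcon
  obtain ⟨N, hN, hN2, hzN⟩ := mem_normal_two h hz fun x hx hinv =>
    hx.elim (fun e => hcon.1 ⟨x, e, hinv⟩) fun e => hcon.2 ⟨x, e, hinv⟩
  rcases hN.eq_bot_or_eq_top with e | e <;> subst e
  · rw [Subgroup.mem_bot.1 hzN, orderOf_one] at hz
    omega
  · haveI : Fact (Nat.Prime 2) := ⟨Nat.prime_two⟩
    haveI := hN2.isNilpotent
    haveI : Group.IsNilpotent G := Group.nilpotent_of_mulEquiv (Subgroup.topEquiv (G := G))
    exact hG ⟨⟨IsSimpleGroup.comm_iff_isSolvable.2 inferInstance⟩⟩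

/-- If an involution inverts an element of order `p`, pairs of its conjugates account for all
elements of order `p`, each as often as the order of a Sylow `p`-subgroup. -/
theorem card_pairs_le (h : OrdersLeFive G) (hp : p = 3 ∨ p = 5) (P : Sylow p G) {z x : G}
    (hz : orderOf z = 2) (hx : orderOf x = p) (hinv : z * x * z⁻¹ = x⁻¹) :
    Nat.card (Sylow p G) * ((Nat.card (P : Subgroup G) - 1) * Nat.card (P : Subgroup G)) ≤
      Nat.card {g : G // IsConj z g} ^ 2 := by
  classical
  haveI := Fact.mk (prime_of_eq hp)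
  haveI := Fintype.ofFinite G
  obtain ⟨R₀, hR₀⟩ := IsPGroup.exists_le_sylow (G := G) (p := p) (P := Subgroup.zpowers x)
    (isPGroup_zpowers x (by rw [← hx, pow_orderOf_eq_one]))
  have hzN : z ∈ Subgroup.normalizer ((R₀ : Subgroup G) : Set G) := by
    by_contra hzN
    have hxR := hR₀ (Subgroup.mem_zpowers x)
    exact (prime_of_eq hp).ne_one (by
      rw [← hx, sylow_ti h hp R₀ z hzN x hxR (hinv ▸ inv_mem hxR), orderOf_one])
  have hcover : ∀ R : Sylow p G, ∃ u : G, IsConj z u ∧
      u ∈ Subgroup.normalizer ((R : Subgroup G) : Set G) := by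
    intro R
    obtain ⟨g, rfl⟩ := MulAction.exists_smul_eq G R₀ R
    refine ⟨g * z * g⁻¹, isConj_iff.2 ⟨g, rfl⟩, Sylow.smul_eq_iff_mem_normalizer.1 ?_⟩
    rw [mul_smul, mul_smul, inv_smul_smul, Sylow.smul_eq_iff_mem_normalizer.2 hzN]
  choose u huz huN using hcover
  have hconjord : ∀ {v : G}, IsConj z v → orderOf v = 2 := by
    intro v hv
    obtain ⟨g, rfl⟩ := isConj_iff.1 hv
    rw [← MulAut.conj_apply, MulEquiv.orderOf_eq, hz]
  have huinv : ∀ (R : Sylow p G), ∀ r ∈ (R : Subgroup G), u R * r * (u R)⁻¹ = r⁻¹ := fun R r hr =>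
    conj_eq_inv_of_involution h hp R.isPGroup' (hconjord (huz R)) (huN R) hr
  let D : Type _ := Σ R : Sylow p G, {y : (R : Subgroup G) // y ≠ 1} × (R : Subgroup G)
  let f : D → {g : G // IsConj z g} × {g : G // IsConj z g} := fun d =>
    (⟨(d.2.2 : G) * u d.1 * (d.2.2 : G)⁻¹, (huz d.1).trans (isConj_iff.2 ⟨_, rfl⟩)⟩,
      ⟨(d.2.2 : G) * u d.1 * (d.2.2 : G)⁻¹ * (d.2.1 : G), (huz d.1).trans (isConj_iff.2
        ⟨(d.2.2 : G) * ((d.2.1.1 : G) ^ ((p + 1) / 2))⁻¹, by
          obtain ⟨R, ⟨⟨y, hy⟩, hy1⟩, ⟨r, hr⟩⟩ := d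
          simp only
          have hyp : y ^ p = 1 := by
            rw [← orderOf_eq_of_mem h hp R.isPGroup' hy (fun e => hy1 (Subtype.ext e)),
              pow_orderOf_eq_one]
          set s := y ^ ((p + 1) / 2) with hs
          have hss : s * s = y := by
            rw [hs, ← pow_add, show (p + 1) / 2 + (p + 1) / 2 = p + 1 by
              rcases hp with rfl | rfl <;> norm_num, pow_succ, hyp, one_mul]
          obtain ⟨t, -, -, hab, -, -⟩ := real_structure h hp ⟨x, z, hx, hinv⟩ R
          have hus := huinv R s (pow_mem hy _)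
          calc r * s⁻¹ * u R * (r * s⁻¹)⁻¹ = r * (s⁻¹ * u R * s) * r⁻¹ := by group
            _ = r * (u R * s * s) * r⁻¹ := by
              rw [← hus]; group
            _ = r * u R * (y * r⁻¹) := by rw [mul_assoc (u R), hss]; group
            _ = r * u R * (r⁻¹ * y) := by rw [hab y hy _ (inv_mem hr)]
            _ = r * u R * r⁻¹ * y := by rw [mul_assoc (r * u R)]⟩)⟩)
  have hf : Function.Injective f := by
    rintro ⟨R, ⟨⟨y, hy⟩, hy1⟩, ⟨r, hr⟩⟩ ⟨R', ⟨⟨y', hy'⟩, hy1'⟩, ⟨r', hr'⟩⟩ e
    simp only [f, Prod.mk.injEq, Subtype.mk.injEq] at e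
    obtain ⟨e1, e2⟩ := e
    rw [e1, mul_right_inj] at e2
    subst e2
    obtain rfl := sylow_eq_of_mem h hp hy hy' fun e => hy1 (Subtype.ext e)
    have hw : r'⁻¹ * r ∈ (R : Subgroup G) := mul_mem (inv_mem hr') hr
    have hfix : u R * (r'⁻¹ * r) * (u R)⁻¹ = r'⁻¹ * r := by
      calc u R * (r'⁻¹ * r) * (u R)⁻¹
          = r'⁻¹ * (r' * u R * r'⁻¹) * r * (u R)⁻¹ := by group
        _ = r'⁻¹ * (r * u R * r⁻¹) * r * (u R)⁻¹ := by rw [e1]
        _ = r'⁻¹ * r := by group
    rw [huinv R _ hw] at hfix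
    have h1 : r'⁻¹ * r = 1 := by
      by_contra hne
      have ho := orderOf_eq_of_mem h hp R.isPGroup' hw hne
      have h2 : orderOf (r'⁻¹ * r) ∣ 2 := orderOf_dvd_of_pow_eq_one (by
        rw [pow_two]; nth_rw 1 [← hfix]; rw [inv_mul_cancel])
      rw [ho] at h2
      rcases hp with rfl | rfl <;> norm_num at h2
    obtain rfl := inv_mul_eq_one.1 h1
    rfl
  have hcard := Nat.card_le_card_of_injective f hf
  rw [Nat.card_prod, ← pow_two, Nat.card_sigma] at hcard
  refine le_trans (le_of_eq ?_) hcard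
  have heach : ∀ R : Sylow p G, Nat.card ({y : (R : Subgroup G) // y ≠ 1} × (R : Subgroup G)) =
      (Nat.card (P : Subgroup G) - 1) * Nat.card (P : Subgroup G) := by
    intro R
    have hRP : Nat.card (R : Subgroup G) = Nat.card (P : Subgroup G) := by
      rw [R.card_eq_multiplicity, P.card_eq_multiplicity]
    rw [Nat.card_prod, ← hRP]
    congr 1
    have h1 : Nat.card {y : (R : Subgroup G) // y ≠ 1} + 1 = Nat.card (R : Subgroup G) := by
      rw [← Finite.card_option]
      exact Nat.card_congr (Equiv.optionSubtypeNe 1)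
    omega
  rw [Finset.sum_congr rfl fun R _ => heach R, Finset.sum_const, Finset.card_univ, smul_eq_mul,
    Nat.card_eq_fintype_card]

end CfsgLib.SpectrumFive
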