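import Cfsg.Agent.SpectrumFive.Counting
import Cfsg.Agent.Characters.Integrality
import Mathlib.NumberTheory.Multiplicity

/-!
# The degrees bound the odd Sylow subgroups

A non-principal character meeting a Sylow `p`-subgroup `P` has degree a power of two, congruent to
a signed power of two modulo `|P|`, so `|P|` divides some `4 ^ u - 1`.
-/

set_option autoImplicit false
set_option linter.style.haveILetI false

namespace CfsgLib.SpectrumFive

open CfsgLib.Characters

universe u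

lemma dvd_four_pow_sub_one {a : ℕ} (ha3 : 3 ≤ a) (ha : Nat.Coprime a 2) {i j : ℕ} {γ : ℤ}
    (hγ : γ = 2 ^ j ∨ γ = -2 ^ j) (hd : (a : ℤ) ∣ 2 ^ i - γ) (hne : (2 : ℤ) ^ i ≠ γ) :
    ∃ v, 1 ≤ v ∧ v ≤ i + j ∧ (a : ℤ) ∣ 4 ^ v - 1 := by
  have hco : ∀ n : ℕ, IsCoprime (a : ℤ) (2 ^ n) := fun n => by
    refine IsCoprime.pow_right ?_
    exact_mod_cast Nat.isCoprime_iff_coprime.2 ha
  rcases hγ with rfl | rfl
  · obtain ⟨v, hv | hv⟩ : ∃ v, i = j + v ∨ j = i + v := by
      rcases le_total i j with h | h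
      exacts [⟨j - i, Or.inr (by omega)⟩, ⟨i - j, Or.inl (by omega)⟩]
    · subst hv
      have hv0 : 1 ≤ v := by
        rcases Nat.eq_zero_or_pos v with rfl | h
        · exact absurd rfl hne
        · exact h
      refine ⟨v, hv0, by omega, ?_⟩
      rw [show (2 : ℤ) ^ (j + v) - 2 ^ j = (2 ^ v - 1) * 2 ^ j by rw [pow_add]; ring] at hd
      rw [show (4 : ℤ) ^ v - 1 = (2 ^ v - 1) * (2 ^ v + 1) by
        rw [show (4 : ℤ) = 2 * 2 by norm_num, mul_pow]; ring]
      exact ((hco j).dvd_of_dvd_mul_right hd).mul_right _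
    · subst hv
      have hv0 : 1 ≤ v := by
        rcases Nat.eq_zero_or_pos v with rfl | h
        · exact absurd rfl hne
        · exact h
      refine ⟨v, hv0, by omega, ?_⟩
      rw [show (2 : ℤ) ^ i - 2 ^ (i + v) = -(2 ^ v - 1) * 2 ^ i by rw [pow_add]; ring] at hd
      rw [show (4 : ℤ) ^ v - 1 = (2 ^ v - 1) * (2 ^ v + 1) by
        rw [show (4 : ℤ) = 2 * 2 by norm_num, mul_pow]; ring]
      exact (dvd_neg.1 ((hco i).dvd_of_dvd_mul_right hd)).mul_right _
  · obtain ⟨v, hv | hv⟩ : ∃ v, i = j + v ∨ j = i + v := by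
      rcases le_total i j with h | h
      exacts [⟨j - i, Or.inr (by omega)⟩, ⟨i - j, Or.inl (by omega)⟩]
    all_goals
      subst hv
      first
      | rw [show (2 : ℤ) ^ (j + v) - -2 ^ j = (2 ^ v + 1) * 2 ^ j by rw [pow_add]; ring] at hd
        have hd' := (hco j).dvd_of_dvd_mul_right hd
      | rw [show (2 : ℤ) ^ i - -2 ^ (i + v) = (2 ^ v + 1) * 2 ^ i by rw [pow_add]; ring] at hd
        have hd' := (hco i).dvd_of_dvd_mul_right hd
      rcases Nat.eq_zero_or_pos v with rfl | h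
      · exfalso
        have := Int.le_of_dvd (by norm_num) hd'
        norm_num at this
        omega
      refine ⟨v, h, by omega, ?_⟩
      rw [show (4 : ℤ) ^ v - 1 = (2 ^ v - 1) * (2 ^ v + 1) by
        rw [show (4 : ℤ) = 2 * 2 by norm_num, mul_pow]; ring]
      exact hd'.mul_left _

/-- A power of three or five dividing `4 ^ v - 1` is small against `v`. -/
lemma pow_le_mul_of_dvd {p m v : ℕ} (hp : p = 3 ∨ p = 5) (hv : 1 ≤ v)
    (hd : p ^ m ∣ 4 ^ v - 1) : p ^ m ≤ p * v := by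
  haveI := Fact.mk (prime_of_eq hp)
  set x := 4 ^ (p - 1) with hx
  have hd' : p ^ m ∣ x ^ v - 1 ^ v := by
    rw [one_pow, hx, ← pow_mul, mul_comm, pow_mul]
    exact hd.trans (Nat.sub_one_dvd_pow_sub_one (4 ^ v) (p - 1))
  have hodd : Odd p := by rcases hp with rfl | rfl <;> decide
  have hlt : 1 < x := by rcases hp with rfl | rfl <;> norm_num [hx]
  have hdx : p ∣ x - 1 := by rcases hp with rfl | rfl <;> norm_num [hx]
  have hnx : ¬ p ∣ x := by rcases hp with rfl | rfl <;> norm_num [hx]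
  have hval := padicValNat.pow_sub_pow (p := p) hodd hlt hdx hnx (n := v) (by omega)
  have hne : x ^ v - 1 ^ v ≠ 0 := Nat.sub_ne_zero_of_lt (Nat.pow_lt_pow_left hlt (by omega))
  have hm : m ≤ padicValNat p (x ^ v - 1 ^ v) := (padicValNat_dvd_iff_le hne).1 hd'
  have hx1 : padicValNat p (x - 1) ≤ 1 := by
    by_contra hcon
    have : p ^ 2 ∣ x - 1 := (padicValNat_dvd_iff_le (by omega)).2 (by omega)
    rcases hp with rfl | rfl <;> norm_num [hx] at this
  calc p ^ m ≤ p ^ (1 + padicValNat p v) :=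
        Nat.pow_le_pow_right (prime_of_eq hp).pos (by omega)
    _ = p * p ^ padicValNat p v := by rw [pow_add, pow_one]
    _ ≤ p * v := Nat.mul_le_mul_left p (Nat.le_of_dvd (by omega) pow_padicValNat_dvd)

variable {G : Type u} [Group G] [Finite G]

/-- The order of a Sylow `3`- or `5`-subgroup is at most `p ^ 8` or at most `p (s + 3)`, where
`2 ^ s` is the order of a Sylow `2`-subgroup. -/
theorem card_sylow_le [IsSimpleGroup G] (h : OrdersLeFive G) {p q : ℕ}
    (hpq : p = 3 ∧ q = 5 ∨ p = 5 ∧ q = 3) (hr : IsReal G p) (hdq : q ∣ Nat.card G) {s m n : ℕ}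
    (hcard : Nat.card G = p ^ m * q ^ n * 2 ^ s) (P : Sylow p G)
    (hPc : Nat.card (P : Subgroup G) = p ^ m) (hm : 1 ≤ m) :
    p ^ m ≤ p ^ 8 ∨ p ^ m ≤ p * (s + 3) := by
  classical
  haveI := Fintype.ofFinite G
  have hp : p = 3 ∨ p = 5 := by omega
  haveI := Fact.mk (prime_of_eq hp)
  have hpp : p.Prime := Fact.out
  have hqp : q.Prime := by rcases hpq with ⟨-, rfl⟩ | ⟨-, rfl⟩ <;> norm_num
  obtain ⟨t, -, -, hab, hw8, hw2⟩ := real_structure h hp hr P
  have hexp : ∀ x ∈ (P : Subgroup G), x ^ p = 1 := fun x hx => by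
    by_cases hx1 : x = 1
    · rw [hx1, one_pow]
    · rw [← orderOf_eq_of_mem h hp P.isPGroup' hx hx1, pow_orderOf_eq_one]
  have hne : (P : Subgroup G) ≠ ⊥ := by
    intro e
    rw [e, Subgroup.card_bot] at hPc
    exact absurd hPc (Nat.one_lt_pow (by omega) hpp.one_lt).ne
  have hp8 : ∀ k : ℕ, k ≤ 8 → p ^ k ≤ p ^ 8 := fun k hk => Nat.pow_le_pow_right hpp.pos hk
  rcases exists_beta_degree (ti_sylow h hp P) hab hexp hpp.ne_zero hne with hsmall | ⟨χ, hχ, hdeg⟩
  · left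
    rw [hPc] at hsmall
    have hw := Nat.le_of_dvd (by norm_num) hw8
    refine hsmall.trans (max_le ?_ (hp8 _ hw))
    refine le_trans ?_ (show 3 ^ 8 ≤ p ^ 8 from Nat.pow_le_pow_left (by omega) 8)
    nlinarith
  right
  obtain ⟨A, hAexp, hA⟩ := exists_int_coeff (isGen_beta (H := (P : Subgroup G)) hχ.1)
  choose d hdpos hd using fun η : Cfsg.IrrCharacter G => exists_degree_pos η.2
  let one' : Cfsg.IrrCharacter G := ⟨fun _ => 1, isIrr_one⟩
  have hsum : ∑ η, A η * (d η : ℤ) = 0 := by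
    have := congrFun hAexp 1
    rw [beta_one hχ.2.1, Finset.sum_apply] at this
    have h' : ((∑ η, A η * (d η : ℤ) : ℤ) : ℂ) = 0 := by
      push_cast
      simpa [hd, smul_eq_mul] using this.symm
    exact_mod_cast h'
  have hA1 : A one' = 1 := by exact_mod_cast (hA one').symm.trans (classInner_beta_one hχ)
  have hd1 : d one' = 1 := by
    have h' : (d one' : ℂ) = 1 := (hd one').symm
    exact_mod_cast h'
  obtain ⟨η, hη1, hηA, hηq⟩ : ∃ η, η ≠ one' ∧ A η ≠ 0 ∧ ¬ q ∣ d η := by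
    by_contra hcon
    push Not at hcon
    rw [← Finset.add_sum_erase Finset.univ _ (Finset.mem_univ one'), hA1, hd1] at hsum
    have hdiv : (q : ℤ) ∣ ∑ η ∈ Finset.univ.erase one', A η * (d η : ℤ) := by
      refine Finset.dvd_sum fun η hη => ?_
      by_cases h0 : A η = 0
      · simp [h0]
      · exact (Int.natCast_dvd_natCast.2 (hcon η (Finset.ne_of_mem_erase hη) h0)).mul_left _
    rw [show ∑ η ∈ Finset.univ.erase one', A η * (d η : ℤ) = -1 by push_cast at hsum; linarith,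
      Int.natCast_dvd] at hdiv
    exact hqp.ne_one (Nat.dvd_one.1 hdiv)
  obtain ⟨γ, hγ, hdvd, hγne⟩ := hdeg η.1 (A η) (d η : ℤ) η.2
    (fun e => hη1 (Subtype.ext e)) (hA η) hηA (by rw [hd]; norm_cast)
  -- `γ` is a signed power of two
  obtain ⟨j, hj, hγj⟩ : ∃ j, j ≤ 3 ∧ (γ = 2 ^ j ∨ γ = -2 ^ j) := by
    obtain ⟨k, hk, hwk⟩ := (Nat.dvd_prime_pow Nat.prime_two).1 (show _ ∣ 2 ^ 3 from hw8)
    rcases hγ with ⟨hle, rfl⟩ | hsq
    · have hle8 : A η ^ 2 ≤ 8 := le_trans hle (by exact_mod_cast Nat.le_of_dvd (by norm_num) hw8)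
      have h1 : -3 < A η := by nlinarith
      have h2 : A η < 3 := by nlinarith
      interval_cases hAv : A η
      · exact ⟨1, by norm_num, Or.inr (by norm_num)⟩
      · exact ⟨0, by norm_num, Or.inr (by norm_num)⟩
      · exact absurd rfl hηA
      · exact ⟨0, by norm_num, Or.inl (by norm_num)⟩
      · exact ⟨1, by norm_num, Or.inl (by norm_num)⟩
    · refine ⟨k, hk, ?_⟩
      rcases sq_eq_sq_iff_eq_or_eq_neg.1 hsq with e | e
      · exact Or.inl (by rw [e, hwk]; norm_num)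
      · exact Or.inr (by rw [e, hwk]; norm_num)
  -- so the degree is a power of two
  have hpd : ¬ p ∣ d η := by
    intro hpd
    have h1 : (p : ℤ) ∣ γ := by
      have h2 : (p : ℤ) ∣ (d η : ℤ) - γ := (Int.natCast_dvd_natCast.2
        (dvd_pow_self p (by omega : m ≠ 0))).trans (hPc ▸ hdvd)
      have := dvd_sub (Int.natCast_dvd_natCast.2 hpd) h2
      rwa [sub_sub_cancel] at this
    have h2 : (p : ℤ) ∣ 2 ^ j := by rcases hγj with rfl | rfl; exacts [h1, dvd_neg.1 h1]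
    have h3 : p ∣ 2 := hpp.dvd_of_dvd_pow (m := 2) (n := j) (by exact_mod_cast h2)
    have := Nat.le_of_dvd two_pos h3
    omega
  have hdG : d η ∣ p ^ m * q ^ n * 2 ^ s := by
    obtain ⟨N, ρ, hρ, hρχ⟩ := η.2
    have h1 : ρ.character 1 = (d η : ℂ) := by rw [← hd η, hρχ]
    rw [Representation.char_one] at h1
    rw [← Nat.cast_inj.1 h1, ← hcard]
    exact finrank_dvd_card ρ
  have hd2 : d η ∣ 2 ^ s := by
    refine Nat.Coprime.dvd_of_dvd_mul_left (Nat.Coprime.mul_right ?_ ?_) hdG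
    · exact (Nat.Coprime.pow_right _ ((hpp.coprime_iff_not_dvd.2 hpd).symm))
    · exact (Nat.Coprime.pow_right _ ((hqp.coprime_iff_not_dvd.2 hηq).symm))
  obtain ⟨i, hi, hdi⟩ := (Nat.dvd_prime_pow Nat.prime_two).1 hd2
  rw [hdi, hPc] at hdvd
  rw [hdi] at hγne
  push_cast at hdvd hγne
  have hcop : Nat.Coprime (p ^ m) 2 := Nat.Coprime.pow_left _ (by
    rcases hp with rfl | rfl <;> norm_num)
  have h3 : 3 ≤ p ^ m := le_trans (by omega : 3 ≤ p) (Nat.le_self_pow (by omega) p)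
  obtain ⟨v, hv1, hv2, hv⟩ := dvd_four_pow_sub_one h3 hcop hγj (by exact_mod_cast hdvd) hγne
  have hv' : p ^ m ∣ 4 ^ v - 1 := by
    rw [← Int.natCast_dvd_natCast, Nat.cast_sub (Nat.one_le_pow _ _ (by norm_num))]
    exact_mod_cast hv
  exact (pow_le_mul_of_dvd hp hv1 hv').trans (Nat.mul_le_mul_left p (by omega))

end CfsgLib.SpectrumFive
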