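import Cfsg.Agent.SpectrumFive.TIVirtual

/-!
# Degrees of the characters meeting an abelian trivial intersection subgroup

For an abelian `H` of prime exponent `p` in a simple group, `a = |H|` and `w = [N(H) : H]`, either
`a` is bounded in terms of `w`, or every non-principal character occurring in `beta H χ` has degree
congruent to, and different from, a small integer modulo `a`.
-/

set_option autoImplicit false
set_option linter.style.haveILetI false

namespace CfsgLib.SpectrumFive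

open CfsgLib.Characters
open CfsgLib.OddOrderChar (conjBy conjBy_apply conjBy_one conjBy_mul)
open CfsgLib.CharactersDeep.Clifford (orbit mem_orbit)
open scoped ComplexConjugate

universe u

variable {G : Type u} [Group G]

section Faithful

variable [Fintype G]

/-- A non-principal irreducible character of a simple group is faithful. -/
theorem eq_one_of_apply_eq_one [IsSimpleGroup G] {Θ : G → ℂ} (hΘ : Cfsg.IsIrrCharacter G Θ)
    (hne : Θ ≠ fun _ => 1) {g : G} (hg : Θ g = Θ 1) : g = 1 := by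
  obtain ⟨n, ρ, hρ, rfl⟩ := hΘ
  by_contra hg1
  have hmem : g ∈ MonoidHom.ker ρ :=
    MonoidHom.mem_ker.2 ((char_eq_finrank_iff ρ g).1 (hg.trans ρ.char_one))
  have htop : MonoidHom.ker ρ = ⊤ :=
    (inferInstance : (MonoidHom.ker ρ).Normal).eq_bot_or_eq_top.resolve_left fun h => hg1 (by
      rw [h] at hmem
      exact Subgroup.mem_bot.1 hmem)
  have hconst : ρ.character = ρ.character 1 • fun _ : G => (1 : ℂ) := funext fun x => by
    have hx : ρ x = 1 := MonoidHom.mem_ker.1 (htop ▸ Subgroup.mem_top x)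
    simp only [Representation.character, Pi.smul_apply, smul_eq_mul, mul_one, hx, map_one]
  have h0 : Cfsg.classInner ρ.character (fun _ => 1) = 0 :=
    classInner_isIrr_ne ⟨n, ρ, hρ, rfl⟩ isIrr_one hne
  rw [hconst, classInner_smul_left, classInner_isIrr_self isIrr_one, mul_one] at h0
  exact irr_one_ne_zero ⟨n, ρ, hρ, rfl⟩ h0

/-- A simple non-abelian group has only the principal linear character. -/
theorem eq_one_of_degree_one [IsSimpleGroup G] (hG : ¬ IsMulCommutative G) {Θ : G → ℂ}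
    (hΘ : Cfsg.IsIrrCharacter G Θ) (h1 : Θ 1 = 1) : Θ = fun _ => 1 := by
  by_contra hne
  obtain ⟨f, hf⟩ := exists_hom_of_degree_one (isCharacter_of_isIrr hΘ) h1
  refine hG ⟨⟨fun a b => ?_⟩⟩
  refine (eq_of_mul_inv_eq_one (eq_one_of_apply_eq_one hΘ hne (g := a * b * (b * a)⁻¹) ?_))
  rw [h1, hf]
  simp only [map_mul, map_inv, mul_comm (f b) (f a), mul_inv_cancel, Units.val_one]

end Faithful

variable [Fintype G] {H : Subgroup G}

/-- The restriction to `H`. -/
def res (H : Subgroup G) (Θ : G → ℂ) : inN H → ℂ :=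
  fun x => Θ ((x : Subgroup.normalizer (H : Set G)) : G)

lemma isCharacter_res {Θ : G → ℂ} (hΘ : Cfsg.IsIrrCharacter G Θ) :
    Cfsg.IsCharacter (inN H) (res H Θ) :=
  isCharacter_restrict (inN H) (isCharacter_restrict _ (isCharacter_of_isIrr hΘ))

/-- The multiplicity of `χ` in the restriction of `Θ`. -/
lemma exists_mult {Θ : G → ℂ} (hΘ : Cfsg.IsIrrCharacter G Θ) {χ : inN H → ℂ}
    (hχ : Cfsg.IsCharacter (inN H) χ) : ∃ m : ℕ, Cfsg.classInner χ (res H Θ) = m :=
  classInner_characters hχ (isCharacter_res hΘ)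

lemma classInner_res_conjBy {Θ : G → ℂ} (hΘ : Cfsg.IsIrrCharacter G Θ) (χ : inN H → ℂ)
    (g : Subgroup.normalizer (H : Set G)) :
    Cfsg.classInner (conjBy (inN H) χ g) (res H Θ) = Cfsg.classInner χ (res H Θ) := by
  rw [classInner_conj_symm (res H Θ), classInner_conj_symm (res H Θ) χ]
  exact congrArg conj (CfsgLib.CharactersDeep.Clifford.classInner_restrict_conjBy (inN H)
    (χ := fun x : Subgroup.normalizer (H : Set G) => Θ x)
    (fun x y => isClassFunction_of_isIrr hΘ (x : G) (y : G)) χ g)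

lemma isClassFunction_one_sub {χ : inN H → ℂ} (hχ : Cfsg.IsIrrCharacter (inN H) χ) :
    Cfsg.IsClassFunction (inN H) ((fun _ => 1) - χ) := fun x y => by
  simp only [Pi.sub_apply, isClassFunction_of_isIrr hχ x y]

/-- All irreducible characters of an abelian group are linear. -/
lemma irr_apply_one {A : Type u} [Group A] [Fintype A] (hA : ∀ a b : A, a * b = b * a)
    (χ : Cfsg.IrrCharacter A) : (χ : A → ℂ) 1 = 1 := by
  classical
  have hc : commutator A = ⊥ := by
    rw [commutator_def, Subgroup.commutator_eq_bot_iff_le_centralizer]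
    exact fun x _ => Subgroup.mem_centralizer_iff.2 fun y _ => hA y x
  have hlin := card_linear_char (G := A)
  rw [hc, Subgroup.index_bot, Nat.card_eq_fintype_card, Fintype.card_subtype] at hlin
  by_contra hne
  have hsum := sum_degree_sq (G := A)
  choose d hd0 hd using fun η : Cfsg.IrrCharacter A => exists_degree_pos η.2
  simp only [hd] at hsum hlin hne
  have hsum' : ∑ η, d η ^ 2 = Nat.card A := by exact_mod_cast hsum
  simp only [Nat.cast_eq_one] at hlin hne
  have hlt : (Finset.univ.filter fun η => d η = 1).card < ∑ η, d η ^ 2 := by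
    rw [← Finset.sum_filter_add_sum_filter_not Finset.univ (fun η => d η = 1)]
    refine lt_of_le_of_lt (le_of_eq ?_) (Nat.lt_add_of_pos_right ?_)
    · rw [Finset.sum_congr rfl (g := fun _ => 1) fun η hη => by rw [(Finset.mem_filter.1 hη).2, one_pow],
        Finset.card_eq_sum_ones]
    · exact Finset.sum_pos (fun η _ => pow_pos (hd0 η) 2)
        ⟨χ, Finset.mem_filter.2 ⟨Finset.mem_univ _, hne⟩⟩
  rw [hlin, hsum'] at hlt
  exact lt_irrefl _ hlt

/-- On an abelian `H` the restriction of `Θ` is the sum of the linear characters with their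
multiplicities. -/
lemma res_eq_sum (hab : ∀ a ∈ H, ∀ b ∈ H, a * b = b * a) {Θ : G → ℂ}
    (hΘ : Cfsg.IsIrrCharacter G Θ) :
    res H Θ = ∑ χ : Cfsg.IrrCharacter (inN H),
      Cfsg.classInner (χ : inN H → ℂ) (res H Θ) • (χ : inN H → ℂ) := by
  conv_lhs => rw [character_expansion (isCharacter_res hΘ)]
  refine Finset.sum_congr rfl fun χ _ => ?_
  obtain ⟨m, hm⟩ := exists_mult hΘ (isCharacter_of_isIrr χ.2)
  rw [classInner_conj_symm (χ : inN H → ℂ), hm, Complex.conj_natCast]

lemma comm_inN (hab : ∀ a ∈ H, ∀ b ∈ H, a * b = b * a) (a b : inN H) : a * b = b * a :=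
  Subtype.ext (Subtype.ext (hab _ a.2 _ b.2))

lemma degree_eq_sum (hab : ∀ a ∈ H, ∀ b ∈ H, a * b = b * a) {Θ : G → ℂ}
    (hΘ : Cfsg.IsIrrCharacter G Θ) :
    Θ 1 = ∑ χ : Cfsg.IrrCharacter (inN H), Cfsg.classInner (χ : inN H → ℂ) (res H Θ) := by
  have h := congrFun (res_eq_sum hab hΘ) 1
  rw [Finset.sum_apply] at h
  refine Eq.trans (show Θ 1 = res H Θ 1 from rfl) (h.trans (Finset.sum_congr rfl fun χ _ => ?_))
  rw [Pi.smul_apply, smul_eq_mul, irr_apply_one (comm_inN hab) χ, mul_one]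

/-- If no nontrivial linear character occurs in `Θ` on `H`, then `H` is in the kernel. -/
lemma apply_eq_of_mult_zero (hab : ∀ a ∈ H, ∀ b ∈ H, a * b = b * a) {Θ : G → ℂ}
    (hΘ : Cfsg.IsIrrCharacter G Θ)
    (h0 : ∀ χ : inN H → ℂ, IsNontrivLinear χ → Cfsg.classInner χ (res H Θ) = 0) (x : inN H) :
    res H Θ x = res H Θ 1 := by
  rw [res_eq_sum hab hΘ, Finset.sum_apply, Finset.sum_apply]
  refine Finset.sum_congr rfl fun χ _ => ?_
  by_cases h : (χ : inN H → ℂ) = fun _ => 1
  · rw [h]; rfl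
  · simp [h0 χ.1 ⟨χ.2, irr_apply_one (comm_inN hab) χ, h⟩]

/-- A non-principal irreducible character of a simple group has degree at least `[N(H) : H]`. -/
theorem index_le_degree [IsSimpleGroup G] (hH : TI H) (hab : ∀ a ∈ H, ∀ b ∈ H, a * b = b * a)
    (hne : H ≠ ⊥) {Θ : G → ℂ} (hΘ : Cfsg.IsIrrCharacter G Θ) (h1 : Θ ≠ fun _ => 1) {d : ℕ}
    (hd : Θ 1 = d) : (inN H).index ≤ d := by
  classical
  obtain ⟨χ, hχ, hm⟩ : ∃ χ : inN H → ℂ, IsNontrivLinear χ ∧ Cfsg.classInner χ (res H Θ) ≠ 0 := by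
    by_contra hcon
    push Not at hcon
    obtain ⟨x, hx, hx1⟩ := (Subgroup.bot_or_exists_ne_one H).resolve_left hne
    exact hx1 (eq_one_of_apply_eq_one hΘ h1
      (apply_eq_of_mult_zero hab hΘ hcon ⟨⟨x, Subgroup.le_normalizer hx⟩, hx⟩))
  obtain ⟨m, hm'⟩ := exists_mult hΘ (isCharacter_of_isIrr hχ.1)
  choose μ hμ using fun η : Cfsg.IrrCharacter (inN H) => exists_mult hΘ (isCharacter_of_isIrr η.2)
  have hd' : d = ∑ η, μ η := by
    have h := degree_eq_sum hab hΘ
    rw [hd] at h
    simp only [hμ] at h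
    exact_mod_cast h
  set O := Finset.univ.filter fun η : Cfsg.IrrCharacter (inN H) =>
    (η : inN H → ℂ) ∈ orbit (inN H) χ with hO
  have hOc : O.card = (inN H).index := by
    rw [← card_orbit hH hχ, ← Finset.card_image_of_injective O Subtype.val_injective]
    congr 1
    ext φ
    simp only [hO, Finset.mem_image, Finset.mem_filter, Finset.mem_univ, true_and]
    refine ⟨by rintro ⟨η, hη, rfl⟩; exact hη, fun h => ?_⟩
    obtain ⟨g, hg⟩ := (mem_orbit (inN H)).1 h
    exact ⟨⟨φ, hg ▸ (isNontrivLinear_conjBy hχ g).1⟩, h, rfl⟩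
  have hOm : ∀ η ∈ O, 1 ≤ μ η := by
    intro η hη
    obtain ⟨g, hg⟩ := (mem_orbit (inN H)).1 (Finset.mem_filter.1 hη).2
    have h := hμ η
    rw [← hg, classInner_res_conjBy hΘ] at h
    refine Nat.one_le_iff_ne_zero.2 fun e => hm ?_
    rw [h, e, Nat.cast_zero]
  rw [hd', ← hOc]
  calc O.card = ∑ _η ∈ O, 1 := Finset.card_eq_sum_ones O
    _ ≤ ∑ η ∈ O, μ η := Finset.sum_le_sum hOm
    _ ≤ ∑ η, μ η := Finset.sum_le_sum_of_subset (Finset.subset_univ O)

/-- Either `|H|` is small, or the degree of each non-principal character occurring in `beta H χ`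
is congruent to, and different from, a small integer modulo `|H|`. -/
theorem exists_beta_degree [IsSimpleGroup G] (hH : TI H)
    (hab : ∀ a ∈ H, ∀ b ∈ H, a * b = b * a) {p : ℕ} (hexp : ∀ x ∈ H, x ^ p = 1) (hp : p ≠ 0)
    (hne : H ≠ ⊥) :
    Nat.card H ≤ max ((inN H).index * ((inN H).index + 2) + 1) (p ^ (inN H).index) ∨
      ∃ χ : inN H → ℂ, IsNontrivLinear χ ∧ ∀ (Θ : G → ℂ) (A d : ℤ), Cfsg.IsIrrCharacter G Θ →
        Θ ≠ (fun _ => 1) → Cfsg.classInner (beta H χ) Θ = A → A ≠ 0 → Θ 1 = d →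
        ∃ γ : ℤ, (γ ^ 2 ≤ (inN H).index ∧ γ = A ∨ γ ^ 2 = ((inN H).index : ℤ) ^ 2) ∧
          (Nat.card H : ℤ) ∣ d - γ ∧ d ≠ γ := by
  classical
  rw [or_iff_not_imp_left, not_le, max_lt_iff]
  rintro ⟨hbig1, hbig2⟩
  set a := Nat.card H with ha
  set w := (inN H).index with hw
  -- the orbits of nontrivial characters
  set O : Finset (Finset (inN H → ℂ)) :=
    (Finset.univ.filter fun χ : Cfsg.IrrCharacter (inN H) => (χ : inN H → ℂ) ≠ fun _ => 1).image
      fun χ : Cfsg.IrrCharacter (inN H) => orbit (inN H) (χ : inN H → ℂ) with hO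
  have hlin : ∀ χ : Cfsg.IrrCharacter (inN H), (χ : inN H → ℂ) ≠ (fun _ => 1) →
      IsNontrivLinear (χ : inN H → ℂ) := fun χ h => ⟨χ.2, irr_apply_one (comm_inN hab) χ, h⟩
  have hrep : ∀ o : O, ∃ χ : Cfsg.IrrCharacter (inN H),
      IsNontrivLinear (χ : inN H → ℂ) ∧ orbit (inN H) (χ : inN H → ℂ) = o.1 := fun o => by
    obtain ⟨χ, hχ, ho⟩ := Finset.mem_image.1 o.2
    exact ⟨χ, hlin χ (Finset.mem_filter.1 hχ).2, ho⟩
  choose R hR hRo using hrep
  have hself : ∀ χ : inN H → ℂ, χ ∈ orbit (inN H) χ := fun χ =>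
    (mem_orbit (inN H)).2 ⟨1, conjBy_one (inN H) χ⟩
  have horb : ∀ (χ : inN H → ℂ) (o : O), χ ∈ orbit (inN H) (R o : inN H → ℂ) →
      orbit (inN H) χ = o.1 := fun χ o h => by
    obtain ⟨g, hg⟩ := (mem_orbit (inN H)).1 h
    rw [← hRo o, ← hg]
    ext η
    rw [mem_orbit, mem_orbit]
    constructor
    · rintro ⟨k, rfl⟩; exact ⟨g * k, (conjBy_mul (inN H) _ g k).symm⟩
    · rintro ⟨k, rfl⟩
      exact ⟨g⁻¹ * k, by rw [conjBy_mul, mul_inv_cancel_left]⟩
  have hsep : ∀ o o' : O, (R o' : inN H → ℂ) ∈ orbit (inN H) (R o : inN H → ℂ) ↔ o = o' := by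
    refine fun o o' => ⟨fun h => Subtype.ext ?_, fun h => h ▸ hself _⟩
    rw [← horb _ o h, hRo o']
  set m := Fintype.card O with hm
  -- counting the characters of `H`
  have hcount : ∀ f : Cfsg.IrrCharacter (inN H) → ℂ, ∀ c : ℂ,
      (∀ χ : Cfsg.IrrCharacter (inN H), (χ : inN H → ℂ) = (fun _ => 1) → f χ = c) →
      ∀ v : O → ℂ, (∀ (χ : Cfsg.IrrCharacter (inN H)) (o : O), (χ : inN H → ℂ) ∈ orbit (inN H) (R o : inN H → ℂ) → f χ = v o) →
        ∑ χ, f χ = c + (w : ℂ) * ∑ o, v o := by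
    intro f c hc v hv
    let one' : Cfsg.IrrCharacter (inN H) := ⟨fun _ => 1, isIrr_one⟩
    rw [← Finset.add_sum_erase Finset.univ f (Finset.mem_univ one'), hc one' rfl]
    congr 1
    rw [Finset.mul_sum]
    have hcover : Finset.univ.erase one' = (Finset.univ : Finset O).biUnion fun o =>
        Finset.univ.filter fun χ : Cfsg.IrrCharacter (inN H) =>
          (χ : inN H → ℂ) ∈ orbit (inN H) (R o : inN H → ℂ) := by
      ext χ
      simp only [Finset.mem_erase, Finset.mem_biUnion, Finset.mem_filter, Finset.mem_univ,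
        true_and, and_true]
      constructor
      · intro hχ
        have hne' : (χ : inN H → ℂ) ≠ fun _ => 1 := fun h => hχ (Subtype.ext h)
        refine ⟨⟨_, Finset.mem_image_of_mem _ (Finset.mem_filter.2 ⟨Finset.mem_univ χ, hne'⟩)⟩, ?_⟩
        rw [hRo]
        exact hself _
      · rintro ⟨o, ho⟩ rfl
        obtain ⟨g, hg⟩ := (mem_orbit (inN H)).1 ho
        exact (isNontrivLinear_conjBy (hR o) g).2.2 hg
    rw [hcover, Finset.sum_biUnion]
    · refine Finset.sum_congr rfl fun o _ => ?_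
      rw [Finset.sum_congr rfl (g := fun _ => v o) fun χ hχ => hv χ o (Finset.mem_filter.1 hχ).2,
        Finset.sum_const, nsmul_eq_mul, hw, ← card_orbit hH (hR o),
        ← Finset.card_image_of_injective _ Subtype.val_injective]
      congr 3
      ext φ
      simp only [Finset.mem_image, Finset.mem_filter, Finset.mem_univ, true_and]
      refine ⟨by rintro ⟨η, hη, rfl⟩; exact hη, fun h => ?_⟩
      obtain ⟨g, hg⟩ := (mem_orbit (inN H)).1 h
      exact ⟨⟨φ, hg ▸ (isNontrivLinear_conjBy (hR o) g).1⟩, h, rfl⟩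
    · intro o _ o' _ hoo
      refine Finset.disjoint_left.2 fun χ h h' => hoo (Subtype.ext ?_)
      rw [← horb _ o (Finset.mem_filter.1 h).2, horb _ o' (Finset.mem_filter.1 h').2]
  have ham : a = m * w + 1 := by
    have h := hcount (fun _ => 1) 1 (fun _ _ => rfl) (fun _ => 1) (fun _ _ _ => rfl)
    have hirr : Fintype.card (Cfsg.IrrCharacter (inN H)) = a := by
      have hc : commutator (inN H) = ⊥ := by
        rw [commutator_def, Subgroup.commutator_eq_bot_iff_le_centralizer]
        exact fun x _ => Subgroup.mem_centralizer_iff.2 fun y _ => comm_inN hab y x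
      have h1 := card_linear_char (G := inN H)
      rw [hc, Subgroup.index_bot, card_inN, ← ha, Nat.card_eq_fintype_card] at h1
      rw [← h1]
      exact (Fintype.card_of_subtype Finset.univ fun χ => by
        simp [irr_apply_one (comm_inN hab) χ]).symm
    simp only [Finset.sum_const, Finset.card_univ, nsmul_eq_mul, mul_one, hirr] at h
    have h' : (a : ℂ) = ((1 + w * m : ℕ) : ℂ) := by rw [h, hm]; push_cast; rfl
    rw [Nat.cast_inj] at h'
    linarith
  have hw0 : 0 < w := Nat.pos_of_ne_zero Subgroup.index_ne_zero_of_finite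
  have hm2 : w + 3 ≤ m := by
    by_contra h
    nlinarith
  haveI : Nonempty O := Fintype.card_pos_iff.1 (by omega)
  obtain ⟨o₀⟩ := ‹Nonempty O›
  haveI : Nontrivial O := Fintype.one_lt_card_iff_nontrivial.1 (by omega)
  -- exceptional characters
  let τ : O → G → ℂ := fun o => beta H (R o₀ : inN H → ℂ) - beta H (R o : inN H → ℂ)
  have hbb : ∀ o o' : O, Cfsg.classInner (beta H (R o : inN H → ℂ)) (beta H (R o' : inN H → ℂ)) =
      (w : ℂ) + if o = o' then 1 else 0 := fun o o' => by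
    rw [classInner_beta_beta hH (hR o) (hR o'), hw]
    simp only [hsep]
  obtain ⟨ε₀, hε₀, μ, hμ, hμinj, hτ⟩ := exists_exceptional o₀ τ (sub_self _)
    (fun o => isGen_sub (isGen_beta (hR o₀).1) (isGen_beta (hR o).1))
    (fun o => by simp [τ, beta_one (hR o₀).2.1, beta_one (hR o).2.1])
    (fun i j hi hj => by
      simp only [τ, classInner_sub_left, classInner_sub_right, hbb, if_neg (Ne.symm hi),
        if_neg (Ne.symm hj), if_neg hi, if_true]
      split_ifs <;> ring)
  obtain ⟨ε, hε, rfl⟩ : ∃ ε : ℤ, (ε = 1 ∨ ε = -1) ∧ ε₀ = (ε : ℂ) := by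
    rcases hε₀ with h | h
    exacts [⟨1, Or.inl rfl, by simp [h]⟩, ⟨-1, Or.inr rfl, by simp [h]⟩]
  have hεsq : ε ^ 2 = 1 := by rcases hε with h | h <;> simp [h]
  let δ : O → (G → ℂ) → ℤ := fun o Θ => if Θ = μ o then 1 else 0
  -- multiplicities
  have hcoef : ∀ Θ : G → ℂ, Cfsg.IsIrrCharacter G Θ → ∃ c U : ℤ,
      (∀ o, Cfsg.classInner (R o : inN H → ℂ) (res H Θ) = ((U + ε * δ o Θ : ℤ) : ℂ)) ∧
      Cfsg.classInner (fun _ => 1) (res H Θ) = (c : ℂ) ∧
      Θ 1 = ((c + w * (m * U + ε * ∑ o, δ o Θ) : ℤ) : ℂ) ∧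
      (∀ o, Cfsg.classInner (beta H (R o : inN H → ℂ)) Θ = ((c - (U + ε * δ o Θ) : ℤ) : ℂ)) := by
    intro Θ hΘ
    obtain ⟨c, hc⟩ := exists_mult (H := H) hΘ (isCharacter_one (G := inN H))
    choose v hv using fun o => exists_mult hΘ (isCharacter_of_isIrr (hR o).1)
    have hδ : ∀ o, Cfsg.classInner (μ o) Θ = (δ o Θ : ℂ) := fun o => by
      simp only [δ]
      split_ifs with e
      · rw [e, classInner_isIrr_self (hμ o), Int.cast_one]
      · rw [classInner_isIrr_ne (hμ o) hΘ (Ne.symm e), Int.cast_zero]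
    have hvU : ∀ o, (v o : ℤ) = ((v o₀ : ℤ) - ε * δ o₀ Θ) + ε * δ o Θ := fun o => by
      have h := congrArg (fun f => Cfsg.classInner f Θ) (hτ o)
      simp only [τ, classInner_sub_left, classInner_smul_left, hδ,
        classInner_beta _ (isClassFunction_of_isIrr hΘ)] at h
      change (Cfsg.classInner (fun _ => 1) (res H Θ) - Cfsg.classInner _ (res H Θ)) -
        (Cfsg.classInner (fun _ => 1) (res H Θ) - Cfsg.classInner _ (res H Θ)) = _ at h
      rw [hv, hv] at h
      have h' : (((v o : ℤ) - (v o₀ : ℤ) : ℤ) : ℂ) = ((ε * (δ o Θ - δ o₀ Θ) : ℤ) : ℂ) := by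
        push_cast; linear_combination h
      rw [Int.cast_inj] at h'
      linarith
    refine ⟨c, (v o₀ : ℤ) - ε * δ o₀ Θ, fun o => by rw [hv o, ← hvU o, Int.cast_natCast],
      by rw [hc, Int.cast_natCast], ?_, fun o => ?_⟩
    · rw [degree_eq_sum hab hΘ, hcount _ (c : ℂ) (fun χ h => by rw [h, hc])
        (fun o => ((v o : ℤ) : ℂ)) (fun χ o h => by
          obtain ⟨g, hg⟩ := (mem_orbit (inN H)).1 h
          rw [← hg, classInner_res_conjBy hΘ, hv, Int.cast_natCast])]
      rw [Finset.sum_congr rfl (g := fun o => ((((v o₀ : ℤ) - ε * δ o₀ Θ) + ε * δ o Θ : ℤ) : ℂ))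
        fun o _ => congrArg Int.cast (hvU o)]
      push_cast
      rw [Finset.sum_add_distrib, Finset.sum_const, Finset.card_univ, ← hm, ← Finset.mul_sum,
        nsmul_eq_mul]
    · rw [classInner_beta _ (isClassFunction_of_isIrr hΘ)]
      show Cfsg.classInner (fun _ => 1) (res H Θ) - Cfsg.classInner _ (res H Θ) = _
      rw [hc, hv o, ← hvU o]
      push_cast
      rfl
  have hδμ : ∀ o o' : O, δ o' (μ o) = if o = o' then 1 else 0 := fun o o' =>
    if_congr ⟨fun h => hμinj h, fun h => h ▸ rfl⟩ rfl rfl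
  have hone0 : ∀ o, δ o (fun _ => 1) = 0 := by
    obtain ⟨c, U, hv, hc, -, -⟩ := hcoef (fun _ => 1) isIrr_one
    have hz : ∀ o, U + ε * δ o (fun _ => 1) = 0 := fun o => by
      have h := hv o
      rw [show res H (fun _ : G => (1 : ℂ)) = fun _ => 1 from rfl,
        classInner_isIrr_ne (hR o).1 isIrr_one (hR o).2.2] at h
      exact_mod_cast h.symm
    intro o
    obtain ⟨o', ho'⟩ := exists_ne o
    have h1 := hz o
    have h2 := hz o'
    simp only [δ] at h1 h2 ⊢
    split_ifs at h1 h2 ⊢ with e1 e2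
    · exact absurd (hμinj (e1.symm.trans e2)) (Ne.symm ho')
    · rcases hε with h | h <;> subst h <;> omega
    · rfl
    · rfl
  -- `c - U` is the same for all exceptional characters, and it is zero
  choose c U hvv hcc hdeg hA using fun o : O => hcoef (μ o) (hμ o)
  let i₁ : O → Cfsg.IrrCharacter G := fun o => ⟨μ o, hμ o⟩
  have hi₁ : Function.Injective i₁ := fun o o' h => hμinj (congrArg Subtype.val h)
  choose co hco using fun (o : O) (Θ : Cfsg.IrrCharacter G) =>
    classInner_gen (isGen_beta (hR o).1) (isGen_of_isIrr Θ.2)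
  have hnorm : ∀ o, ∑ Θ, co o Θ ^ 2 = (w : ℤ) + 1 := fun o => by
    have h := classInner_self_eq_sum_sq (isClassFunction_beta (R o : inN H → ℂ)) (co o) (hco o)
    rw [hbb, if_pos rfl] at h
    exact_mod_cast h.symm
  have hcoμ : ∀ o o' : O, co o' (i₁ o) = c o - U o - ε * if o = o' then 1 else 0 := fun o o' => by
    have h := (hco o' (i₁ o)).symm.trans (hA o o')
    rw [Int.cast_inj, hδμ] at h
    rw [h]; ring
  have hcorest : ∀ (o o' : O) Θ, Θ ∉ Finset.univ.image i₁ → co o Θ = co o' Θ := by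
    intro o o' Θ hΘ
    obtain ⟨c', U', -, -, -, hA'⟩ := hcoef (Θ : G → ℂ) Θ.2
    have h0 : ∀ q, δ q (Θ : G → ℂ) = 0 := fun q =>
      if_neg fun e => hΘ (Finset.mem_image.2 ⟨q, Finset.mem_univ _, (Subtype.ext e).symm⟩)
    have h1 := (hco o Θ).symm.trans (hA' o)
    have h2 := (hco o' Θ).symm.trans (hA' o')
    rw [Int.cast_inj, h0] at h1 h2
    rw [h1, h2]
  set T := Finset.univ.filter fun Θ => Θ ∉ Finset.univ.image i₁ with hT
  have hsplit : ∀ o', ∑ Θ, co o' Θ ^ 2 =
      ∑ o, (c o - U o) ^ 2 - 2 * ε * (c o' - U o') + 1 + ∑ Θ ∈ T, co o₀ Θ ^ 2 := by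
    intro o'
    rw [← Finset.sum_filter_add_sum_filter_not Finset.univ (fun Θ => Θ ∈ Finset.univ.image i₁),
      Finset.filter_mem_eq_inter, Finset.univ_inter, Finset.sum_image fun _ _ _ _ h => hi₁ h, hT,
      Finset.sum_congr rfl (g := fun Θ => co o₀ Θ ^ 2)
        (fun (Θ : Cfsg.IrrCharacter G) hΘ => by rw [hcorest o' o₀ Θ (Finset.mem_filter.1 hΘ).2])]
    congr 1
    simp only [hcoμ]
    have : ∀ o, (c o - U o - ε * if o = o' then (1 : ℤ) else 0) ^ 2 =
        (c o - U o) ^ 2 + if o = o' then 1 - 2 * ε * (c o' - U o') else 0 := by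
      intro o
      split_ifs with h
      · subst h; linear_combination hεsq
      · ring
    rw [Finset.sum_congr rfl fun o _ => this o, Finset.sum_add_distrib, Finset.sum_ite_eq',
      if_pos (Finset.mem_univ _)]
    ring
  have hsame : ∀ o, c o - U o = c o₀ - U o₀ := by
    intro o
    have h := (hnorm o).trans (hnorm o₀).symm
    rw [hsplit, hsplit] at h
    rcases hε with e | e <;> subst e <;> linarith
  have hTone : (1 : ℤ) ≤ ∑ Θ ∈ T, co o₀ Θ ^ 2 := by
    let one' : Cfsg.IrrCharacter G := ⟨fun _ => 1, isIrr_one⟩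
    have hmem : one' ∈ T := Finset.mem_filter.2 ⟨Finset.mem_univ _, fun h => by
      obtain ⟨o, -, ho⟩ := Finset.mem_image.1 h
      have h0 := hone0 o
      simp only [δ] at h0
      rw [if_pos (congrArg Subtype.val ho).symm] at h0
      exact one_ne_zero h0⟩
    have h1 : co o₀ one' = 1 := by
      have h := (hco o₀ one').symm.trans (classInner_beta_one (hR o₀))
      exact_mod_cast h
    refine le_trans (le_of_eq ?_) (Finset.single_le_sum (fun Θ _ => sq_nonneg _) hmem)
    rw [h1]; norm_num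
  have hzero : ∀ o, c o - U o = 0 := by
    intro o
    rw [hsame o]
    have h := hnorm o₀
    rw [hsplit, Finset.sum_congr rfl (fun o _ => by rw [hsame o]), Finset.sum_const,
      Finset.card_univ, nsmul_eq_mul, ← hm] at h
    by_contra hne'
    have hm' : ((w : ℤ) + 3) ≤ (m : ℤ) := by exact_mod_cast hm2
    have hu1 : 1 ≤ |c o₀ - U o₀| := Int.one_le_abs hne'
    have hu2 : |c o₀ - U o₀| ≤ (c o₀ - U o₀) ^ 2 := by
      rw [Int.abs_eq_natAbs]; exact Int.natAbs_le_self_sq _
    have h3 : ε * (c o₀ - U o₀) ≤ |c o₀ - U o₀| := by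
      rcases hε with e | e <;> subst e
      · rw [one_mul]; exact le_abs_self _
      · rw [neg_one_mul]; exact neg_le_abs _
    nlinarith [mul_le_mul_of_nonneg_right hm' (sq_nonneg (c o₀ - U o₀))]
  refine ⟨R o₀, hR o₀, fun Θ A d hΘ hΘ1 hA' hA0 hd => ?_⟩
  obtain ⟨c', U', hv', hc', hdeg', hAΘ⟩ := hcoef Θ hΘ
  -- a character trivial on `H` is principal
  have hker : (∀ o, U' + ε * δ o Θ = 0) → False := by
    intro hz
    obtain ⟨x, hx, hx1⟩ := (Subgroup.bot_or_exists_ne_one H).resolve_left hne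
    refine hx1 (eq_one_of_apply_eq_one hΘ hΘ1
      (apply_eq_of_mult_zero hab hΘ ?_ ⟨⟨x, Subgroup.le_normalizer hx⟩, hx⟩))
    intro χ hχ
    let χ' : Cfsg.IrrCharacter (inN H) := ⟨χ, hχ.1⟩
    let o : O := ⟨_, Finset.mem_image_of_mem _
      (Finset.mem_filter.2 ⟨Finset.mem_univ χ', hχ.2.2⟩)⟩
    obtain ⟨g, hg⟩ := (mem_orbit (inN H)).1 (show χ ∈ orbit (inN H) (R o : inN H → ℂ) by
      rw [hRo]; exact hself χ)
    rw [← hg, classInner_res_conjBy hΘ, hv' o, hz o, Int.cast_zero]
  have hAeq : A = c' - (U' + ε * δ o₀ Θ) := by exact_mod_cast hA'.symm.trans (hAΘ o₀)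
  have hdeq : d = c' + w * (m * U' + ε * ∑ o, δ o Θ) := by exact_mod_cast hd.symm.trans hdeg'
  have haz : (a : ℤ) = m * w + 1 := by exact_mod_cast ham
  by_cases hmem : ∃ o, Θ = μ o
  · obtain ⟨o, rfl⟩ := hmem
    have hu0 : c' - U' = 0 := by
      have h := (hAΘ o₀).symm.trans (hA o o₀)
      have h' : c' - (U' + ε * δ o₀ (μ o)) = c o - (U o + ε * δ o₀ (μ o)) := by exact_mod_cast h
      have := hzero o
      linarith
    rw [hδμ] at hAeq
    by_cases ho : o = o₀
    · subst ho
      have hsum : ∑ o', δ o' (μ o) = 1 := by simp only [hδμ, Finset.sum_ite_eq, Finset.mem_univ, if_true]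
      rw [hsum, mul_one] at hdeq
      refine ⟨ε * w, Or.inr (by rw [mul_pow, hεsq, one_mul]), ⟨U', ?_⟩, fun h => ?_⟩
      · rw [haz, hdeq]; linear_combination hu0
      · have hU : U' = 0 := by
          have h0 : (a : ℤ) * U' = 0 := by rw [haz]; linear_combination h - hdeq + (-1 : ℤ) * hu0
          exact (mul_eq_zero.1 h0).resolve_left (by exact_mod_cast (Nat.card_pos (α := H)).ne')
        -- `H` embeds in the `w`-th power of the roots of unity
        refine absurd ?_ (not_le.2 hbig2)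
        have hc0 : c' = 0 := by linarith
        let μp := (rootsOfUnity p ℂ)
        haveI : NeZero p := ⟨hp⟩
        choose f hf using fun φ : {φ // φ ∈ orbit (inN H) (R o : inN H → ℂ)} =>
          exists_hom_of_degree_one (isCharacter_of_isIrr (G := inN H) (χ := φ.1) (by
            obtain ⟨g, hg⟩ := (mem_orbit (inN H)).1 φ.2
            exact hg ▸ (isNontrivLinear_conjBy (hR o) g).1)) (by
            obtain ⟨g, hg⟩ := (mem_orbit (inN H)).1 φ.2
            exact hg ▸ (isNontrivLinear_conjBy (hR o) g).2.1)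
        let Φ : inN H → {φ // φ ∈ orbit (inN H) (R o : inN H → ℂ)} → rootsOfUnity p ℂ :=
          fun x φ => ⟨f φ x, (mem_rootsOfUnity _ _).2 (by
            rw [← map_pow, show x ^ p = 1 from Subtype.ext (Subtype.ext (hexp _ x.2)), map_one])⟩
        have hΦ : Function.Injective Φ := by
          intro x y hxy
          refine eq_of_mul_inv_eq_one (Subtype.ext (Subtype.ext ?_))
          refine eq_one_of_apply_eq_one hΘ hΘ1 ?_
          show res H (μ o) (x * y⁻¹) = res H (μ o) 1
          rw [res_eq_sum hab hΘ, Finset.sum_apply, Finset.sum_apply]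
          refine Finset.sum_congr rfl fun χ _ => ?_
          rw [Pi.smul_apply, Pi.smul_apply, smul_eq_mul, smul_eq_mul]
          by_cases h1 : (χ : inN H → ℂ) = fun _ => 1
          · rw [h1]
          by_cases h2 : (χ : inN H → ℂ) ∈ orbit (inN H) (R o : inN H → ℂ)
          · congr 1
            have h3 : f ⟨χ, h2⟩ x = f ⟨χ, h2⟩ y :=
              congrArg Subtype.val (congrFun hxy ⟨χ.1, h2⟩)
            rw [show (χ : inN H → ℂ) = fun g => (f ⟨χ, h2⟩ g : ℂ) from hf ⟨χ, h2⟩]
            simp [h3]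
          · have hne' := hlin χ h1
            let o' : O := ⟨_, Finset.mem_image_of_mem _
              (Finset.mem_filter.2 ⟨Finset.mem_univ χ, h1⟩)⟩
            have hmem' : (χ : inN H → ℂ) ∈ orbit (inN H) (R o' : inN H → ℂ) := by
              rw [hRo]; exact hself _
            obtain ⟨g, hg⟩ := (mem_orbit (inN H)).1 hmem'
            have : Cfsg.classInner (χ : inN H → ℂ) (res H (μ o)) = 0 := by
              rw [← hg, classInner_res_conjBy hΘ, hv' o', hU, hδμ,
                if_neg (show ¬ o = o' from fun e => h2 (by rw [e]; exact hmem')), mul_zero, add_zero, Int.cast_zero]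
            rw [this, zero_mul, zero_mul]
        calc a = Nat.card (inN H) := card_inN.symm
          _ ≤ Nat.card ({φ // φ ∈ orbit (inN H) (R o : inN H → ℂ)} → rootsOfUnity p ℂ) :=
            Nat.card_le_card_of_injective Φ hΦ
          _ = p ^ w := by
            rw [Nat.card_fun, Complex.card_rootsOfUnity, Nat.card_eq_fintype_card, Fintype.card_coe,
              card_orbit hH (hR o)]
    · exfalso
      rw [if_neg ho, mul_zero, add_zero, hu0] at hAeq
      exact hA0 hAeq
  · push Not at hmem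
    have h0 : ∀ q, δ q Θ = 0 := fun q => if_neg (hmem q)
    simp only [h0, Finset.sum_const_zero, mul_zero, add_zero] at hAeq hdeq
    refine ⟨A, Or.inl ⟨?_, rfl⟩, ⟨U', ?_⟩, fun h => hker fun o => ?_⟩
    · let Θ' : Cfsg.IrrCharacter G := ⟨Θ, hΘ⟩
      let one' : Cfsg.IrrCharacter G := ⟨fun _ => 1, isIrr_one⟩
      have hne1 : Θ' ≠ one' := fun e => hΘ1 (congrArg Subtype.val e)
      have h1 : co o₀ Θ' = A := by exact_mod_cast (hco o₀ Θ').symm.trans hA'
      have h2 : co o₀ one' = 1 := by exact_mod_cast (hco o₀ one').symm.trans (classInner_beta_one (hR o₀))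
      have h := Finset.sum_le_sum_of_subset_of_nonneg (f := fun Θ => co o₀ Θ ^ 2)
        (Finset.subset_univ ({Θ', one'} : Finset (Cfsg.IrrCharacter G))) fun _ _ _ => sq_nonneg _
      rw [Finset.sum_pair hne1, hnorm, h1, h2] at h
      linarith
    · rw [haz, hdeq, hAeq]; ring
    · rw [h0, mul_zero, add_zero]
      have h0' : (a : ℤ) * U' = 0 := by rw [haz]; linear_combination h - hdeq + hAeq
      exact (mul_eq_zero.1 h0').resolve_left (by exact_mod_cast (Nat.card_pos (α := H)).ne')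

end CfsgLib.SpectrumFive
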