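import Mathlib
import Cfsg.Agent.Small.BaerSuzuki
import Cfsg.Agent.Coprime.Generation

/-!
# Local structure of groups with element orders at most five

For `p = 3` or `5` the centralisers of elements of order `p` have exponent `p`, the Sylow
`p`-subgroups intersect trivially, and every element of order `p` in a subgroup normalising a
nontrivial `p`-subgroup `D` lies in a normal `p`-subgroup of it.
-/

namespace CfsgLib.SpectrumFive

/-- All element orders are at most five. -/
def OrdersLeFive (G : Type*) [Group G] : Prop := ∀ g : G, orderOf g ≤ 5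

variable {G : Type*} [Group G] [Finite G] {p : ℕ}

lemma OrdersLeFive.subgroup (h : OrdersLeFive G) (H : Subgroup G) : OrdersLeFive H := fun g =>
  (Subgroup.orderOf_coe g).symm.le.trans (h g)

lemma OrdersLeFive.quotient (h : OrdersLeFive G) (N : Subgroup G) [N.Normal] :
    OrdersLeFive (G ⧸ N) := by
  intro g
  obtain ⟨x, rfl⟩ := QuotientGroup.mk'_surjective N g
  exact (Nat.le_of_dvd (orderOf_pos x) (orderOf_map_dvd _ x)).trans (h x)

lemma prime_of_eq (hp : p = 3 ∨ p = 5) : p.Prime := by rcases hp with rfl | rfl <;> norm_num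

/-- Elements commuting with an element of order `p` have order `1` or `p`. -/
theorem pow_eq_one_of_commute (h : OrdersLeFive G) (hp : p = 3 ∨ p = 5) {x y : G}
    (hx : orderOf x = p) (hc : Commute x y) : y ^ p = 1 := by
  rw [← orderOf_dvd_iff_pow_eq_one]
  by_contra hne
  have hcop : (orderOf x).Coprime (orderOf y) := by
    rw [hx, (prime_of_eq hp).coprime_iff_not_dvd]
    intro hd
    have h5 := h y
    have h0 := orderOf_pos y
    obtain ⟨c, hc'⟩ := hd
    refine hne ?_
    rcases hp with rfl | rfl <;> exact ⟨1, by omega⟩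
  have h1 := h (x * y)
  rw [hc.orderOf_mul_eq_mul_orderOf_of_coprime hcop, hx] at h1
  have h0 := orderOf_pos y
  have hy1 : orderOf y ≠ 1 := fun e => hne (e ▸ one_dvd p)
  rcases hp with rfl | rfl <;> omega

/-- Elements commuting with an involution have order dividing four. -/
theorem pow_four_eq_one_of_commute (h : OrdersLeFive G) {z y : G} (hz : orderOf z = 2)
    (hc : Commute z y) : y ^ 4 = 1 := by
  rw [← orderOf_dvd_iff_pow_eq_one]
  by_contra hne
  have h5 := h y
  have h0 := orderOf_pos y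
  have h35 : orderOf y = 3 ∨ orderOf y = 5 := by
    generalize orderOf y = m at h5 h0 hne
    interval_cases m <;> first | omega | (exfalso; exact hne (by norm_num))
  have h1 := h (z * y)
  rw [hc.orderOf_mul_eq_mul_orderOf_of_coprime
    (by rw [hz]; rcases h35 with e | e <;> rw [e] <;> decide), hz] at h1
  omega

/-- An element of order four or two and an element of odd prime order do not commute. -/
theorem eq_one_of_pow_four (hp : p = 3 ∨ p = 5) {y : G} (h1 : y ^ p = 1) (h4 : y ^ 4 = 1) :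
    y = 1 := by
  have h := Nat.dvd_gcd (orderOf_dvd_of_pow_eq_one h1) (orderOf_dvd_of_pow_eq_one h4)
  rcases hp with rfl | rfl <;> exact orderOf_eq_one_iff.1 (Nat.dvd_one.1 h)

/-- The nontrivial elements of a `p`-subgroup have order `p`. -/
theorem orderOf_eq_of_mem (h : OrdersLeFive G) (hp : p = 3 ∨ p = 5) {P : Subgroup G}
    (hP : IsPGroup p P) {x : G} (hx : x ∈ P) (hx1 : x ≠ 1) : orderOf x = p := by
  haveI := Fact.mk (prime_of_eq hp)
  obtain ⟨k, hk⟩ := IsPGroup.iff_orderOf.1 hP ⟨x, hx⟩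
  rw [Subgroup.orderOf_mk] at hk
  have h5 := h x
  rw [hk] at h5
  rcases Nat.lt_trichotomy k 1 with hlt | rfl | hgt
  · exact absurd (orderOf_eq_one_iff.1 (by rw [hk, show k = 0 by omega, pow_zero])) hx1
  · rw [hk, pow_one]
  · exfalso
    have := Nat.pow_le_pow_right (prime_of_eq hp).pos (show 2 ≤ k by omega)
    rcases hp with rfl | rfl <;> omega

/-- An involution normalising `D` and centralising no element of `D` but `1` inverts `D`. -/
theorem conj_eq_inv_of_fixedPointFree {D : Subgroup G} {t : G} (ht : t * t = 1)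
    (htN : t ∈ Subgroup.normalizer (D : Set G)) (hfix : ∀ d ∈ D, t * d * t⁻¹ = d → d = 1)
    {d : G} (hd : d ∈ D) : t * d * t⁻¹ = d⁻¹ := by
  have hti : t⁻¹ = t := inv_eq_of_mul_eq_one_right ht
  let f : D → D := fun x => ⟨(x : G)⁻¹ * (t * x * t⁻¹),
    mul_mem (inv_mem x.2) ((Subgroup.mem_normalizer_iff.1 htN x).1 x.2)⟩
  have hf : Function.Surjective f := by
    refine Finite.injective_iff_surjective.1 fun a b hab => ?_
    have h1 : (a : G)⁻¹ * (t * a * t⁻¹) = (b : G)⁻¹ * (t * b * t⁻¹) := congrArg Subtype.val hab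
    have h2 : t * ((a : G) * (b : G)⁻¹) * t⁻¹ = (a : G) * (b : G)⁻¹ :=
      calc t * ((a : G) * (b : G)⁻¹) * t⁻¹
          = (a : G) * ((a : G)⁻¹ * (t * a * t⁻¹)) * (t * b * t⁻¹)⁻¹ := by group
        _ = (a : G) * (b : G)⁻¹ := by rw [h1]; group
    exact Subtype.ext (eq_of_mul_inv_eq_one (hfix _ (mul_mem a.2 (inv_mem b.2)) h2))
  obtain ⟨x, hx⟩ := hf ⟨d, hd⟩
  have hx' : (x : G)⁻¹ * (t * x * t⁻¹) = d := congrArg Subtype.val hx
  rw [← hx']
  calc t * ((x : G)⁻¹ * (t * x * t⁻¹)) * t⁻¹ = t * (x : G)⁻¹ * t * x * (t * t)⁻¹ := by group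
    _ = ((x : G)⁻¹ * (t * x * t⁻¹))⁻¹ := by
      rw [ht, inv_one, mul_one, mul_inv_rev, mul_inv_rev, mul_inv_rev, inv_inv, inv_inv, hti]
      simp only [mul_assoc]

/-- An involution normalising a `p`-subgroup inverts it. -/
theorem conj_eq_inv_of_involution (h : OrdersLeFive G) (hp : p = 3 ∨ p = 5) {D : Subgroup G}
    (hD : IsPGroup p D) {t : G} (ht : orderOf t = 2)
    (htN : t ∈ Subgroup.normalizer (D : Set G)) {d : G} (hd : d ∈ D) : t * d * t⁻¹ = d⁻¹ := by
  refine conj_eq_inv_of_fixedPointFree (by rw [← pow_two, ← ht, pow_orderOf_eq_one]) htN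
    (fun x hx hfix => ?_) hd
  by_contra hx1
  exact hx1 (eq_one_of_pow_four hp
    (by rw [← orderOf_eq_of_mem h hp hD hx hx1, pow_orderOf_eq_one])
    (pow_four_eq_one_of_commute h ht (mul_inv_eq_iff_eq_mul.1 hfix)))

/-- Two involutions inverting `D ≠ 1` are conjugate by an element centralising `D`. -/
theorem exists_conj_of_inverting (h : OrdersLeFive G) (hp : p = 3 ∨ p = 5) {D : Subgroup G}
    (hD : IsPGroup p D) (hne : D ≠ ⊥) {t u : G} (ht : orderOf t = 2) (hu : orderOf u = 2)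
    (htN : t ∈ Subgroup.normalizer (D : Set G)) (huN : u ∈ Subgroup.normalizer (D : Set G)) :
    (u * t) ^ p = 1 ∧ (∀ d ∈ D, Commute (u * t) d) ∧ ∃ j : ℕ, (u * t) ^ j * t * ((u * t) ^ j)⁻¹ = u := by
  have htt : t * t = 1 := by rw [← pow_two, ← ht, pow_orderOf_eq_one]
  have huu : u * u = 1 := by rw [← pow_two, ← hu, pow_orderOf_eq_one]
  have hcd : ∀ d ∈ D, Commute (u * t) d := by
    intro d hd
    refine mul_inv_eq_iff_eq_mul.1 ?_
    calc u * t * d * (u * t)⁻¹ = u * (t * d * t⁻¹) * u⁻¹ := by group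
      _ = d := by
        rw [conj_eq_inv_of_involution h hp hD ht htN hd,
          conj_eq_inv_of_involution h hp hD hu huN (inv_mem hd), inv_inv]
  obtain ⟨d, hd, hd1⟩ := (Subgroup.bot_or_exists_ne_one D).resolve_left hne
  have hpow := pow_eq_one_of_commute h hp (orderOf_eq_of_mem h hp hD hd hd1) (hcd d hd).symm
  refine ⟨hpow, hcd, (p + 1) / 2, ?_⟩
  set r := u * t with hr
  have hinv : ∀ j : ℕ, t * (r ^ j)⁻¹ = r ^ j * t := by
    intro j
    induction j with
    | zero => simp
    | succ j ih =>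
      rw [pow_succ, mul_inv_rev, ← mul_assoc, hr, mul_inv_rev, inv_eq_of_mul_eq_one_right htt,
        inv_eq_of_mul_eq_one_right huu, ← mul_assoc t t, htt, one_mul, ← hr]
      calc u * (r ^ j)⁻¹ = r * (t * (r ^ j)⁻¹) := by
            rw [hr, mul_assoc u, ← mul_assoc t t, htt, one_mul]
        _ = r * (r ^ j * t) := by rw [ih]
        _ = r ^ j * r * t := by rw [← mul_assoc, ← pow_succ', pow_succ]
  have he : (p + 1) / 2 + (p + 1) / 2 = p + 1 := by rcases hp with rfl | rfl <;> norm_num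
  rw [mul_assoc, hinv, ← mul_assoc, ← pow_add, he, pow_succ, hpow, one_mul, hr, mul_assoc, htt,
    mul_one]

/-- A subgroup of exponent `q ≠ p` acting on a nontrivial `p`-group has order at most `q`. -/
theorem card_le_of_fixedPointFree {q : ℕ} (h : OrdersLeFive G) (hp : p = 3 ∨ p = 5)
    (hq : q.Prime) (hqp : q ≠ p) {D S : Subgroup G} (hD : IsPGroup p D) (hne : D ≠ ⊥)
    (hS : IsPGroup q S) (hexp : ∀ s ∈ S, s ^ q = 1)
    (hSN : S ≤ Subgroup.normalizer (D : Set G)) : Nat.card S ≤ q := by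
  by_contra hlt
  haveI := Fact.mk hq
  haveI := Fact.mk (prime_of_eq hp)
  obtain ⟨n, hn⟩ := IsPGroup.iff_card.1 hS
  have h2 : 2 ≤ n := by
    by_contra h2
    refine hlt (hn ▸ ?_)
    calc q ^ n ≤ q ^ 1 := Nat.pow_le_pow_right hq.pos (by omega)
      _ = q := pow_one q
  obtain ⟨A, hA⟩ := Sylow.exists_subgroup_card_pow_prime (G := S) q (n := 2)
    (hn ▸ pow_dvd_pow q h2)
  set A' := A.map S.subtype with hA'
  have hAc : Nat.card A' = q ^ 2 :=
    (Nat.card_congr (A.equivMapOfInjective _ S.subtype_injective).toEquiv).symm.trans hA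
  have hAS : A' ≤ S := Subgroup.map_subtype_le A
  haveI : IsMulCommutative A' :=
    ⟨⟨fun a b => (IsPGroup.commGroupOfCardEqPrimeSq hAc).mul_comm a b⟩⟩
  have hnc : ¬ IsCyclic A' := by
    intro hc
    obtain ⟨g, hg⟩ := hc.exists_ofOrder_eq_natCard
    have hd : orderOf g ∣ q := orderOf_dvd_of_pow_eq_one (Subtype.ext (hexp g (hAS g.2)))
    rw [hg, hAc] at hd
    have := Nat.le_of_dvd hq.pos hd
    nlinarith [hq.two_le]
  obtain ⟨m, hm⟩ := IsPGroup.iff_card.1 hD
  refine hne (le_bot_iff.1 (CfsgLib.Coprime.le_of_forall_inf_centralizer_le hnc (hAS.trans hSN)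
    (by rw [hAc, hm]; exact Nat.Coprime.pow _ _ ((Nat.coprime_primes hq (prime_of_eq hp)).2 hqp))
    fun a ha ha1 x hx => ?_))
  obtain ⟨hxD, hxc⟩ := hx
  rw [Subgroup.mem_bot]
  by_contra hx1
  have hxo := orderOf_eq_of_mem h hp hD hxD hx1
  have h1 : a ^ p = 1 := pow_eq_one_of_commute h hp hxo (Subgroup.mem_centralizer_singleton_iff.1 hxc)
  exact ha1 (orderOf_eq_one_iff.1 (Nat.dvd_one.1 ((Nat.coprime_primes hq (prime_of_eq hp)).2 hqp ▸
    Nat.dvd_gcd (orderOf_dvd_of_pow_eq_one (hexp a (hAS ha))) (orderOf_dvd_of_pow_eq_one h1))))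

end CfsgLib.SpectrumFive
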