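import Cfsg.Agent.S0150
import Cfsg.Agent.Characters.Exceptional
import Cfsg.Agent.Characters.CNFamily

/-!
# Virtual characters attached to a trivial intersection subgroup

For a nilpotent trivial intersection subgroup `H` containing the centralisers of its nontrivial
elements, with normaliser `N` and `w = [N : H]`, each nontrivial linear character `χ` of `H` gives
a generalized character `beta H χ = (Ind (1 - χ))` of norm `w + 1` which is supported on the
conjugates of the nontrivial elements of `H` and has multiplicity one in the trivial character.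
-/

set_option autoImplicit false
set_option linter.style.haveILetI false

namespace CfsgLib.SpectrumFive

open CfsgLib.Characters
open CfsgLib.OddOrderChar (conjBy conjBy_apply conjBy_one conjBy_injective)
open CfsgLib.CharactersDeep.Clifford (orbit mem_orbit)
open scoped ComplexConjugate

universe u

variable {G : Type u} [Group G]

/-- The subgroup `H` inside its normaliser. -/
abbrev inN (H : Subgroup G) : Subgroup (Subgroup.normalizer (H : Set G)) :=
  H.subgroupOf (Subgroup.normalizer (H : Set G))

/-- A trivial intersection subgroup containing the centralisers of its nontrivial elements. -/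
structure TI (H : Subgroup G) : Prop where
  centLe : ∀ x ∈ H, x ≠ 1 → Subgroup.centralizer ({x} : Set G) ≤ H
  ti : ∀ g : G, g ∉ Subgroup.normalizer (H : Set G) →
    ∀ t ∈ (H : Set G), g * t * g⁻¹ ∈ (H : Set G) → t = 1

variable [Fintype G] {H : Subgroup G}

noncomputable instance (H : Subgroup G) : Fintype (Subgroup.normalizer (H : Set G)) :=
  Fintype.ofFinite _

noncomputable instance (H : Subgroup G) : Fintype (inN H) := Fintype.ofFinite _

lemma card_inN : Nat.card (inN H) = Nat.card H :=
  Nat.card_congr (Subgroup.subgroupOfEquivOfLe Subgroup.le_normalizer).toEquiv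

/-- The function `Ind (1 - χ)` on the normaliser. -/
noncomputable def psi (H : Subgroup G) (χ : inN H → ℂ) : Subgroup.normalizer (H : Set G) → ℂ :=
  Cfsg.indFun (inN H) ((fun _ => 1) - χ)

/-- The generalized character `Ind (1 - χ)` of `G`. -/
noncomputable def beta (H : Subgroup G) (χ : inN H → ℂ) : G → ℂ :=
  Cfsg.indFun (Subgroup.normalizer (H : Set G)) (psi H χ)

/-- A nontrivial linear character. -/
def IsNontrivLinear (χ : inN H → ℂ) : Prop :=
  Cfsg.IsIrrCharacter (inN H) χ ∧ χ 1 = 1 ∧ χ ≠ fun _ => 1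

lemma psi_eq_zero (χ : inN H → ℂ) {x : Subgroup.normalizer (H : Set G)} (hx : (x : G) ∉ H) :
    psi H χ x = 0 :=
  CfsgLib.OddOrderChar.indFun_normal_eq_zero (inN H) _ fun h => hx h

lemma psi_one {χ : inN H → ℂ} (hχ : χ 1 = 1) : psi H χ 1 = 0 := by
  rw [psi, indFun_one, Pi.sub_apply, hχ, sub_self, mul_zero]

lemma isClassFunction_beta (χ : inN H → ℂ) : Cfsg.IsClassFunction G (beta H χ) :=
  isClassFunction_indFun _ _

lemma beta_one {χ : inN H → ℂ} (hχ : χ 1 = 1) : beta H χ 1 = 0 := by
  rw [beta, indFun_one, psi_one hχ, mul_zero]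

lemma beta_support {χ : inN H → ℂ} (hχ : χ 1 = 1) {g : G} (hg : beta H χ g ≠ 0) :
    g ≠ 1 ∧ ∃ x : G, x⁻¹ * g * x ∈ H := by
  refine ⟨fun h => hg (by rw [h, beta_one hχ]), ?_⟩
  by_contra hcon
  push Not at hcon
  refine hg ?_
  simp only [beta, Cfsg.indFun]
  rw [Finset.sum_eq_zero, mul_zero]
  intro x _
  by_cases hm : x⁻¹ * g * x ∈ Subgroup.normalizer (H : Set G)
  · rw [extendByZero_of_mem _ (psi H χ) hm]
    exact psi_eq_zero χ (hcon x)
  · exact extendByZero_of_not_mem _ _ hm

/-- The multiplicities in `beta H χ` are read off on `H`. -/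
lemma classInner_beta (χ : inN H → ℂ) {Θ : G → ℂ} (hΘ : Cfsg.IsClassFunction G Θ) :
    Cfsg.classInner (beta H χ) Θ =
      Cfsg.classInner (fun _ => 1) (fun x : inN H => Θ ((x : Subgroup.normalizer (H : Set G)) : G)) -
        Cfsg.classInner χ (fun x : inN H => Θ ((x : Subgroup.normalizer (H : Set G)) : G)) := by
  rw [beta, classInner_indFun _ _ hΘ, psi,
    classInner_indFun (inN H) _ (fun g h => hΘ (g : G) (h : G)), classInner_sub_left]

lemma isGen_beta {χ : inN H → ℂ} (hχ : Cfsg.IsIrrCharacter (inN H) χ) :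
    Cfsg.IsGeneralizedCharacter G (beta H χ) :=
  isGen_indFun _ (isGen_indFun _ (isGen_sub isGen_one (isGen_of_isIrr hχ)))

lemma classInner_beta_one {χ : inN H → ℂ} (hχ : IsNontrivLinear χ) :
    Cfsg.classInner (beta H χ) (fun _ => 1) = 1 := by
  rw [classInner_beta χ (isClassFunction_of_isIrr isIrr_one), classInner_isIrr_self isIrr_one,
    classInner_isIrr_ne hχ.1 isIrr_one hχ.2.2, sub_zero]

/-- The inertia group of a nontrivial linear character is `H`. -/
lemma conjBy_eq_iff (hH : TI H) {χ : inN H → ℂ} (hχ : IsNontrivLinear χ)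
    (g : Subgroup.normalizer (H : Set G)) : g ∈ inN H ↔ conjBy (inN H) χ g = χ := by
  refine ⟨fun hg => funext fun x => isClassFunction_of_isIrr hχ.1 x ⟨g, hg⟩, fun h => ?_⟩
  by_contra hg
  obtain ⟨f, hf⟩ := exists_hom_of_degree_one (isCharacter_of_isIrr hχ.1) hχ.2.1
  have hn : (inN H).Normal := Subgroup.normal_in_normalizer
  let c : inN H → inN H := fun x => ⟨g * x * g⁻¹, hn.conj_mem x x.2 g⟩ * x⁻¹
  have hc : Function.Surjective c := by
    refine Finite.injective_iff_surjective.1 fun p q hpq => ?_
    have h1 := congrArg (fun z : inN H => ((z : Subgroup.normalizer (H : Set G)) : G)) hpq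
    simp only [c, Subgroup.coe_mul, Subgroup.coe_inv] at h1
    set r : G := ((q : Subgroup.normalizer (H : Set G)) : G)⁻¹ * p with hr
    have h2 : (g : G) * r = r * g :=
      calc (g : G) * r = ((g : G) * q * (g : G)⁻¹ * ((q : Subgroup.normalizer (H : Set G)) : G)⁻¹ * q)⁻¹ *
            ((g : G) * p * (g : G)⁻¹ * ((p : Subgroup.normalizer (H : Set G)) : G)⁻¹) * p * g := by
            rw [hr]; group
        _ = r * g := by rw [h1, hr]; group
    have h3 : r = 1 := by
      by_contra h3
      exact hg (hH.centLe r (mul_mem (inv_mem q.2) p.2) h3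
        (Subgroup.mem_centralizer_singleton_iff.2 h2))
    exact Subtype.ext (Subtype.ext (eq_of_inv_mul_eq_one h3).symm)
  refine hχ.2.2 ?_
  rw [hf] at h ⊢
  funext x
  obtain ⟨z, rfl⟩ := hc x
  have h4 : f ⟨g * z * g⁻¹, hn.conj_mem z z.2 g⟩ = f z := Units.ext (congrFun h z)
  simp only [c, map_mul, map_inv, h4, mul_inv_cancel, Units.val_one]

lemma isNontrivLinear_conjBy {χ : inN H → ℂ} (hχ : IsNontrivLinear χ)
    (g : Subgroup.normalizer (H : Set G)) : IsNontrivLinear (conjBy (inN H) χ g) := by
  refine ⟨CfsgLib.CharactersDeep.Clifford.isIrr_conjBy (inN H) hχ.1 g, ?_,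
    fun h => hχ.2.2 (conjBy_injective (inN H) g (h.trans rfl))⟩
  rw [conjBy_apply, ← hχ.2.1]
  exact congrArg χ (Subtype.ext (by simp))

lemma card_orbit (hH : TI H) {χ : inN H → ℂ} (hχ : IsNontrivLinear χ) :
    (orbit (inN H) χ).card = (inN H).index := by
  have h1 := CfsgLib.CharactersDeep.Clifford.card_orbit_mul (inN H) χ (inN H) (conjBy_eq_iff hH hχ)
  rw [← Subgroup.index_mul_card (inN H)] at h1
  exact Nat.eq_of_mul_eq_mul_right Nat.card_pos h1

/-- Inner products of the functions `Ind χ` on the normaliser, tested against the conjugates. -/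
lemma classInner_ind_ind (hH : TI H) {χ χ' : inN H → ℂ} (hχ : IsNontrivLinear χ)
    (hχ' : IsNontrivLinear χ') :
    Cfsg.classInner (Cfsg.indFun (inN H) χ) (Cfsg.indFun (inN H) χ') =
      if χ' ∈ orbit (inN H) χ then 1 else 0 := by
  classical
  rw [classInner_indFun (inN H) χ (isClassFunction_indFun _ _),
    show (fun x : inN H => Cfsg.indFun (inN H) χ' x) = (Nat.card (inN H) : ℂ)⁻¹ •
      ∑ g : Subgroup.normalizer (H : Set G), conjBy (inN H) χ' g from funext fun x => by
        rw [CfsgLib.OddOrderChar.indFun_normal_apply, Pi.smul_apply, Finset.sum_apply, smul_eq_mul],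
    classInner_smul_right, classInner_sum_right, map_inv₀, Complex.conj_natCast]
  split_ifs with h
  · obtain ⟨g₀, hg₀⟩ := (mem_orbit (inN H)).1 h
    rw [Finset.sum_congr rfl (g := fun g => if g₀ * g ∈ inN H then (1 : ℂ) else 0) fun g _ => ?_,
      Finset.sum_boole]
    · rw [inv_mul_eq_one₀ (Nat.cast_ne_zero.2 Nat.card_pos.ne')]
      congr 1
      rw [← Fintype.card_subtype, ← Nat.card_eq_fintype_card]
      exact Nat.card_congr (Equiv.subtypeEquiv (Equiv.mulLeft g₀⁻¹) fun x => by simp)
    · rw [← hg₀, CfsgLib.OddOrderChar.conjBy_mul]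
      split_ifs with hg
      · rw [(conjBy_eq_iff hH hχ _).1 hg, classInner_isIrr_self hχ.1]
      · exact classInner_isIrr_ne hχ.1 (CfsgLib.CharactersDeep.Clifford.isIrr_conjBy _ hχ.1 _)
          fun e => hg ((conjBy_eq_iff hH hχ _).2 e.symm)
  · rw [Finset.sum_eq_zero, mul_zero]
    intro g _
    refine classInner_isIrr_ne hχ.1 (CfsgLib.CharactersDeep.Clifford.isIrr_conjBy _ hχ'.1 _)
      fun e => h ((mem_orbit (inN H)).2 ⟨g⁻¹, ?_⟩)
    rw [e, CfsgLib.OddOrderChar.conjBy_mul, mul_inv_cancel, conjBy_one]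

lemma indFun_const_apply (x : inN H) :
    Cfsg.indFun (inN H) (fun _ => 1) (x : Subgroup.normalizer (H : Set G)) =
      ((inN H).index : ℂ) := by
  rw [CfsgLib.OddOrderChar.indFun_normal_apply]
  simp only [conjBy_apply, Finset.sum_const, Finset.card_univ, nsmul_eq_mul, mul_one]
  rw [← Nat.card_eq_fintype_card, ← Subgroup.index_mul_card (inN H), Nat.cast_mul, mul_comm,
    mul_assoc, mul_inv_cancel₀ (Nat.cast_ne_zero.2 Nat.card_pos.ne'), mul_one]

/-- The Gram matrix of the functions `beta H χ`. -/
theorem classInner_beta_beta (hH : TI H) {χ χ' : inN H → ℂ} (hχ : IsNontrivLinear χ)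
    (hχ' : IsNontrivLinear χ') :
    Cfsg.classInner (beta H χ) (beta H χ') =
      ((inN H).index : ℂ) + if χ' ∈ orbit (inN H) χ then 1 else 0 := by
  have hcl : ∀ η, Cfsg.IsClassFunction (Subgroup.normalizer (H : Set G)) (psi H η) :=
    fun η => isClassFunction_indFun _ _
  have hmix : ∀ {η : inN H → ℂ}, IsNontrivLinear η →
      Cfsg.classInner (Cfsg.indFun (inN H) η) (Cfsg.indFun (inN H) fun _ => 1) = 0 := by
    intro η hη
    rw [classInner_indFun (inN H) η (isClassFunction_indFun _ _),
      show (fun x : inN H => Cfsg.indFun (inN H) (fun _ => 1) (x : Subgroup.normalizer (H : Set G))) =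
        ((inN H).index : ℂ) • (fun _ => 1) from funext fun x => by simp [indFun_const_apply],
      classInner_smul_right, classInner_isIrr_ne hη.1 isIrr_one hη.2.2, mul_zero]
  have hone : Cfsg.classInner (Cfsg.indFun (inN H) fun _ => 1)
      (Cfsg.indFun (inN H) fun _ => 1) = ((inN H).index : ℂ) := by
    rw [classInner_indFun (inN H) _ (isClassFunction_indFun _ _),
      show (fun x : inN H => Cfsg.indFun (inN H) (fun _ => 1) (x : Subgroup.normalizer (H : Set G))) =
        ((inN H).index : ℂ) • (fun _ => 1) from funext fun x => by simp [indFun_const_apply],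
      classInner_smul_right, classInner_isIrr_self isIrr_one, Complex.conj_natCast, mul_one]
  rw [beta, beta, Cfsg.Agent.S0150.result (H : Set G) hH.ti Subgroup.le_normalizer _ _ (hcl χ)
    (hcl χ') (fun x => psi_eq_zero χ) (fun x => psi_eq_zero χ') (psi_one hχ.2.1), psi, psi,
    indFun_sub, indFun_sub, classInner_sub_left, classInner_sub_right, classInner_sub_right, hone,
    hmix hχ, classInner_conj_symm (Cfsg.indFun (inN H) χ') (Cfsg.indFun (inN H) fun _ => 1),
    hmix hχ', map_zero, classInner_ind_ind hH hχ hχ']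
  ring

theorem classInner_beta_self (hH : TI H) {χ : inN H → ℂ} (hχ : IsNontrivLinear χ) :
    Cfsg.classInner (beta H χ) (beta H χ) = ((inN H).index : ℂ) + 1 := by
  rw [classInner_beta_beta hH hχ hχ,
    if_pos ((mem_orbit (inN H)).2 ⟨1, conjBy_one (inN H) χ⟩)]

/-- A nontrivial nilpotent group has a nontrivial linear character. -/
theorem exists_nontrivLinear [Group.IsNilpotent H] (hne : H ≠ ⊥) :
    ∃ χ : inN H → ℂ, IsNontrivLinear χ := by
  classical
  haveI : Group.IsNilpotent (inN H) :=
    Group.nilpotent_of_mulEquiv (Subgroup.subgroupOfEquivOfLe Subgroup.le_normalizer).symm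
  haveI : Nontrivial (inN H) := by
    rw [← Finite.one_lt_card_iff_nontrivial, card_inN]
    exact (Subgroup.one_lt_card_iff_ne_bot H).2 hne
  have hL : 1 < (commutator (inN H)).index := by
    refine lt_of_le_of_ne (Nat.one_le_iff_ne_zero.2 Subgroup.index_ne_zero_of_finite)
      (Ne.symm fun h => ?_)
    exact (Group.IsSolvable.commutator_lt_top_of_nontrivial (inN H)).ne (Subgroup.index_eq_one.1 h)
  by_contra hcon
  push Not at hcon
  rw [← card_linear_char (G := inN H)] at hL
  refine hL.not_ge (Finite.card_le_one_iff_subsingleton.2 ⟨fun a b => ?_⟩)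
  have h : ∀ c : {χ : Cfsg.IrrCharacter (inN H) // (χ : inN H → ℂ) 1 = 1},
      (c.1 : inN H → ℂ) = fun _ => 1 := fun c => by
    by_contra hc
    exact hcon c.1.1 ⟨c.1.2, c.2, hc⟩
  exact Subtype.ext (Subtype.ext ((h a).trans (h b).symm))

end CfsgLib.SpectrumFive
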