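import Cfsg.Agent.SpectrumFive.Sylow
import Cfsg.Agent.SpectrumFive.TIVirtual
import Cfsg.Agent.Characters.FrobeniusKernel

/-!
# The normalisers of the Sylow `3`- and `5`-subgroups
-/

set_option autoImplicit false
set_option linter.style.haveILetI false

namespace CfsgLib.SpectrumFive

variable {G : Type*} [Group G] [Finite G] {p : ℕ}

/-- A group of exponent four with only one involution has at most eight elements. -/
lemma false_of_eight_lt {K : Type*} [Group K] [Finite K] (t : K) (ht : t * t = 1)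
    (huniq : ∀ y : K, y ^ 2 = 1 → y = 1 ∨ y = t) (h4 : ∀ y : K, y ^ 4 = 1)
    (h8 : 8 < Nat.card K) : False := by
  have hsq : ∀ y : K, y ≠ 1 → y ≠ t → y ^ 2 = t := fun y h1 h2 =>
    (huniq (y ^ 2) (by rw [← pow_mul]; exact h4 y)).resolve_left fun e =>
      (huniq y e).elim h1 h2
  have htc : ∀ y : K, t * y = y * t := fun y => by
    rcases eq_or_ne y 1 with rfl | h1
    · simp
    rcases eq_or_ne y t with rfl | h2
    · rfl
    · rw [← hsq y h1 h2, pow_two, mul_assoc]
  obtain ⟨x, hx1, hxt⟩ : ∃ x : K, x ≠ 1 ∧ x ≠ t := by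
    by_contra hcon
    push Not at hcon
    have : Nat.card K ≤ Nat.card Bool := Nat.card_le_card_of_surjective
      (fun b : Bool => if b then t else 1) fun y => by
        by_cases e : y = 1
        · exact ⟨false, by simp [e]⟩
        · exact ⟨true, by simp [hcon y e]⟩
    simp at this
    omega
  have hC : ∀ y : K, x * y = y * x → y = 1 ∨ y = t ∨ y = x ∨ y = t * x := by
    intro y hxy
    rcases eq_or_ne y 1 with rfl | h1
    · exact Or.inl rfl
    rcases eq_or_ne y t with rfl | h2
    · exact Or.inr (Or.inl rfl)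
    have hyy : (x⁻¹ * y) ^ 2 = 1 := by
      have hc : Commute x⁻¹ y := (show Commute x y from hxy).inv_left
      rw [hc.mul_pow, inv_pow, hsq x hx1 hxt, hsq y h1 h2, inv_mul_cancel]
    rcases huniq _ hyy with e | e
    · exact Or.inr (Or.inr (Or.inl (inv_mul_eq_one.1 e).symm))
    · exact Or.inr (Or.inr (Or.inr (by rw [htc, ← e, mul_inv_cancel_left])))
  have hinv : ∀ y : K, x * y ≠ y * x → y * x * y⁻¹ = t * x := by
    intro y hy
    have h1 : y ≠ 1 := fun e => hy (by simp [e])
    have h2 : y ≠ t := fun e => hy (by rw [e, htc])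
    have h3 : y * x ≠ 1 := fun e => hy (by
      rw [eq_inv_of_mul_eq_one_left e, mul_inv_cancel, inv_mul_cancel])
    have h4' : y * x ≠ t := fun e => hy (by
      have : y = t * x⁻¹ := by rw [← e, mul_inv_cancel_right]
      rw [this, ← mul_assoc, ← htc, mul_assoc, mul_inv_cancel, mul_assoc, inv_mul_cancel])
    have h5 := hsq _ h3 h4'
    have hyt := hsq y h1 h2
    have hxt' := hsq x hx1 hxt
    have hxi : x⁻¹ = t * x := inv_eq_of_mul_eq_one_right (by
      rw [htc, ← mul_assoc, ← pow_two, hxt', ht])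
    have hyi : y⁻¹ = t * y := inv_eq_of_mul_eq_one_right (by
      rw [htc, ← mul_assoc, ← pow_two, hyt, ht])
    calc y * x * y⁻¹ = (y * x) ^ 2 * (x⁻¹ * y⁻¹ * y⁻¹) := by rw [pow_two]; group
      _ = t * (x⁻¹ * (y ^ 2)⁻¹) := by rw [h5, pow_two, mul_inv_rev, mul_assoc]
      _ = t * x := by
        rw [hyt, inv_eq_of_mul_eq_one_right ht, hxi, ← htc (t * x), ← mul_assoc t t, ht, one_mul]
  obtain ⟨y, hy⟩ | hall := exists_or_forall_not (fun y : K => x * y ≠ y * x)
  · have hcard : Nat.card K ≤ Nat.card (Fin 4 ⊕ Fin 4) := by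
      refine Nat.card_le_card_of_surjective
        (Sum.elim ![1, t, x, t * x] fun i => y * ![1, t, x, t * x] i) fun z => ?_
      by_cases hz : x * z = z * x
      · rcases hC z hz with e | e | e | e
        exacts [⟨.inl 0, by simp [e]⟩, ⟨.inl 1, by simp [e]⟩, ⟨.inl 2, by simp [e]⟩,
          ⟨.inl 3, by simp [e]⟩]
      · have h1 : x * (y⁻¹ * z) = y⁻¹ * z * x := by
          have := (hinv z hz).trans (hinv y hy).symm
          calc x * (y⁻¹ * z) = y⁻¹ * (y * x * y⁻¹) * z := by group
            _ = y⁻¹ * (z * x * z⁻¹) * z := by rw [this]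
            _ = y⁻¹ * z * x := by group
        rcases hC _ h1 with e | e | e | e
        exacts [⟨.inr 0, by simp [← e]⟩, ⟨.inr 1, by simp [← e]⟩, ⟨.inr 2, by simp [← e]⟩,
          ⟨.inr 3, by simp [← e]⟩]
    simp at hcard
    omega
  · have hcard : Nat.card K ≤ Nat.card (Fin 4) := by
      refine Nat.card_le_card_of_surjective ![1, t, x, t * x] fun z => ?_
      rcases hC z (not_not.1 (hall z)) with e | e | e | e
      exacts [⟨0, e.symm⟩, ⟨1, e.symm⟩, ⟨2, e.symm⟩, ⟨3, e.symm⟩]
    simp at hcard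
    omega

theorem ti_sylow (h : OrdersLeFive G) (hp : p = 3 ∨ p = 5) (P : Sylow p G) : TI (P : Subgroup G) where
  centLe := fun _ hx hx1 => centralizer_le_sylow h hp P hx hx1
  ti := fun g hg t ht hgt => sylow_ti h hp P g hg t ht hgt

/-- An element of order `p` conjugate to its inverse. -/
def IsReal (G : Type*) [Group G] (p : ℕ) : Prop :=
  ∃ x g : G, orderOf x = p ∧ g * x * g⁻¹ = x⁻¹

/-- When some element of order `p` is real, each Sylow `p`-subgroup is abelian and inverted by an
involution, every element of order `p` is real, and the index in the normaliser divides eight. -/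
theorem real_structure (h : OrdersLeFive G) (hp : p = 3 ∨ p = 5) (hr : IsReal G p) (P : Sylow p G) :
    ∃ t : G, orderOf t = 2 ∧ (∀ x ∈ (P : Subgroup G), t * x * t⁻¹ = x⁻¹) ∧
      (∀ a ∈ (P : Subgroup G), ∀ b ∈ (P : Subgroup G), a * b = b * a) ∧
      (inN (P : Subgroup G)).index ∣ 8 ∧ 2 ∣ (inN (P : Subgroup G)).index := by
  haveI := Fact.mk (prime_of_eq hp)
  haveI := Fintype.ofFinite G
  obtain ⟨x, g, hx, hg⟩ := hr
  obtain ⟨t, htN, ht⟩ := even_normalizer_of_real h hp P hx hg
  have hinv : ∀ x ∈ (P : Subgroup G), t * x * t⁻¹ = x⁻¹ := fun x hx =>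
    conj_eq_inv_of_involution h hp P.isPGroup' ht htN hx
  have hne : (P : Subgroup G) ≠ ⊥ := P.ne_bot_of_dvd_card (hx ▸ orderOf_dvd_natCard x)
  refine ⟨t, ht, hinv, fun a ha b hb => ?_, ?_, ?_⟩
  · have h1 := hinv _ (mul_mem ha hb)
    rw [show t * (a * b) * t⁻¹ = (t * a * t⁻¹) * (t * b * t⁻¹) by group, hinv a ha, hinv b hb,
      mul_inv_rev] at h1
    have h2 := congrArg (fun z => z⁻¹) h1
    simpa [mul_inv_rev] using h2.symm
  all_goals
    set N := Subgroup.normalizer ((P : Subgroup G) : Set G) with hN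
    set K := Subgroup.centralizer ({t} : Set G) ⊓ N with hK
    have hK4 : ∀ y ∈ K, y ^ 4 = 1 := fun y hy =>
      pow_four_eq_one_of_commute h ht (Subgroup.mem_centralizer_singleton_iff.1 hy.1).symm
    have htK : t ∈ K := ⟨Subgroup.mem_centralizer_singleton_iff.2 rfl, htN⟩
    have huniq : ∀ u ∈ K, orderOf u = 2 → u = t := by
      intro u hu hu2
      obtain ⟨hp1, -, -⟩ := exists_conj_of_inverting h hp P.isPGroup' hne ht hu2 htN hu.2
      have := eq_one_of_pow_four hp hp1 (hK4 _ (mul_mem hu htK))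
      exact (eq_inv_of_mul_eq_one_left this).trans
        (inv_eq_of_mul_eq_one_right (by rw [← pow_two, ← ht, pow_orderOf_eq_one]))
    have hidx : (inN (P : Subgroup G)).index = Nat.card K := by
      have hcomp : Nat.card N = Nat.card (P : Subgroup G) * Nat.card K := by
        rw [← Nat.card_prod]
        refine (Nat.card_congr (Equiv.ofBijective
          (fun z : ↥(P : Subgroup G) × ↥K => (⟨(z.1 : G) * z.2,
            mul_mem (Subgroup.le_normalizer z.1.2) z.2.2.2⟩ : N)) ⟨?_, ?_⟩)).symm
        · rintro ⟨a, b⟩ ⟨a', b'⟩ hab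
          have h1 : (a : G) * b = a' * b' := congrArg Subtype.val hab
          have h2 : (a' : G)⁻¹ * a = b' * (b : G)⁻¹ := by
            calc (a' : G)⁻¹ * a = (a' : G)⁻¹ * (a * b) * (b : G)⁻¹ := by group
              _ = b' * (b : G)⁻¹ := by rw [h1]; group
          have hmem : (a' : G)⁻¹ * a ∈ (P : Subgroup G) := mul_mem (inv_mem a'.2) a.2
          have h3 : (a' : G)⁻¹ * a = 1 := by
            by_contra h3
            refine h3 (eq_one_of_pow_four hp ?_ (by rw [h2]; exact hK4 _ (mul_mem b'.2 (inv_mem b.2))))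
            exact orderOf_dvd_iff_pow_eq_one.1 (dvd_of_eq (orderOf_eq_of_mem h hp P.isPGroup' hmem h3))
          exact Prod.ext (Subtype.ext (inv_mul_eq_one.1 h3).symm)
            (Subtype.ext (mul_inv_eq_one.1 (h2 ▸ h3)).symm)
        · rintro ⟨g, hgN⟩
          obtain ⟨hp1, hcd, j, hj⟩ := exists_conj_of_inverting h hp P.isPGroup' hne ht
            (u := g * t * g⁻¹) (by rw [← MulAut.conj_apply, MulEquiv.orderOf_eq, ht]) htN
            (mul_mem (mul_mem hgN htN) (inv_mem hgN))
          set r := ((g * t * g⁻¹) * t) ^ j with hr'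
          obtain ⟨d, hd, hd1⟩ := (Subgroup.bot_or_exists_ne_one (P : Subgroup G)).resolve_left hne
          have hrP : r ∈ (P : Subgroup G) := pow_mem (centralizer_le_sylow h hp P hd hd1
            (Subgroup.mem_centralizer_singleton_iff.2 (hcd d hd).eq)) j
          have hrgN : r⁻¹ * g ∈ N := mul_mem (inv_mem (Subgroup.le_normalizer hrP)) hgN
          refine ⟨(⟨r, hrP⟩, ⟨r⁻¹ * g, Subgroup.mem_centralizer_singleton_iff.2 ?_, hrgN⟩),
            Subtype.ext (mul_inv_cancel_left r g)⟩
          refine mul_inv_eq_iff_eq_mul.1 ?_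
          calc r⁻¹ * g * t * (r⁻¹ * g)⁻¹ = r⁻¹ * (g * t * g⁻¹) * r := by group
            _ = r⁻¹ * (r * t * r⁻¹) * r := by rw [hj]
            _ = t := by group
      rw [← Subgroup.index_mul_card (inN (P : Subgroup G)), card_inN, mul_comm] at hcomp
      exact Nat.eq_of_mul_eq_mul_left Nat.card_pos hcomp
    rw [hidx]
  · haveI : Fact (Nat.Prime 2) := ⟨Nat.prime_two⟩
    -- a group of exponent four with one involution has at most eight elements
    have hKp : IsPGroup 2 K := fun y => ⟨2, Subtype.ext (hK4 y y.2)⟩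
    obtain ⟨n, hn⟩ := IsPGroup.iff_card.1 hKp
    rw [hn]
    refine Nat.pow_dvd_pow 2 (show n ≤ 3 from ?_)
    by_contra hn3
    exact false_of_eight_lt (K := K) ⟨t, htK⟩ (Subtype.ext (by
        show t * t = 1
        rw [← pow_two, ← ht, pow_orderOf_eq_one]))
      (fun y hy => by
        by_cases h1 : y = 1
        · exact Or.inl h1
        · refine Or.inr (Subtype.ext (huniq y y.2 (orderOf_eq_prime ?_ fun e => h1 (Subtype.ext e))))
          exact congrArg Subtype.val hy)
      (fun y => Subtype.ext (hK4 y y.2)) (by rw [hn]; calc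
        8 < 2 ^ 4 := by norm_num
        _ ≤ 2 ^ n := Nat.pow_le_pow_right (by norm_num) (by omega))
  · exact ht ▸ Subgroup.orderOf_dvd_natCard K htK

/-- When no element of order `p` is real, the index in the normaliser divides the other odd
prime. -/
theorem nonreal_structure (h : OrdersLeFive G) (hp : p = 3 ∨ p = 5) (hr : ¬ IsReal G p)
    (P : Sylow p G) (hne : (P : Subgroup G) ≠ ⊥) :
    (inN (P : Subgroup G)).index ∣ if p = 3 then 5 else 3 := by
  haveI := Fact.mk (prime_of_eq hp)
  set N := Subgroup.normalizer ((P : Subgroup G) : Set G) with hN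
  obtain ⟨d, hd, hd1⟩ := (Subgroup.bot_or_exists_ne_one (P : Subgroup G)).resolve_left hne
  have hdo := orderOf_eq_of_mem h hp P.isPGroup' hd hd1
  have h2 : ¬ 2 ∣ Nat.card N := by
    intro h2
    obtain ⟨u, hu⟩ := exists_prime_orderOf_dvd_card' (G := N) 2 h2
    exact hr ⟨d, u, hdo, conj_eq_inv_of_involution h hp P.isPGroup'
      (by rw [Subgroup.orderOf_coe, hu]) u.2 hd⟩
  set q := if p = 3 then 5 else 3 with hqdef
  have hq : q.Prime := by rw [hqdef]; split_ifs <;> norm_num
  have hqp : q ≠ p := by rw [hqdef]; rcases hp with rfl | rfl <;> norm_num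
  have hq35 : q = 3 ∨ q = 5 := by rw [hqdef]; split_ifs <;> simp
  haveI := Fact.mk hq
  have hidx0 : (inN (P : Subgroup G)).index ≠ 0 := Subgroup.index_ne_zero_of_finite
  have hidxN : (inN (P : Subgroup G)).index ∣ Nat.card N := Subgroup.index_dvd_card _
  have hPi : ¬ p ∣ (inN (P : Subgroup G)).index := fun hd' =>
    P.not_dvd_index (hd'.trans (Subgroup.relIndex_dvd_index_of_le Subgroup.le_normalizer))
  rw [← Nat.factorization_le_iff_dvd hidx0 hq.ne_zero]
  intro r
  by_cases hr' : r.Prime
  swap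
  · simp [hr']
  by_cases hrd : r ∣ (inN (P : Subgroup G)).index
  swap
  · simp [Nat.factorization_eq_zero_of_not_dvd hrd]
  have hrN : r ∣ Nat.card N := hrd.trans hidxN
  have hrp : r ≠ p := fun e => hPi (e ▸ hrd)
  have hrq : r = q := by
    rcases prime_le_five (h.subgroup N) hr' hrN with rfl | rfl | rfl
    · exact absurd hrN h2
    · rw [hqdef]; rcases hp with rfl | rfl <;> simp_all
    · rw [hqdef]; rcases hp with rfl | rfl <;> simp_all
  subst hrq
  rw [hq.factorization_self]
  obtain ⟨S⟩ : Nonempty (Sylow q N) := inferInstance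
  have hSle : Nat.card (S : Subgroup N) ≤ q := by
    rw [Nat.card_congr ((S : Subgroup N).equivMapOfInjective _ N.subtype_injective).toEquiv]
    refine card_le_of_fixedPointFree h hp hq hqp P.isPGroup' hne (S.isPGroup'.map _) ?_
      (Subgroup.map_subtype_le _)
    intro s hs
    by_cases hs1 : s = 1
    · rw [hs1, one_pow]
    exact orderOf_dvd_iff_pow_eq_one.1
      (dvd_of_eq (orderOf_eq_of_mem h hq35 (S.isPGroup'.map N.subtype) hs hs1))
  have hle : q ^ ((inN (P : Subgroup G)).index.factorization q) ≤ q ^ 1 := by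
    rw [pow_one]
    exact le_trans (Nat.le_of_dvd Nat.card_pos (S.pow_dvd_card_of_pow_dvd_card
      ((Nat.ordProj_dvd _ q).trans hidxN))) hSle
  exact (Nat.pow_le_pow_iff_right hq.one_lt).1 hle

/-- In a simple group the index in the normaliser of a Sylow subgroup is not one. -/
theorem index_ne_one [IsSimpleGroup G] (h : OrdersLeFive G) (hp : p = 3 ∨ p = 5) (P : Sylow p G)
    (hne : (P : Subgroup G) ≠ ⊥) (htop : (P : Subgroup G) ≠ ⊤) :
    (inN (P : Subgroup G)).index ≠ 1 := by
  intro h1
  have hNP : Subgroup.normalizer ((P : Subgroup G) : Set G) ≤ P :=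
    Subgroup.subgroupOf_eq_top.1 (Subgroup.index_eq_one.1 h1)
  obtain ⟨N, hN, hcomp, -⟩ := CfsgLib.Characters.exists_frobenius_kernel (P : Subgroup G)
    fun g hg x hx hgx => sylow_ti h hp P g (fun hgN => hg (hNP hgN)) x hx hgx
  rcases hN.eq_bot_or_eq_top with e | e <;> subst e
  · exact htop (by simpa [Subgroup.isComplement'_bot_left] using hcomp)
  · exact hne (by simpa [Subgroup.isComplement'_top_left] using hcomp)

end CfsgLib.SpectrumFive
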