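import Cfsg.Agent.S0840
import Cfsg.Agent.SpectrumFive.Normalizer

/-!
# Class functions evaluated on class multiplication coefficients
-/

set_option autoImplicit false
set_option linter.style.haveILetI false

namespace CfsgLib.SpectrumFive

open CfsgLib.Characters
open scoped ComplexConjugate

universe u

variable {G : Type u} [Group G] [Fintype G]

/-- If the class function `f` vanishes at every product of a conjugate of `a` and one of `b`, then
`∑ χ(a) χ(b) ⟨f, χ⟩ / χ(1) = 0`. -/
theorem sum_pairs_eq_zero (a b : G) (f : G → ℂ)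
    (h : ∀ u v : G, IsConj a u → IsConj b v → f (u * v) = 0) :
    ∑ χ : Cfsg.IrrCharacter G,
      (χ : G → ℂ) a * (χ : G → ℂ) b * Cfsg.classInner f (χ : G → ℂ) / (χ : G → ℂ) 1 = 0 := by
  classical
  have hF : ∀ c : G, f c * (∑ χ : Cfsg.IrrCharacter G,
      (χ : G → ℂ) a * (χ : G → ℂ) b * conj ((χ : G → ℂ) c) / (χ : G → ℂ) 1) = 0 := by
    intro c
    by_cases hc : f c = 0
    · rw [hc, zero_mul]
    rw [mul_eq_zero]
    right
    have h0 := Cfsg.Agent.S0840.result a b c
    haveI : IsEmpty {p : G × G // IsConj a p.1 ∧ IsConj b p.2 ∧ p.1 * p.2 = c} :=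
      ⟨fun ⟨p, h1, h2, h3⟩ => hc (h3 ▸ h p.1 p.2 h1 h2)⟩
    rw [Nat.card_of_isEmpty, Nat.cast_zero, finsum_eq_sum_of_fintype, eq_comm, mul_eq_zero] at h0
    refine h0.resolve_left (div_ne_zero (mul_ne_zero ?_ ?_) natCard_ne_zero) <;>
      exact Nat.cast_ne_zero.2 (Nat.card_ne_zero.2 ⟨⟨⟨_, IsConj.refl _⟩⟩, inferInstance⟩)
  have key : ∑ c, f c * (∑ χ : Cfsg.IrrCharacter G,
      (χ : G → ℂ) a * (χ : G → ℂ) b * conj ((χ : G → ℂ) c) / (χ : G → ℂ) 1) =
      (Nat.card G : ℂ) * ∑ χ : Cfsg.IrrCharacter G,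
        (χ : G → ℂ) a * (χ : G → ℂ) b * Cfsg.classInner f (χ : G → ℂ) / (χ : G → ℂ) 1 := by
    simp only [Finset.mul_sum]
    rw [Finset.sum_comm]
    refine Finset.sum_congr rfl fun χ _ => ?_
    simp only [Cfsg.classInner, Finset.mul_sum, Finset.sum_div]
    refine Finset.sum_congr rfl fun c _ => ?_
    field_simp [natCard_ne_zero (G := G)]
  rw [Finset.sum_eq_zero fun c _ => hF c, eq_comm, mul_eq_zero] at key
  exact key.resolve_left natCard_ne_zero

/-- The value of a character at an element conjugate to its inverse is real. -/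
theorem conj_apply_of_conj_inv {χ : G → ℂ} (hχ : Cfsg.IsIrrCharacter G χ) {x g : G}
    (hg : g * x * g⁻¹ = x⁻¹) : conj (χ x) = χ x := by
  rw [← character_inv (isCharacter_of_isIrr hχ), ← hg]
  exact isClassFunction_of_isIrr hχ x g

/-- An irreducible character takes real values at involutions. -/
theorem conj_apply_of_involution {χ : G → ℂ} (hχ : Cfsg.IsIrrCharacter G χ) {z : G}
    (hz : orderOf z = 2) : conj (χ z) = χ z := by
  refine conj_apply_of_conj_inv hχ (g := 1) ?_
  rw [one_mul, inv_one, mul_one, eq_inv_iff_mul_eq_one, ← pow_two, ← hz, pow_orderOf_eq_one]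

end CfsgLib.SpectrumFive
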