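import Cfsg.Agent.SpectrumFive.Pairs
import Cfsg.Agent.SpectrumFive.Exceptional
import Cfsg.Agent.SpectrumFive.Algebra
import Cfsg.Agent.Characters.Burnside

/-!
# In a simple group with element orders at most five, elements of order three and five are real
-/

set_option autoImplicit false
set_option linter.style.haveILetI false

namespace CfsgLib.SpectrumFive

open CfsgLib.Characters
open scoped ComplexConjugate

universe u

variable {G : Type u} [Group G] [Finite G]

/-- Two involutions whose product has order dividing four generate a `2`-group. -/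
theorem isPGroup_closure_pair {a b : G} (ha : a * a = 1) (hb : b * b = 1) (h4 : (a * b) ^ 4 = 1) :
    IsPGroup 2 (Subgroup.closure ({a, b} : Set G)) := by
  have hai : a⁻¹ = a := inv_eq_of_mul_eq_one_right ha
  have hbi : b⁻¹ = b := inv_eq_of_mul_eq_one_right hb
  set R := Subgroup.zpowers (a * b) with hR
  have hflip : ∀ n : ℤ, a * (a * b) ^ n = (a * b) ^ (-n) * a := by
    intro n
    rw [← mul_inv_eq_iff_eq_mul, ← conj_zpow, show a * (a * b) * a⁻¹ = (a * b)⁻¹ by
      rw [mul_inv_rev, hai, hbi, ← mul_assoc, ha, one_mul], inv_zpow, zpow_neg]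
  have hab : b = a * (a * b) := by rw [← mul_assoc, ha, one_mul]
  have hmem : ∀ x ∈ Subgroup.closure ({a, b} : Set G), ∃ n : ℤ, x = (a * b) ^ n ∨ x = a * (a * b) ^ n := by
    intro x hx
    induction hx using Subgroup.closure_induction with
    | mem y hy =>
      rcases hy with rfl | rfl
      · exact ⟨0, Or.inr (by simp)⟩
      · exact ⟨1, Or.inr (by rw [zpow_one]; exact hab)⟩
    | one => exact ⟨0, Or.inl (by simp)⟩
    | mul y z _ _ hy hz =>
      obtain ⟨m, rfl | rfl⟩ := hy <;> obtain ⟨n, rfl | rfl⟩ := hz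
      · exact ⟨m + n, Or.inl (zpow_add _ _ _).symm⟩
      · refine ⟨-m + n, Or.inr ?_⟩
        rw [← mul_assoc, show (a * b) ^ m * a = a * (a * b) ^ (-m) by rw [hflip, neg_neg],
          mul_assoc, ← zpow_add]
      · exact ⟨m + n, Or.inr (by rw [mul_assoc, ← zpow_add])⟩
      · refine ⟨-m + n, Or.inl ?_⟩
        rw [hflip m, mul_assoc, ← mul_assoc a a, ha, one_mul, ← zpow_add]
    | inv y _ hy =>
      obtain ⟨n, rfl | rfl⟩ := hy
      · exact ⟨-n, Or.inl (zpow_neg _ _).symm⟩
      · refine ⟨n, Or.inr ?_⟩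
        rw [mul_inv_rev, hai, ← zpow_neg, hflip n]
  intro x
  obtain ⟨n, hn | hn⟩ := hmem x x.2
  · refine ⟨2, Subtype.ext ?_⟩
    show (x : G) ^ 2 ^ 2 = 1
    rw [hn, ← zpow_natCast, ← zpow_mul, mul_comm, zpow_mul, zpow_natCast]
    simp [show (2 : ℕ) ^ 2 = 4 from rfl, h4]
  · refine ⟨1, Subtype.ext ?_⟩
    show (x : G) ^ 2 ^ 1 = 1
    rw [hn, pow_one, pow_two]
    nth_rw 1 [hflip n]
    rw [mul_assoc, ← mul_assoc a a, ha, one_mul, ← zpow_add, neg_add_cancel, zpow_zero]

/-- An element conjugate into a `p`-subgroup, other than `1`, has order `p`. -/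
theorem orderOf_of_conj_mem (h : OrdersLeFive G) {p : ℕ} (hp : p = 3 ∨ p = 5) (P : Sylow p G)
    {c : G} (hc : c ≠ 1 ∧ ∃ x : G, x⁻¹ * c * x ∈ (P : Subgroup G)) : orderOf c = p := by
  obtain ⟨hc1, x, hx⟩ := hc
  rw [← MulEquiv.orderOf_eq (MulAut.conj x⁻¹) c, MulAut.conj_apply, inv_inv]
  exact orderOf_eq_of_mem h hp P.isPGroup' hx fun e => hc1 <| by
    have := congrArg (fun y => x * y * x⁻¹) e
    simpa [mul_assoc] using this

/-- Every element of order `p` is conjugate to its inverse once one of them is. -/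
theorem exists_conj_inv (h : OrdersLeFive G) {p : ℕ} (hp : p = 3 ∨ p = 5) (hr : IsReal G p) {x : G}
    (hx : orderOf x = p) : ∃ t : G, orderOf t = 2 ∧ t * x * t⁻¹ = x⁻¹ := by
  haveI := Fact.mk (prime_of_eq hp)
  obtain ⟨P, hP⟩ := IsPGroup.exists_le_sylow (G := G) (p := p) (P := Subgroup.zpowers x)
    (isPGroup_zpowers x (by rw [← hx, pow_orderOf_eq_one]))
  obtain ⟨t, ht, hinv, -⟩ := real_structure h hp hr P
  exact ⟨t, ht, hinv x (hP (Subgroup.mem_zpowers x))⟩

/-- If no element of order three is real, an involution times an element of order three has order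
three. -/
theorem pow_three_of_nonreal (h : OrdersLeFive G) (h3 : ¬ IsReal G 3) {z y : G}
    (hz : orderOf z = 2) (hy : orderOf y = 3) : orderOf (z * y) = 3 := by
  have hzz : z * z = 1 := by rw [← pow_two, ← hz, pow_orderOf_eq_one]
  have hyy : y * y * y = 1 := by rw [← pow_three', ← hy, pow_orderOf_eq_one]
  have hpow := pow_orderOf_eq_one (z * y)
  have h5 := h (z * y)
  have h0 := orderOf_pos (z * y)
  generalize hm : orderOf (z * y) = m at h5 h0 hpow
  interval_cases m
  · exfalso
    rw [pow_one] at hpow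
    rw [← inv_eq_of_mul_eq_one_right hpow, orderOf_inv, hz] at hy
    omega
  · exfalso
    refine h3 ⟨y, z, hy, eq_inv_of_mul_eq_one_left ?_⟩
    rw [inv_eq_of_mul_eq_one_right hzz, mul_assoc, ← pow_two]
    exact hpow
  · rfl
  · exfalso
    obtain ⟨g, hg⟩ := conj_eq_inv_of_four hzz hyy hpow
    exact h3 ⟨y, g, hy, hg⟩
  · exfalso
    obtain ⟨g, hg⟩ := conj_eq_inv_of_five hzz hyy hpow
    exact h3 ⟨y, g, hy, hg⟩

/-- Real elements of order five force real elements of order three. -/
theorem real_three_of_real_five [IsSimpleGroup G] (h : OrdersLeFive G) (hG : ¬ IsMulCommutative G)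
    (h3 : 3 ∣ Nat.card G) (hr : IsReal G 5) : IsReal G 3 := by
  by_contra hn
  haveI : Fact (Nat.Prime 3) := ⟨Nat.prime_three⟩
  haveI : Fact (Nat.Prime 5) := ⟨Nat.prime_five⟩
  obtain ⟨Q⟩ : Nonempty (Sylow 3 G) := inferInstance
  have hne : (Q : Subgroup G) ≠ ⊥ := Q.ne_bot_of_dvd_card h3
  have htop : (Q : Subgroup G) ≠ ⊤ := by
    intro e
    obtain ⟨x, g, hx, -⟩ := hr
    have hxQ : x ∈ (Q : Subgroup G) := e ▸ Subgroup.mem_top x
    have := orderOf_eq_of_mem h (Or.inl rfl) Q.isPGroup' hxQ fun e' => by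
      rw [e', orderOf_one] at hx
      omega
    omega
  set N := Subgroup.normalizer ((Q : Subgroup G) : Set G) with hN
  have hidx : (inN (Q : Subgroup G)).index = 5 := by
    have h5 := nonreal_structure h (Or.inl rfl) hn Q hne
    rw [if_pos rfl] at h5
    exact ((Nat.dvd_prime Nat.prime_five).1 h5).resolve_left (index_ne_one h (Or.inl rfl) Q hne htop)
  obtain ⟨x, hx⟩ := exists_prime_orderOf_dvd_card' (G := N) 5
    ((dvd_of_eq hidx.symm).trans (Subgroup.index_dvd_card _))
  have hx' : orderOf (x : G) = 5 := by rw [Subgroup.orderOf_coe, hx]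
  obtain ⟨t, ht, htx⟩ := exists_conj_inv h (Or.inr rfl) hr hx'
  obtain ⟨y, hy, hy1⟩ := (Subgroup.bot_or_exists_ne_one (Q : Subgroup G)).resolve_left hne
  have hyo := orderOf_eq_of_mem h (Or.inl rfl) Q.isPGroup' hy hy1
  have htt : t * t = 1 := by rw [← pow_two, ← ht, pow_orderOf_eq_one]
  have hti : t⁻¹ = t := inv_eq_of_mul_eq_one_right htt
  have htx2 : orderOf (t * x) = 2 := by
    refine orderOf_eq_prime ?_ fun e => ?_
    · rw [pow_two, ← mul_assoc]
      rw [hti] at htx
      rw [htx, inv_mul_cancel]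
    · rw [← inv_eq_of_mul_eq_one_right e, orderOf_inv, ht] at hx'
      omega
  have h3' := pow_three_of_nonreal h hn htx2 (pow_three_of_nonreal h hn ht hyo)
  rw [show t * (x : G) * (t * y) = (x : G)⁻¹ * y by rw [← mul_assoc, ← htx, hti]] at h3'
  -- in `N / Q` the image of `x` has order dividing three and five
  let π := QuotientGroup.mk' (inN (Q : Subgroup G))
  let y' : N := ⟨y, Subgroup.le_normalizer hy⟩
  have hπy : π y' = 1 := (QuotientGroup.eq_one_iff _).2 hy
  have h1 : orderOf (π x) ∣ 3 := by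
    have := orderOf_map_dvd π (x⁻¹ * y')
    rw [map_mul, map_inv, hπy, mul_one, orderOf_inv, ← Subgroup.orderOf_coe (x⁻¹ * y')] at this
    exact this.trans (dvd_of_eq h3')
  have h2 : orderOf (π x) ∣ 5 := hx ▸ orderOf_map_dvd π x
  have hπx : π x = 1 := orderOf_eq_one_iff.1 (Nat.dvd_one.1 ((Nat.dvd_gcd h1 h2).trans (by decide)))
  have hxQ : (x : G) ∈ (Q : Subgroup G) := (QuotientGroup.eq_one_iff x).1 hπx
  have := orderOf_eq_of_mem h (Or.inl rfl) Q.isPGroup' hxQ fun e => by
    rw [e, orderOf_one] at hx'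
    omega
  omega

/-- Real elements of order three force real elements of order five. -/
theorem real_five_of_real_three [IsSimpleGroup G] (h : OrdersLeFive G) (hG : ¬ IsMulCommutative G)
    (h5 : 5 ∣ Nat.card G) (hr : IsReal G 3) : IsReal G 5 := by
  classical
  by_contra hn
  haveI := Fintype.ofFinite G
  haveI : Fact (Nat.Prime 3) := ⟨Nat.prime_three⟩
  haveI : Fact (Nat.Prime 5) := ⟨Nat.prime_five⟩
  obtain ⟨P⟩ : Nonempty (Sylow 3 G) := inferInstance
  obtain ⟨Q⟩ : Nonempty (Sylow 5 G) := inferInstance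
  obtain ⟨x₀, g₀, hx₀, -⟩ := id hr
  have hP : (P : Subgroup G) ≠ ⊥ := P.ne_bot_of_dvd_card (hx₀ ▸ orderOf_dvd_natCard x₀)
  have hQ : (Q : Subgroup G) ≠ ⊥ := Q.ne_bot_of_dvd_card h5
  have hQtop : (Q : Subgroup G) ≠ ⊤ := by
    intro e
    have hxQ : x₀ ∈ (Q : Subgroup G) := e ▸ Subgroup.mem_top x₀
    have := orderOf_eq_of_mem h (Or.inr rfl) Q.isPGroup' hxQ fun e' => by
      rw [e', orderOf_one] at hx₀
      omega
    omega
  obtain ⟨z, hz, hzinv, hab, hw8, -⟩ := real_structure h (Or.inl rfl) hr P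
  have hTP := ti_sylow h (Or.inl rfl) P
  have hTQ := ti_sylow h (Or.inr rfl) Q
  have hwQ : (inN (Q : Subgroup G)).index = 3 := by
    have h3 := nonreal_structure h (Or.inr rfl) hn Q hQ
    rw [if_neg (by norm_num)] at h3
    exact ((Nat.dvd_prime Nat.prime_three).1 h3).resolve_left (index_ne_one h (Or.inr rfl) Q hQ hQtop)
  haveI : Group.IsNilpotent (P : Subgroup G) := P.isPGroup'.isNilpotent
  haveI : Group.IsNilpotent (Q : Subgroup G) := Q.isPGroup'.isNilpotent
  obtain ⟨η, hη⟩ := exists_nontrivLinear (H := (P : Subgroup G)) hP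
  obtain ⟨θ, hθ⟩ := exists_nontrivLinear (H := (Q : Subgroup G)) hQ
  set α := beta (P : Subgroup G) η with hα
  set β := beta (Q : Subgroup G) θ with hβ
  have hαs : ∀ {c : G}, α c ≠ 0 → orderOf c = 3 := fun hc =>
    orderOf_of_conj_mem h (Or.inl rfl) P (beta_support hη.2.1 hc)
  have hβs : ∀ {c : G}, β c ≠ 0 → orderOf c = 5 := fun hc =>
    orderOf_of_conj_mem h (Or.inr rfl) Q (beta_support hθ.2.1 hc)
  obtain ⟨A, hAexp, hA⟩ := exists_int_coeff (isGen_beta (H := (P : Subgroup G)) hη.1)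
  obtain ⟨B, hBexp, hB⟩ := exists_int_coeff (isGen_beta (H := (Q : Subgroup G)) hθ.1)
  choose d hdpos hd using fun χ : Cfsg.IrrCharacter G => exists_degree_pos χ.2
  let one' : Cfsg.IrrCharacter G := ⟨fun _ => 1, isIrr_one⟩
  -- the relations
  have E1 : ∑ χ, (B χ : ℂ) * (d χ : ℂ) = 0 := by
    have := congrFun hBexp 1
    rw [beta_one hθ.2.1, Finset.sum_apply] at this
    simpa [hd, smul_eq_mul] using this.symm
  have E2 : ∑ χ : Cfsg.IrrCharacter G, (B χ : ℂ) * (χ : G → ℂ) z = 0 := by
    have := congrFun hBexp z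
    rw [show beta (Q : Subgroup G) θ z = 0 from by_contra fun hne => by
      have := hβs hne; omega, Finset.sum_apply] at this
    simpa [smul_eq_mul] using this.symm
  have hzz : z * z = 1 := by rw [← pow_two, ← hz, pow_orderOf_eq_one]
  have hconjord : ∀ {a u : G}, IsConj a u → orderOf u = orderOf a := by
    intro a u hu
    obtain ⟨g, rfl⟩ := isConj_iff.1 hu
    rw [← MulAut.conj_apply, MulEquiv.orderOf_eq]
  have E4 : ∑ χ : Cfsg.IrrCharacter G, (χ : G → ℂ) z * (χ : G → ℂ) z * (B χ : ℂ) / (d χ : ℂ) = 0 := by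
    have := sum_pairs_eq_zero z z β fun u v hu hv => by
      by_contra hne
      have h2 := hconjord hu
      have huu : u * u = 1 := by rw [← pow_two, ← hz, ← h2, pow_orderOf_eq_one]
      have hvv : v * v = 1 := by rw [← pow_two, ← hz, ← hconjord hv, pow_orderOf_eq_one]
      refine hn ⟨u * v, u, hβs hne, ?_⟩
      rw [mul_inv_rev, inv_eq_of_mul_eq_one_right huu, inv_eq_of_mul_eq_one_right hvv, ← mul_assoc,
        huu, one_mul]
    simpa [hd, hβ, hB] using this
  have E5 : ∑ χ, (B χ : ℂ) * (A χ : ℂ) = 0 := by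
    have h0 : Cfsg.classInner β α = 0 := by
      simp only [Cfsg.classInner]
      rw [Finset.sum_eq_zero, mul_zero]
      intro c _
      by_cases hc : β c = 0
      · rw [hc, zero_mul]
      · rw [show α c = 0 from by_contra fun hne => by have := hαs hne; have := hβs hc; omega,
          map_zero, mul_zero]
    rw [classInner_eq_sum (isClassFunction_beta θ)] at h0
    simpa [hα, hβ, hA, hB, map_intCast] using h0
  have E3 : ∑ χ : Cfsg.IrrCharacter G,
      (χ : G → ℂ) z * (B χ : ℂ) * (A χ : ℂ) / (d χ : ℂ) = 0 := by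
    have hx : ∀ c, α c * (∑ χ : Cfsg.IrrCharacter G,
        (χ : G → ℂ) z * (χ : G → ℂ) c * (B χ : ℂ) / (d χ : ℂ)) = 0 := by
      intro c
      by_cases hc : α c = 0
      · rw [hc, zero_mul]
      have hc3 := hαs hc
      have := sum_pairs_eq_zero z c β fun u v hu hv => by
        by_contra hne
        have hu2 : u * u = 1 := by rw [← pow_two, ← hz, ← hconjord hu, pow_orderOf_eq_one]
        have hv3 : v * v * v = 1 := by rw [← pow_three', ← hc3, ← hconjord hv, pow_orderOf_eq_one]
        obtain ⟨g, hg⟩ := conj_mul_eq_inv_of_five hu2 hv3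
          (by rw [← hβs hne, pow_orderOf_eq_one])
        exact hn ⟨u * v, g, hβs hne, hg⟩
      rw [show (∑ χ : Cfsg.IrrCharacter G,
        (χ : G → ℂ) z * (χ : G → ℂ) c * (B χ : ℂ) / (d χ : ℂ)) = 0 from by simpa [hd, hβ, hB] using this,
        mul_zero]
    have hsum : ∀ χ : Cfsg.IrrCharacter G,
        ∑ c, α c * (χ : G → ℂ) c = (Nat.card G : ℂ) * (A χ : ℂ) := by
      intro χ
      rw [← hA χ, Cfsg.classInner, ← mul_assoc, mul_inv_cancel₀ natCard_ne_zero, one_mul]
      refine Finset.sum_congr rfl fun c _ => ?_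
      by_cases hc : α c = 0
      · rw [← hα, hc, zero_mul, zero_mul]
      obtain ⟨t, -, ht⟩ := exists_conj_inv h (Or.inl rfl) hr (hαs hc)
      rw [conj_apply_of_conj_inv χ.2 ht]
    have := Finset.sum_eq_zero (s := Finset.univ) fun c _ => hx c
    simp only [Finset.mul_sum] at this
    rw [Finset.sum_comm] at this
    have h2 : (Nat.card G : ℂ) * (∑ χ : Cfsg.IrrCharacter G,
        (χ : G → ℂ) z * (B χ : ℂ) * (A χ : ℂ) / (d χ : ℂ)) = 0 := by
      rw [Finset.mul_sum, ← this]
      refine Finset.sum_congr rfl fun χ _ => ?_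
      calc (Nat.card G : ℂ) * ((χ : G → ℂ) z * (B χ : ℂ) * (A χ : ℂ) / (d χ : ℂ))
          = (χ : G → ℂ) z * (B χ : ℂ) / (d χ : ℂ) * ((Nat.card G : ℂ) * (A χ : ℂ)) := by ring
        _ = _ := by
          rw [← hsum χ, Finset.mul_sum]
          exact Finset.sum_congr rfl fun c _ => by ring
    exact (mul_eq_zero.1 h2).resolve_left natCard_ne_zero
  -- three characters besides the principal one
  have hB1 : B one' = 1 := by
    exact_mod_cast (hB one').symm.trans (classInner_beta_one hθ)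
  have hA1 : A one' = 1 := by
    exact_mod_cast (hA one').symm.trans (classInner_beta_one hη)
  have hBnorm : ∑ χ, B χ ^ 2 = 4 := by
    have := (classInner_self_eq_sum_sq (isClassFunction_beta θ) B hB).symm.trans
      (classInner_beta_self hTQ hθ)
    rw [hwQ] at this
    norm_num at this
    exact_mod_cast this
  have hAnorm : ∑ χ, A χ ^ 2 = ((inN (P : Subgroup G)).index : ℤ) + 1 := by
    have := (classInner_self_eq_sum_sq (isClassFunction_beta η) A hA).symm.trans
      (classInner_beta_self hTP hη)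
    exact_mod_cast this
  set T := (Finset.univ.erase one').filter fun χ => B χ ≠ 0 with hT
  have hBu : ∀ χ ∈ T, B χ = 1 ∨ B χ = -1 := by
    intro χ hχ
    obtain ⟨hχ1, hχ0⟩ := Finset.mem_filter.1 hχ
    have hle := Finset.sum_le_sum_of_subset_of_nonneg (f := fun χ => B χ ^ 2)
      (Finset.subset_univ ({χ, one'} : Finset (Cfsg.IrrCharacter G))) fun _ _ _ => sq_nonneg _
    rw [Finset.sum_pair (Finset.ne_of_mem_erase hχ1), hBnorm, hB1] at hle
    have : -1 ≤ B χ ∧ B χ ≤ 1 := ⟨by nlinarith, by nlinarith⟩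
    omega
  have hsplit : ∀ f : Cfsg.IrrCharacter G → ℂ, (∀ χ, B χ = 0 → f χ = 0) →
      ∑ χ, f χ = f one' + ∑ χ ∈ T, f χ := by
    intro f hf
    rw [← Finset.add_sum_erase Finset.univ f (Finset.mem_univ one'), hT, Finset.sum_filter_of_ne]
    intro χ _ hne h0
    exact hne (hf χ h0)
  have hcard : T.card = 3 := by
    have h' : ∑ χ ∈ T, B χ ^ 2 = 3 := by
      rw [← Finset.add_sum_erase Finset.univ (fun χ => B χ ^ 2) (Finset.mem_univ one'), hB1] at hBnorm
      have : ∑ χ ∈ T, B χ ^ 2 = ∑ χ ∈ Finset.univ.erase one', B χ ^ 2 :=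
        Finset.sum_filter_of_ne fun χ _ hne h0 => hne (by rw [h0]; rfl)
      linarith
    rw [Finset.sum_congr rfl (g := fun _ => (1 : ℤ)) fun χ hχ => by
      rcases hBu χ hχ with e | e <;> rw [e] <;> norm_num, Finset.sum_const, nsmul_eq_mul, mul_one] at h'
    exact_mod_cast h'
  let e : Fin 3 ≃ T := (T.equivFinOfCardEq hcard).symm
  have hfin : ∀ f : Cfsg.IrrCharacter G → ℂ, ∑ χ ∈ T, f χ = ∑ i, f (e i).1 := fun f => by
    rw [← Finset.sum_coe_sort, ← e.sum_comp]
  have hreal : ∀ χ : Cfsg.IrrCharacter G, (((χ : G → ℂ) z).re : ℂ) = (χ : G → ℂ) z := fun χ =>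
    Complex.conj_eq_iff_re.1 (conj_apply_of_involution χ.2 hz)
  refine no_three_characters (fun i => B (e i).1 * d (e i).1) (fun i => B (e i).1 * A (e i).1)
    (fun i => ((e i).1.1 z).re / d (e i).1) ?_ ?_ ?_ ?_ ?_ ?_ ?_ ?_ ?_
  all_goals try simp only
  · rw [hsplit _ (fun χ hχ => by simp [hχ]), hfin] at E1
    have hd1 : (d one' : ℂ) = 1 := (hd one').symm
    rw [hB1, hd1] at E1
    have : ((1 + ∑ i, B (e i).1 * d (e i).1 : ℤ) : ℂ) = 0 := by push_cast at E1 ⊢; simpa using E1
    rw [Int.cast_eq_zero] at this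
    linarith
  · rw [hsplit _ (fun χ hχ => by simp [hχ]), hfin] at E2
    simp only [hB1, one'] at E2
    apply Complex.ofReal_injective
    push_cast at E2 ⊢
    rw [Finset.sum_congr rfl (g := fun i => (B (e i).1 : ℂ) * ((e i).1 : G → ℂ) z) fun i _ => by
      rw [hreal, mul_assoc, mul_div_cancel₀ _ (Nat.cast_ne_zero.2 (hdpos _).ne')]]
    linear_combination E2
  · rw [hsplit _ (fun χ hχ => by simp [hχ]), hfin] at E4
    have hd1 : (d one' : ℂ) = 1 := (hd one').symm
    rw [hd1] at E4
    simp only [hB1, one'] at E4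
    apply Complex.ofReal_injective
    push_cast at E4 ⊢
    rw [Finset.sum_congr rfl (g := fun i => ((e i).1 : G → ℂ) z * ((e i).1 : G → ℂ) z *
      (B (e i).1 : ℂ) / (d (e i).1 : ℂ)) fun i _ => by
      have := (Nat.cast_ne_zero (R := ℂ)).2 (hdpos (e i).1).ne'
      rw [hreal]; field_simp]
    linear_combination E4
  · rw [hsplit _ (fun χ hχ => by simp [hχ]), hfin] at E5
    rw [hB1, hA1] at E5
    have : ((1 + ∑ i, B (e i).1 * A (e i).1 : ℤ) : ℂ) = 0 := by push_cast at E5 ⊢; simpa using E5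
    rw [Int.cast_eq_zero] at this
    linarith
  · rw [hsplit _ (fun χ hχ => by simp [hχ]), hfin] at E3
    have hd1 : (d one' : ℂ) = 1 := (hd one').symm
    rw [hd1] at E3
    simp only [hB1, hA1, one'] at E3
    apply Complex.ofReal_injective
    push_cast at E3 ⊢
    rw [Finset.sum_congr rfl (g := fun i => ((e i).1 : G → ℂ) z * (B (e i).1 : ℂ) *
      (A (e i).1 : ℂ) / (d (e i).1 : ℂ)) fun i _ => by rw [hreal]; ring]
    linear_combination E3
  · have hsum : ∑ i, (B (e i).1 * A (e i).1) ^ 2 = ∑ χ ∈ T, A χ ^ 2 := by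
      rw [← Finset.sum_coe_sort T, ← e.sum_comp]
      refine Finset.sum_congr rfl fun i _ => ?_
      rcases hBu _ (e i).2 with e' | e' <;> rw [e'] <;> ring
    rw [hsum]
    have h1 : ∑ χ ∈ T, A χ ^ 2 + 1 ≤ ∑ χ, A χ ^ 2 := by
      rw [← Finset.add_sum_erase Finset.univ (fun χ => A χ ^ 2) (Finset.mem_univ one'), hA1,
        add_comm]
      have := Finset.sum_le_sum_of_subset_of_nonneg (f := fun χ => A χ ^ 2)
        (Finset.filter_subset (fun χ => B χ ≠ 0) (Finset.univ.erase one')) fun _ _ _ => sq_nonneg _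
      rw [← hT] at this
      linarith
    have h8 : ((inN (P : Subgroup G)).index : ℤ) ≤ 8 := by
      exact_mod_cast Nat.le_of_dvd (by norm_num) hw8
    linarith
  · intro i hri
    have hne : ((e i).1 : G → ℂ) ≠ fun _ => 1 := fun h' =>
      Finset.ne_of_mem_erase (Finset.mem_filter.1 (e i).2).1 (Subtype.ext h')
    rw [div_eq_one_iff_eq (Nat.cast_ne_zero.2 (hdpos _).ne')] at hri
    have hz1 := eq_one_of_apply_eq_one (e i).1.2 hne (g := z) (by
      rw [hd, ← hreal, hri, Complex.ofReal_natCast])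
    rw [hz1, orderOf_one] at hz
    omega
  · intro i
    have h1 : d (e i).1 ≠ 1 := fun h' => Finset.ne_of_mem_erase (Finset.mem_filter.1 (e i).2).1
      (Subtype.ext (eq_one_of_degree_one hG (e i).1.2 (by rw [hd, h', Nat.cast_one])))
    have := hdpos (e i).1
    rw [abs_mul]
    rcases hBu _ (e i).2 with e' | e' <;> rw [e'] <;> simp <;> omega
  · intro h5' i
    have hsum : ∑ i, (B (e i).1 * A (e i).1) ^ 2 = ∑ χ ∈ T, A χ ^ 2 := by
      rw [← Finset.sum_coe_sort T, ← e.sum_comp]
      refine Finset.sum_congr rfl fun i _ => ?_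
      rcases hBu _ (e i).2 with e' | e' <;> rw [e'] <;> ring
    rw [hsum] at h5'
    have h1 : ∑ χ ∈ T, A χ ^ 2 + 1 ≤ ∑ χ, A χ ^ 2 := by
      rw [← Finset.add_sum_erase Finset.univ (fun χ => A χ ^ 2) (Finset.mem_univ one'), hA1,
        add_comm]
      have := Finset.sum_le_sum_of_subset_of_nonneg (f := fun χ => A χ ^ 2)
        (Finset.filter_subset (fun χ => B χ ≠ 0) (Finset.univ.erase one')) fun _ _ _ => sq_nonneg _
      rw [← hT] at this
      linarith
    have hw5 : 5 ≤ (inN (P : Subgroup G)).index := by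
      have : (5 : ℤ) ≤ ((inN (P : Subgroup G)).index : ℤ) := by linarith
      exact_mod_cast this
    have hwle := index_le_degree hTP hab hP (e i).1.2 (fun h' =>
      Finset.ne_of_mem_erase (Finset.mem_filter.1 (e i).2).1 (Subtype.ext h')) (hd (e i).1)
    have hw : (inN (P : Subgroup G)).index = 8 := by
      have := Nat.le_of_dvd (by norm_num) hw8
      generalize (inN (P : Subgroup G)).index = w at hw5 hw8 this
      interval_cases w <;> first | rfl | (exfalso; revert hw8; decide)
    rw [abs_mul]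
    rcases hBu _ (e i).2 with e' | e' <;> rw [e'] <;> simp <;> omega

/-- A non-abelian simple group with element orders at most five has order divisible by `2`, `3`
and `5`. -/
theorem dvd_card_of_simple [IsSimpleGroup G] (h : OrdersLeFive G) (hG : ¬ IsMulCommutative G)
    {r : ℕ} (hr : r = 2 ∨ r = 3 ∨ r = 5) : r ∣ Nat.card G := by
  by_contra hnr
  obtain ⟨p, q, hp, hq, hpq⟩ : ∃ p q : ℕ, p.Prime ∧ q.Prime ∧
      ∀ s : ℕ, s.Prime → s ∣ Nat.card G → s = p ∨ s = q := by
    rcases hr with rfl | rfl | rfl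
    · exact ⟨3, 5, Nat.prime_three, Nat.prime_five, fun s hs hd =>
        (prime_le_five h hs hd).resolve_left fun e => hnr (e ▸ hd)⟩
    · exact ⟨2, 5, Nat.prime_two, Nat.prime_five, fun s hs hd => by
        rcases prime_le_five h hs hd with e | e | e
        exacts [Or.inl e, absurd (e ▸ hd) hnr, Or.inr e]⟩
    · exact ⟨2, 3, Nat.prime_two, Nat.prime_three, fun s hs hd => by
        rcases prime_le_five h hs hd with e | e | e
        exacts [Or.inl e, Or.inr e, absurd (e ▸ hd) hnr]⟩
  have hdvd : Nat.card G ∣ p ^ Nat.card G * q ^ Nat.card G := by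
    refine (Nat.dvd_iff_prime_pow_dvd_dvd _ _).2 fun s k hs hd => ?_
    rcases Nat.eq_zero_or_pos k with rfl | hk
    · simp
    have hk' : k ≤ Nat.card G := by
      have h1 := Nat.le_of_dvd Nat.card_pos hd
      have h2 := Nat.lt_pow_self hs.one_lt (n := k)
      omega
    rcases hpq s hs ((dvd_pow_self s hk.ne').trans hd) with rfl | rfl
    · exact (pow_dvd_pow s hk').mul_right _
    · exact (pow_dvd_pow s hk').mul_left _
  refine hG ⟨⟨IsSimpleGroup.comm_iff_isSolvable.2 ?_⟩⟩
  exact CfsgLib.Characters.isSolvable_of_card_eq_primePow_mul p q _ _ hp hq hdvd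

/-- In a non-abelian simple group with element orders at most five every element of order three or
five is real. -/
theorem isReal [IsSimpleGroup G] (h : OrdersLeFive G) (hG : ¬ IsMulCommutative G) :
    IsReal G 3 ∧ IsReal G 5 := by
  have h3 := dvd_card_of_simple h hG (r := 3) (by simp)
  have h5 := dvd_card_of_simple h hG (r := 5) (by simp)
  suffices IsReal G 3 ∨ IsReal G 5 by
    rcases this with h' | h'
    · exact ⟨h', real_five_of_real_three h hG h5 h'⟩
    · exact ⟨real_three_of_real_five h hG h3 h', h'⟩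
  haveI : Fact (Nat.Prime 2) := ⟨Nat.prime_two⟩
  obtain ⟨z, hz⟩ := exists_prime_orderOf_dvd_card' (G := G) 2 (dvd_card_of_simple h hG (Or.inl rfl))
  by_contra hcon
  rw [not_or] at hcon
  have hzz : z * z = 1 := by rw [← pow_two, ← hz, pow_orderOf_eq_one]
  have hzi : z⁻¹ = z := inv_eq_of_mul_eq_one_right hzz
  -- all products of two conjugates of `z` are `2`-elements
  have hprod : ∀ g : G, (z * (g * z * g⁻¹)) ^ 4 = 1 := by
    intro g
    set v := g * z * g⁻¹ with hv
    have hvv : v * v = 1 := by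
      rw [hv, show g * z * g⁻¹ * (g * z * g⁻¹) = g * (z * z) * g⁻¹ by group, hzz, mul_one,
        mul_inv_cancel]
    have hinv : z * (z * v) * z⁻¹ = (z * v)⁻¹ := by
      rw [mul_inv_rev, hzi, inv_eq_of_mul_eq_one_right hvv, ← mul_assoc, hzz, one_mul]
    rw [← orderOf_dvd_iff_pow_eq_one]
    have h5' := h (z * v)
    have h0 := orderOf_pos (z * v)
    by_contra hne
    generalize hm : orderOf (z * v) = m at h5' h0 hne
    interval_cases m <;> first | (revert hne; decide) | skip
    · exact hcon.1 ⟨_, z, hm, hinv⟩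
    · exact hcon.2 ⟨_, z, hm, hinv⟩
  obtain ⟨N, hN, hN2, hzN⟩ := CfsgLib.Small.baerSuzuki_elem (p := 2) z fun g => by
    set v := g * z * g⁻¹ with hv
    have hvv : v * v = 1 := by
      rw [hv, show g * z * g⁻¹ * (g * z * g⁻¹) = g * (z * z) * g⁻¹ by group, hzz, mul_one,
        mul_inv_cancel]
    exact isPGroup_closure_pair hzz hvv (hprod g)
  rcases hN.eq_bot_or_eq_top with e | e <;> subst e
  · rw [Subgroup.mem_bot.1 hzN, orderOf_one] at hz
    omega
  · have h2 : Group.IsSolvable G := by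
      haveI := hN2.isNilpotent
      haveI : Group.IsNilpotent G :=
        Group.nilpotent_of_mulEquiv (Subgroup.topEquiv (G := G))
      infer_instance
    exact hG ⟨⟨IsSimpleGroup.comm_iff_isSolvable.2 h2⟩⟩

end CfsgLib.SpectrumFive
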