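import Cfsg.Agent.SpectrumFive.Degree
import Cfsg.Agent.SpectrumFive.Cases
import Cfsg.Agent.S0496
import Cfsg.Agent.S0497
import Cfsg.Agent.Classification.SimpleSixty

/-!
# A simple group with element orders at most five is `A₅` or `A₆`
-/

set_option autoImplicit false
set_option linter.style.haveILetI false

namespace CfsgLib.SpectrumFive

universe u

variable {G : Type u} [Group G] [Finite G]

/-- The order is a product of powers of five, three and two, the orders of the Sylow subgroups. -/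
theorem card_eq_sylow_products (h : OrdersLeFive G) :
    Nat.card G = 5 ^ (Nat.card G).factorization 5 * 3 ^ (Nat.card G).factorization 3 *
      2 ^ (Nat.card G).factorization 2 := by
  refine Nat.eq_of_factorization_eq Nat.card_pos.ne' (by positivity) fun r => ?_
  rw [Nat.factorization_mul (by positivity) (by positivity),
    Nat.factorization_mul (by positivity) (by positivity), Nat.prime_five.factorization_pow,
    Nat.prime_three.factorization_pow, Nat.prime_two.factorization_pow]
  simp only [Finsupp.add_apply, Finsupp.single_apply]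
  by_cases hr : r.Prime ∧ r ∣ Nat.card G
  · rcases prime_le_five h hr.1 hr.2 with rfl | rfl | rfl <;> simp
  · have h0 : (Nat.card G).factorization r = 0 := by
      rw [Nat.factorization_eq_zero_iff]
      tauto
    split_ifs <;> subst_vars <;> simp_all

/-- One congruence and one inequality for each of the two odd primes. -/
theorem sylow_data (h : OrdersLeFive G) {p : ℕ} (hp : p = 3 ∨ p = 5) (hr : IsReal G p)
    (P : Sylow p G) {a b c : ℕ} (hPc : Nat.card (P : Subgroup G) = a)
    (hcard : Nat.card G = a * b * c) {z : G} (hz : orderOf z = 2)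
    (hzc : Nat.card (Subgroup.centralizer ({z} : Set G)) = c) :
    ∃ k, (k = 2 ∨ k = 4 ∨ k = 8) ∧ b * c % (k * a) = k ∧
      ((∃ x : G, orderOf x = p ∧ z * x * z⁻¹ = x⁻¹) → (a - 1) * c ≤ k * a * b) := by
  haveI := Fact.mk (prime_of_eq hp)
  obtain ⟨t, -, -, -, hw8, hw2⟩ := real_structure h hp hr P
  set k := (inN (P : Subgroup G)).index with hk
  have hk248 : k = 2 ∨ k = 4 ∨ k = 8 := by
    obtain ⟨i, hi, hki⟩ := (Nat.dvd_prime_pow Nat.prime_two).1 (show _ ∣ 2 ^ 3 from hw8)
    rw [hki] at hw2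
    rw [hki]
    interval_cases i
    · norm_num at hw2
    all_goals norm_num
  have hk0 : 0 < k := by omega
  have ha0 : 0 < a := hPc ▸ Nat.card_pos
  have hc0 : 0 < c := hzc ▸ Nat.card_pos
  have hn := card_sylow_mul_index P
  rw [hPc, hcard] at hn
  have hnk : k * Nat.card (Sylow p G) = b * c :=
    Nat.eq_of_mul_eq_mul_right ha0 (by rw [← hk] at hn; linarith)
  refine ⟨k, hk248, ?_, fun ⟨x, hx, hinv⟩ => ?_⟩
  · have hmod := (card_sylow_modEq h hp P).mul_left' k
    rw [hPc, mul_one] at hmod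
    rw [← hnk, hmod]
    refine Nat.mod_eq_of_lt (lt_mul_of_one_lt_right hk0 ?_)
    rw [← hPc]
    refine Finite.one_lt_card_iff_nontrivial.2 ((Subgroup.nontrivial_iff_ne_bot _).2
      (P.ne_bot_of_dvd_card ?_))
    exact hx_of hr
  · have hpairs := card_pairs_le h hp P hz hx hinv
    have hI := CfsgLib.Small.card_conjugates_mul_card_centralizer z
    rw [hzc, hcard] at hI
    rw [Nat.eq_of_mul_eq_mul_right hc0 hI, hPc] at hpairs
    have h1 := Nat.mul_le_mul_left k hpairs
    rw [← mul_assoc, hnk] at h1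
    have hb0 : 0 < b := by
      rcases Nat.eq_zero_or_pos b with rfl | hb
      · exact absurd (hcard.trans (by simp)) Nat.card_pos.ne'
      · exact hb
    refine Nat.le_of_mul_le_mul_left (c := a * b) ?_ (Nat.mul_pos ha0 hb0)
    calc a * b * ((a - 1) * c) = b * c * ((a - 1) * a) := by ring
      _ ≤ k * (a * b) ^ 2 := h1
      _ = a * b * (k * a * b) := by ring
where
  hx_of {G : Type u} [Group G] [Finite G] {p : ℕ} (hr : IsReal G p) : p ∣ Nat.card G := by
    obtain ⟨x, g, hx, -⟩ := hr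
    exact hx ▸ orderOf_dvd_natCard x

lemma le_twentyTwo {s B : ℕ} (hB : B ≤ 5 ^ 8 ∨ B ≤ 5 * (s + 3)) (h : 2 ^ s ≤ 16 * B) : s ≤ 22 := by
  by_contra hs
  have h1 : 2 ^ 23 * 2 ^ (s - 23) = 2 ^ s := by rw [← pow_add]; congr 1; omega
  have h2 : s - 23 < 2 ^ (s - 23) := Nat.lt_two_pow_self
  have h3 : 2 ^ 23 * (s - 23 + 1) ≤ 2 ^ 23 * 2 ^ (s - 23) := Nat.mul_le_mul_left _ h2
  omega

/-- The possible orders. -/
theorem card_simple [IsSimpleGroup G] (h : OrdersLeFive G) (hG : ¬ IsMulCommutative G) :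
    Nat.card G = 60 ∨ Nat.card G = 360 := by
  obtain ⟨hr3, hr5⟩ := isReal h hG
  haveI : Fact (Nat.Prime 2) := ⟨Nat.prime_two⟩
  haveI : Fact (Nat.Prime 3) := ⟨Nat.prime_three⟩
  haveI : Fact (Nat.Prime 5) := ⟨Nat.prime_five⟩
  obtain ⟨S⟩ : Nonempty (Sylow 2 G) := inferInstance
  obtain ⟨Q⟩ : Nonempty (Sylow 3 G) := inferInstance
  obtain ⟨P⟩ : Nonempty (Sylow 5 G) := inferInstance
  have hcard := card_eq_sylow_products h
  set m := (Nat.card G).factorization 5 with hm'
  set n := (Nat.card G).factorization 3 with hn'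
  set s := (Nat.card G).factorization 2 with hs'
  have hm : 1 ≤ m := Nat.prime_five.factorization_pos_of_dvd Nat.card_pos.ne'
    (dvd_card_of_simple h hG (by simp))
  have hn : 1 ≤ n := Nat.prime_three.factorization_pos_of_dvd Nat.card_pos.ne'
    (dvd_card_of_simple h hG (by simp))
  obtain ⟨z, hz, hzc⟩ := exists_central_involution h (dvd_card_of_simple h hG (Or.inl rfl)) S
  rw [S.card_eq_multiplicity, ← hs'] at hzc
  obtain ⟨k, hk, hk1, hk2⟩ := sylow_data h (Or.inr rfl) hr5 P (a := 5 ^ m) (b := 3 ^ n)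
    P.card_eq_multiplicity hcard hz hzc
  obtain ⟨l, hl, hl1, hl2⟩ := sylow_data h (Or.inl rfl) hr3 Q (a := 3 ^ n) (b := 5 ^ m)
    Q.card_eq_multiplicity (by rw [hcard]; ring) hz hzc
  have hz35 : (5 ^ m - 1) * 2 ^ s ≤ k * 5 ^ m * 3 ^ n ∨
      (3 ^ n - 1) * 2 ^ s ≤ l * 5 ^ m * 3 ^ n := by
    rcases exists_inverted h hG hz with h3 | h5
    · exact Or.inr (by rw [mul_right_comm l]; exact hl2 h3)
    · exact Or.inl (hk2 h5)
  have hA := card_sylow_le h (p := 5) (q := 3) (Or.inr ⟨rfl, rfl⟩) hr5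
    (dvd_card_of_simple h hG (by simp)) hcard P P.card_eq_multiplicity hm
  have hB := card_sylow_le h (p := 3) (q := 5) (Or.inl ⟨rfl, rfl⟩) hr3
    (dvd_card_of_simple h hG (by simp)) (m := n) (n := m) (s := s) (by rw [hcard]; ring) Q
    Q.card_eq_multiplicity hn
  have hs : s ≤ 22 := by
    rcases hz35 with h' | h'
    · refine le_twentyTwo (B := 3 ^ n) (by omega) ?_
      have h5m : 5 ≤ 5 ^ m := Nat.le_self_pow (by omega) 5
      obtain ⟨c, hc⟩ : ∃ c, 5 ^ m = c + 1 := ⟨5 ^ m - 1, by omega⟩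
      rw [hc, Nat.add_sub_cancel] at h'
      have : c * 2 ^ s ≤ c * (16 * 3 ^ n) := by
        refine h'.trans ?_
        have hk8 : k ≤ 8 := by omega
        have h2c : c + 1 ≤ 2 * c := by omega
        calc k * (c + 1) * 3 ^ n ≤ 8 * (2 * c) * 3 ^ n :=
              Nat.mul_le_mul_right _ (Nat.mul_le_mul hk8 h2c)
          _ = c * (16 * 3 ^ n) := by ring
      exact Nat.le_of_mul_le_mul_left this (by omega)
    · refine le_twentyTwo (B := 5 ^ m) (by omega) ?_
      have h3n : 3 ≤ 3 ^ n := Nat.le_self_pow (by omega) 3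
      obtain ⟨c, hc⟩ : ∃ c, 3 ^ n = c + 1 := ⟨3 ^ n - 1, by omega⟩
      rw [hc, Nat.add_sub_cancel] at h'
      have : c * 2 ^ s ≤ c * (16 * 5 ^ m) := by
        refine h'.trans ?_
        have hl8 : l ≤ 8 := by omega
        have h2c : c + 1 ≤ 2 * c := by omega
        calc l * 5 ^ m * (c + 1) ≤ 8 * 5 ^ m * (2 * c) :=
              Nat.mul_le_mul (Nat.mul_le_mul_right _ hl8) h2c
          _ = c * (16 * 5 ^ m) := by ring
      exact Nat.le_of_mul_le_mul_left this (by omega)
  have hm8 : m ≤ 8 := (Nat.pow_le_pow_iff_right (by norm_num : 1 < 5)).1 (by omega)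
  have hn8 : n ≤ 8 := (Nat.pow_le_pow_iff_right (by norm_num : 1 < 3)).1 (by omega)
  have hmem := card_cases hm hn hm8 hn8 hs hk hl ⟨hk1, hl1, hz35⟩
  rw [← hcard] at hmem
  simp only [List.mem_cons, List.not_mem_nil, or_false] at hmem
  have := Cfsg.Agent.S0496.result hG
  omega

/-- A simple group with element orders at most five is `A₅` or `A₆`. -/
theorem nonempty_equiv_simple [IsSimpleGroup G] (h : OrdersLeFive G) (hG : ¬ IsMulCommutative G) :
    Nonempty (G ≃* alternatingGroup (Fin 5)) ∨ Nonempty (G ≃* alternatingGroup (Fin 6)) := by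
  rcases card_simple h hG with e | e
  · exact Or.inl (CfsgLib.Classification.nonempty_equiv_alternating_five e)
  · exact Or.inr (Cfsg.Agent.S0497.result e)

end CfsgLib.SpectrumFive
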