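import Mathlib

/-!
# Real elements in triangle groups

If `z * z = y * y * y = (z * y) ^ n = 1` with `n = 4` or `5`, then `y` is conjugate to its inverse,
and for `n = 5` so is `z * y`.
-/

namespace CfsgLib.SpectrumFive

set_option linter.unusedSimpArgs false

variable {G : Type*} [Group G] {z y : G}

lemma zz_left (hz : z * z = 1) (x : G) : z * (z * x) = x := by
  rw [← mul_assoc, hz, one_mul]

lemma yy_left (hy : y * y * y = 1) (x : G) : y * (y * x) = y⁻¹ * x := by
  rw [← mul_assoc, eq_inv_of_mul_eq_one_left hy]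

lemma yy_inv_left (hy : y * y * y = 1) (x : G) : y⁻¹ * (y⁻¹ * x) = y * x := by
  rw [← mul_assoc, ← mul_inv_rev, eq_inv_of_mul_eq_one_left hy, inv_inv]

/-- In the triangle group `(2, 3, 5)` the generator of order three is inverted. -/
theorem conj_eq_inv_of_five (hz : z * z = 1) (hy : y * y * y = 1) (h : (z * y) ^ 5 = 1) :
    ∃ g : G, g * y * g⁻¹ = y⁻¹ := by
  have e := zz_left hz
  have f := yy_left hy
  have f' := yy_inv_left hy
  have zi : z⁻¹ = z := inv_eq_of_mul_eq_one_right hz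
  have yy : y * y = y⁻¹ := eq_inv_of_mul_eq_one_left hy
  have yy' : y⁻¹ * y⁻¹ = y := by rw [← mul_inv_rev, yy, inv_inv]
  have P : (z * y * z * y * z * y * z * y * z * y) = 1 := by simpa [pow_succ, mul_assoc] using h
  have N : (y⁻¹ * z * y⁻¹ * z * y⁻¹ * z * y⁻¹ * z * y⁻¹ * z) = 1 := by
    have := congrArg (fun x => x⁻¹) P
    simpa [mul_assoc, zi] using this
  have R0 : (y⁻¹ * z * y⁻¹ * z * y⁻¹ * z * y⁻¹ * z * y⁻¹ * z) = 1 := N
  have s0 : (z * y * z * y⁻¹ * z * y * z * y⁻¹ * z * y * z * y * z * y⁻¹ * z * y * z * y⁻¹ * z * y) = (z * y * z * y⁻¹ * z * y * z * y * z * y⁻¹ * z * y * z * y * z * y⁻¹ * z * y) := by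
    calc (z * y * z * y⁻¹ * z * y * z * y⁻¹ * z * y * z * y * z * y⁻¹ * z * y * z * y⁻¹ * z * y) = (z * y * z * y⁻¹ * z * y * z * y⁻¹) * (y⁻¹ * z * y⁻¹ * z * y⁻¹ * z * y⁻¹ * z * y⁻¹ * z) * (z * y * z * y * z * y⁻¹ * z * y * z * y⁻¹ * z * y) := by
          rw [R0, mul_one]; simp only [mul_assoc, one_mul]
      _ = (z * y * z * y⁻¹ * z * y * z * y * z * y⁻¹ * z * y * z * y * z * y⁻¹ * z * y) := by
          simp only [mul_assoc, one_mul, mul_one, hz, yy, yy', e, f, f', mul_inv_cancel_left,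
            inv_mul_cancel_left, mul_inv_cancel, inv_mul_cancel]
  have s1 : (z * y * z * y⁻¹ * z * y * z * y * z * y⁻¹ * z * y * z * y * z * y⁻¹ * z * y) = (z * y * z * y⁻¹ * z * y * z * y * z * y * z * y⁻¹ * z * y * z * y) := by
    calc (z * y * z * y⁻¹ * z * y * z * y * z * y⁻¹ * z * y * z * y * z * y⁻¹ * z * y) = (z * y * z * y⁻¹ * z * y * z * y * z * y⁻¹) * (y⁻¹ * z * y⁻¹ * z * y⁻¹ * z * y⁻¹ * z * y⁻¹ * z) * (z * y * z * y * z * y⁻¹ * z * y) := by
          rw [R0, mul_one]; simp only [mul_assoc, one_mul]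
      _ = (z * y * z * y⁻¹ * z * y * z * y * z * y * z * y⁻¹ * z * y * z * y) := by
          simp only [mul_assoc, one_mul, mul_one, hz, yy, yy', e, f, f', mul_inv_cancel_left,
            inv_mul_cancel_left, mul_inv_cancel, inv_mul_cancel]
  have s2 : (z * y * z * y⁻¹ * z * y * z * y * z * y * z * y⁻¹ * z * y * z * y) = (z * y * z * y * z * y * z * y * z * y) := by
    calc (z * y * z * y⁻¹ * z * y * z * y * z * y * z * y⁻¹ * z * y * z * y) = (z * y * z * y⁻¹) * (y⁻¹ * z * y⁻¹ * z * y⁻¹ * z * y⁻¹ * z * y⁻¹ * z) * (z * y * z * y * z * y * z * y⁻¹ * z * y * z * y) := by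
          rw [R0, mul_one]; simp only [mul_assoc, one_mul]
      _ = (z * y * z * y * z * y * z * y * z * y) := by
          simp only [mul_assoc, one_mul, mul_one, hz, yy, yy', e, f, f', mul_inv_cancel_left,
            inv_mul_cancel_left, mul_inv_cancel, inv_mul_cancel]
  have s3 : (z * y * z * y * z * y * z * y * z * y) = (1 : G) := by
    calc (z * y * z * y * z * y * z * y * z * y) = (1 : G) * (y⁻¹ * z * y⁻¹ * z * y⁻¹ * z * y⁻¹ * z * y⁻¹ * z) * (z * y * z * y * z * y * z * y * z * y) := by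
          rw [R0, mul_one]; simp only [mul_assoc, one_mul]
      _ = (1 : G) := by
          simp only [mul_assoc, one_mul, mul_one, hz, yy, yy', e, f, f', mul_inv_cancel_left,
            inv_mul_cancel_left, mul_inv_cancel, inv_mul_cancel]
  refine ⟨z * y * z * y⁻¹ * z * y * z * y⁻¹ * z, eq_inv_of_mul_eq_one_left ?_⟩
  refine Eq.trans ?_ (s0.trans (s1.trans (s2.trans s3)))
  simp only [mul_inv_rev, inv_inv, zi, mul_assoc, one_mul, mul_one, hz, yy, yy', e, f, f',
    mul_inv_cancel_left, inv_mul_cancel_left, mul_inv_cancel, inv_mul_cancel]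

/-- In the triangle group `(2, 3, 5)` the element of order five is inverted. -/
theorem conj_mul_eq_inv_of_five (hz : z * z = 1) (hy : y * y * y = 1) (h : (z * y) ^ 5 = 1) :
    ∃ g : G, g * (z * y) * g⁻¹ = (z * y)⁻¹ := by
  have e := zz_left hz
  have f := yy_left hy
  have f' := yy_inv_left hy
  have zi : z⁻¹ = z := inv_eq_of_mul_eq_one_right hz
  have yy : y * y = y⁻¹ := eq_inv_of_mul_eq_one_left hy
  have yy' : y⁻¹ * y⁻¹ = y := by rw [← mul_inv_rev, yy, inv_inv]
  have P : (z * y * z * y * z * y * z * y * z * y) = 1 := by simpa [pow_succ, mul_assoc] using h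
  have N : (y⁻¹ * z * y⁻¹ * z * y⁻¹ * z * y⁻¹ * z * y⁻¹ * z) = 1 := by
    have := congrArg (fun x => x⁻¹) P
    simpa [mul_assoc, zi] using this
  have R0 : (y * z * y * z * y * z * y * z * y * z) = 1 := by
    have hr : (y * z * y * z * y * z * y * z * y) * (z) = 1 :=
      mul_eq_one_comm.1 (by simpa [mul_assoc] using P)
    simpa [mul_assoc] using hr
  have s0 : (y * z * y * z * y⁻¹ * z * y⁻¹ * z * y⁻¹ * z * y * z * y⁻¹ * z * y⁻¹ * z * y) = (y * z * y⁻¹ * z * y⁻¹ * z * y⁻¹ * z * y⁻¹ * z * y) := by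
    calc (y * z * y * z * y⁻¹ * z * y⁻¹ * z * y⁻¹ * z * y * z * y⁻¹ * z * y⁻¹ * z * y) = (y * z * y) * (y * z * y * z * y * z * y * z * y * z) * (z * y⁻¹ * z * y⁻¹ * z * y⁻¹ * z * y * z * y⁻¹ * z * y⁻¹ * z * y) := by
          rw [R0, mul_one]; simp only [mul_assoc, one_mul]
      _ = (y * z * y⁻¹ * z * y⁻¹ * z * y⁻¹ * z * y⁻¹ * z * y) := by
          simp only [mul_assoc, one_mul, mul_one, hz, yy, yy', e, f, f', mul_inv_cancel_left,
            inv_mul_cancel_left, mul_inv_cancel, inv_mul_cancel]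
  have s1 : (y * z * y⁻¹ * z * y⁻¹ * z * y⁻¹ * z * y⁻¹ * z * y) = (1 : G) := by
    calc (y * z * y⁻¹ * z * y⁻¹ * z * y⁻¹ * z * y⁻¹ * z * y) = (y) * (y * z * y * z * y * z * y * z * y * z) * (z * y⁻¹ * z * y⁻¹ * z * y⁻¹ * z * y⁻¹ * z * y) := by
          rw [R0, mul_one]; simp only [mul_assoc, one_mul]
      _ = (1 : G) := by
          simp only [mul_assoc, one_mul, mul_one, hz, yy, yy', e, f, f', mul_inv_cancel_left,
            inv_mul_cancel_left, mul_inv_cancel, inv_mul_cancel]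
  refine ⟨y * z * y * z * y⁻¹ * z * y⁻¹, eq_inv_of_mul_eq_one_left ?_⟩
  refine Eq.trans ?_ (s0.trans s1)
  simp only [mul_inv_rev, inv_inv, zi, mul_assoc, one_mul, mul_one, hz, yy, yy', e, f, f',
    mul_inv_cancel_left, inv_mul_cancel_left, mul_inv_cancel, inv_mul_cancel]

/-- In the triangle group `(2, 3, 4)` the generator of order three is inverted. -/
theorem conj_eq_inv_of_four (hz : z * z = 1) (hy : y * y * y = 1) (h : (z * y) ^ 4 = 1) :
    ∃ g : G, g * y * g⁻¹ = y⁻¹ := by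
  have e := zz_left hz
  have f := yy_left hy
  have f' := yy_inv_left hy
  have zi : z⁻¹ = z := inv_eq_of_mul_eq_one_right hz
  have yy : y * y = y⁻¹ := eq_inv_of_mul_eq_one_left hy
  have yy' : y⁻¹ * y⁻¹ = y := by rw [← mul_inv_rev, yy, inv_inv]
  have P : (z * y * z * y * z * y * z * y) = 1 := by simpa [pow_succ, mul_assoc] using h
  have N : (y⁻¹ * z * y⁻¹ * z * y⁻¹ * z * y⁻¹ * z) = 1 := by
    have := congrArg (fun x => x⁻¹) P
    simpa [mul_assoc, zi] using this
  have R0 : (y⁻¹ * z * y⁻¹ * z * y⁻¹ * z * y⁻¹ * z) = 1 := N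
  have s0 : (z * y * z * y⁻¹ * z * y * z * y * z * y⁻¹ * z * y) = (z * y * z * y * z * y * z * y) := by
    calc (z * y * z * y⁻¹ * z * y * z * y * z * y⁻¹ * z * y) = (z * y * z * y⁻¹) * (y⁻¹ * z * y⁻¹ * z * y⁻¹ * z * y⁻¹ * z) * (z * y * z * y * z * y⁻¹ * z * y) := by
          rw [R0, mul_one]; simp only [mul_assoc, one_mul]
      _ = (z * y * z * y * z * y * z * y) := by
          simp only [mul_assoc, one_mul, mul_one, hz, yy, yy', e, f, f', mul_inv_cancel_left,
            inv_mul_cancel_left, mul_inv_cancel, inv_mul_cancel]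
  have s1 : (z * y * z * y * z * y * z * y) = (1 : G) := by
    calc (z * y * z * y * z * y * z * y) = (1 : G) * (y⁻¹ * z * y⁻¹ * z * y⁻¹ * z * y⁻¹ * z) * (z * y * z * y * z * y * z * y) := by
          rw [R0, mul_one]; simp only [mul_assoc, one_mul]
      _ = (1 : G) := by
          simp only [mul_assoc, one_mul, mul_one, hz, yy, yy', e, f, f', mul_inv_cancel_left,
            inv_mul_cancel_left, mul_inv_cancel, inv_mul_cancel]
  refine ⟨z * y * z * y⁻¹ * z, eq_inv_of_mul_eq_one_left ?_⟩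
  refine Eq.trans ?_ (s0.trans s1)
  simp only [mul_inv_rev, inv_inv, zi, mul_assoc, one_mul, mul_one, hz, yy, yy', e, f, f',
    mul_inv_cancel_left, inv_mul_cancel_left, mul_inv_cancel, inv_mul_cancel]

end CfsgLib.SpectrumFive
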