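import Cfsg.Agent.SpectrumFive.Locals
import Cfsg.Agent.SpectrumFive.Words

/-!
# Sylow `3`- and `5`-subgroups are trivial intersection subgroups
-/

namespace CfsgLib.SpectrumFive

variable {G : Type*} [Group G] [Finite G] {p : ℕ}

lemma prime_le_five (h : OrdersLeFive G) {r : ℕ} (hr : r.Prime) (hd : r ∣ Nat.card G) :
    r = 2 ∨ r = 3 ∨ r = 5 := by
  haveI := Fact.mk hr
  obtain ⟨g, hg⟩ := exists_prime_orderOf_dvd_card' r hd
  have h5 := h g
  rw [hg] at h5
  have := hr.two_le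
  interval_cases r <;> first | omega | (exfalso; revert hr; norm_num)

omit [Finite G] in
lemma isPGroup_zpowers (x : G) (hx : x ^ p = 1) : IsPGroup p (Subgroup.zpowers x) := by
  rintro ⟨y, hy⟩
  obtain ⟨n, rfl⟩ := Subgroup.mem_zpowers_iff.1 hy
  exact ⟨1, Subtype.ext (by
    show (x ^ n) ^ p ^ 1 = 1
    rw [pow_one, ← zpow_natCast, ← zpow_mul, mul_comm, zpow_mul, zpow_natCast, hx, one_zpow])⟩

/-- The elements of order `p` of a subgroup normalising a nontrivial `p`-subgroup generate a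
`p`-group. -/
theorem exists_pGroup_of_le_normalizer (h : OrdersLeFive G) (hp : p = 3 ∨ p = 5) {D M : Subgroup G}
    (hD : IsPGroup p D) (hne : D ≠ ⊥) (hM : M ≤ Subgroup.normalizer (D : Set G)) :
    ∃ R : Subgroup G, IsPGroup p R ∧ ∀ x ∈ M, x ^ p = 1 → x ∈ R := by
  haveI := Fact.mk (prime_of_eq hp)
  obtain ⟨d, hd, hd1⟩ := (Subgroup.bot_or_exists_ne_one D).resolve_left hne
  have hdo := orderOf_eq_of_mem h hp hD hd hd1
  by_cases h2 : 2 ∣ Nat.card M
  · obtain ⟨t, ht⟩ := exists_prime_orderOf_dvd_card' (G := M) 2 h2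
    have ht' : orderOf (t : G) = 2 := by rw [Subgroup.orderOf_coe, ht]
    set R := Subgroup.centralizer (D : Set G) ⊓ M with hR
    have hRp : ∀ x ∈ R, x ^ p = 1 := fun x hx =>
      pow_eq_one_of_commute h hp hdo (Subgroup.mem_centralizer_iff.1 hx.1 d hd)
    refine ⟨R, fun x => ⟨1, by rw [pow_one]; exact Subtype.ext (hRp x x.2)⟩, fun x hxM hx => ?_⟩
    have huN : x * t * x⁻¹ ∈ Subgroup.normalizer (D : Set G) :=
      hM (mul_mem (mul_mem hxM t.2) (inv_mem hxM))
    obtain ⟨-, hcd, j, hj⟩ := exists_conj_of_inverting h hp hD hne ht'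
      (u := x * t * x⁻¹) (by rw [← MulAut.conj_apply, MulEquiv.orderOf_eq, ht']) (hM t.2) huN
    set r := ((x * t * x⁻¹) * (t : G)) ^ j with hr
    have hrR : r ∈ R := by
      refine ⟨Subgroup.mem_centralizer_iff.2 fun e he => ?_,
        pow_mem (mul_mem (mul_mem (mul_mem hxM t.2) (inv_mem hxM)) t.2) j⟩
      exact ((hcd e he).pow_left j).eq.symm
    have hc : Commute (t : G) (r⁻¹ * x) := by
      refine (mul_inv_eq_iff_eq_mul.1 ?_).symm
      calc r⁻¹ * x * t * (r⁻¹ * x)⁻¹ = r⁻¹ * (x * t * x⁻¹) * r := by group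
        _ = r⁻¹ * (r * t * r⁻¹) * r := by rw [hj]
        _ = t := by group
    have h4 := pow_four_eq_one_of_commute h ht' hc
    haveI hRn : (R.subgroupOf M).Normal := by
      refine ⟨fun a ha g => ?_⟩
      rw [Subgroup.mem_subgroupOf] at ha ⊢
      refine ⟨Subgroup.mem_centralizer_iff.2 fun e he => ?_, (g * a * g⁻¹ : M).2⟩
      have he' : (g : G)⁻¹ * e * g ∈ D :=
        (Subgroup.mem_normalizer_iff''.mp (hM g.2) e).1 he
      have := Subgroup.mem_centralizer_iff.1 ha.1 _ he'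
      simp only [Subgroup.coe_mul, Subgroup.coe_inv]
      calc e * ((g : G) * a * (g : G)⁻¹) = g * (((g : G)⁻¹ * e * g) * a) * (g : G)⁻¹ := by group
        _ = g * (a * ((g : G)⁻¹ * e * g)) * (g : G)⁻¹ := by rw [this]
        _ = (g : G) * a * (g : G)⁻¹ * e := by group
    set π := QuotientGroup.mk' (R.subgroupOf M)
    have hrM : r ∈ M := hrR.2
    have hπ : π (⟨r, hrM⟩⁻¹ * ⟨x, hxM⟩) = π ⟨x, hxM⟩ := by
      rw [map_mul, map_inv, show π ⟨r, hrM⟩ = 1 from (QuotientGroup.eq_one_iff _).2 hrR, inv_one,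
        one_mul]
    have hone : π ⟨x, hxM⟩ = 1 := by
      refine eq_one_of_pow_four (G := M ⧸ R.subgroupOf M) hp ?_ ?_
      · rw [← map_pow, show (⟨x, hxM⟩ : M) ^ p = 1 from Subtype.ext hx, map_one]
      · rw [← hπ, ← map_pow, show (⟨r, hrM⟩⁻¹ * ⟨x, hxM⟩ : M) ^ 4 = 1 from Subtype.ext h4, map_one]
    exact Subgroup.mem_subgroupOf.1 ((QuotientGroup.eq_one_iff (⟨x, hxM⟩ : M)).1 hone)
  · obtain ⟨P⟩ : Nonempty (Sylow p M) := inferInstance
    refine ⟨(P : Subgroup M).map M.subtype, P.isPGroup'.map _, fun x hxM hx => ?_⟩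
    set q := if p = 3 then 5 else 3 with hqdef
    have hq : q.Prime := by rw [hqdef]; split_ifs <;> norm_num
    have hqp : q ≠ p := by rw [hqdef]; rcases hp with rfl | rfl <;> norm_num
    have hq35 : q = 3 ∨ q = 5 := by rw [hqdef]; split_ifs <;> simp
    haveI := Fact.mk hq
    obtain ⟨S⟩ : Nonempty (Sylow q M) := inferInstance
    have hSle : Nat.card (S : Subgroup M) ≤ q := by
      rw [Nat.card_congr ((S : Subgroup M).equivMapOfInjective _ M.subtype_injective).toEquiv]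
      refine card_le_of_fixedPointFree h hp hq hqp hD hne (S.isPGroup'.map _) ?_
        ((Subgroup.map_subtype_le _).trans hM)
      intro s hs
      by_cases hs1 : s = 1
      · rw [hs1, one_pow]
      rw [← orderOf_eq_of_mem h hq35 (S.isPGroup'.map M.subtype) hs hs1, pow_orderOf_eq_one]
    have hidx : (P : Subgroup M).index ∣ q := by
      have hne0 : (P : Subgroup M).index ≠ 0 := Subgroup.index_ne_zero_of_finite
      rw [← Nat.factorization_le_iff_dvd hne0 hq.ne_zero]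
      intro r
      by_cases hr : r.Prime
      swap
      · simp [hr]
      by_cases hrd : r ∣ (P : Subgroup M).index
      swap
      · simp [Nat.factorization_eq_zero_of_not_dvd hrd]
      have hrM : r ∣ Nat.card M := hrd.trans (Subgroup.index_dvd_card _)
      have hrp : r ≠ p := fun e => P.not_dvd_index (e ▸ hrd)
      have hrq : r = q := by
        rcases prime_le_five (h.subgroup M) hr hrM with rfl | rfl | rfl
        · exact absurd hrM h2
        · rw [hqdef]; rcases hp with rfl | rfl <;> simp_all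
        · rw [hqdef]; rcases hp with rfl | rfl <;> simp_all
      subst hrq
      rw [hq.factorization_self]
      have hle : q ^ ((P : Subgroup M).index.factorization q) ≤ q ^ 1 := by
        rw [pow_one]
        refine le_trans (Nat.le_of_dvd Nat.card_pos ?_) hSle
        exact S.pow_dvd_card_of_pow_dvd_card
          ((Nat.ordProj_dvd _ q).trans (Subgroup.index_dvd_card _))
      exact (Nat.pow_le_pow_iff_right hq.one_lt).1 hle
    have h1 : Nat.card (Sylow p M) = 1 := by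
      rcases (Nat.dvd_prime hq).1 (P.card_dvd_index.trans hidx) with e | e
      · exact e
      · exfalso
        have hmod := card_sylow_modEq_one p M
        rw [e, Nat.ModEq, hqdef] at hmod
        rcases hp with rfl | rfl <;> norm_num at hmod
    obtain ⟨Q, hQ⟩ := IsPGroup.exists_le_sylow (G := M) (p := p)
      (P := Subgroup.zpowers ⟨x, hxM⟩) (isPGroup_zpowers ⟨x, hxM⟩ (Subtype.ext hx))
    haveI : Subsingleton (Sylow p M) := (Nat.card_eq_one_iff_unique.1 h1).1
    obtain rfl := Subsingleton.elim Q P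
    exact ⟨_, hQ (Subgroup.mem_zpowers _), rfl⟩

/-- The Sylow `3`- and `5`-subgroups intersect trivially. -/
theorem sylow_inf_eq_bot (h : OrdersLeFive G) (hp : p = 3 ∨ p = 5) {P Q : Sylow p G}
    (hne : P ≠ Q) : (P : Subgroup G) ⊓ Q = ⊥ := by
  haveI := Fact.mk (prime_of_eq hp)
  by_contra hD
  obtain ⟨⟨P, Q⟩, hmax⟩ :=
    (Set.toFinite {PQ : Sylow p G × Sylow p G | PQ.1 ≠ PQ.2 ∧
      (PQ.1 : Subgroup G) ⊓ PQ.2 ≠ ⊥}).exists_maximalFor
      (fun PQ => ((PQ.1 : Subgroup G) ⊓ PQ.2)) _ ⟨(P, Q), hne, hD⟩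
  obtain ⟨hPQ, hD⟩ : P ≠ Q ∧ (P : Subgroup G) ⊓ Q ≠ ⊥ := hmax.prop
  set D := (P : Subgroup G) ⊓ Q with hDdef
  obtain ⟨R, hR, hRmem⟩ := exists_pGroup_of_le_normalizer h hp (P.isPGroup'.to_le inf_le_left) hD
    le_rfl
  obtain ⟨T, hT⟩ := hR.exists_le_sylow
  have key : ∀ S : Sylow p G, D < S → S = T := by
    intro S hS
    by_contra hST
    have hlt := CfsgLib.Small.lt_inf_normalizer_of_pGroup S.isPGroup' hS
    have hle : (S : Subgroup G) ⊓ Subgroup.normalizer (D : Set G) ≤ (S : Subgroup G) ⊓ T := by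
      intro x hx
      refine ⟨hx.1, hT (hRmem x hx.2 ?_)⟩
      by_cases hx1 : x = 1
      · rw [hx1, one_pow]
      · rw [← orderOf_eq_of_mem h hp S.isPGroup' hx.1 hx1, pow_orderOf_eq_one]
    have hlt' : D < (S : Subgroup G) ⊓ T := hlt.trans_le hle
    have hne' : (S : Subgroup G) ⊓ T ≠ ⊥ := fun e => not_le_of_gt hlt' (e ▸ bot_le)
    exact not_le_of_gt hlt'
      (hmax.le_of_le (j := (S, T)) (show S ≠ T ∧ (S : Subgroup G) ⊓ T ≠ ⊥ from ⟨hST, hne'⟩) hlt'.le)
  have hPlt : D < P := lt_of_le_of_ne inf_le_left fun e =>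
    hPQ (Sylow.ext (P.3 Q.isPGroup' (e ▸ inf_le_right)).symm)
  have hQlt : D < Q := lt_of_le_of_ne inf_le_right fun e =>
    hPQ (Sylow.ext (Q.3 P.isPGroup' (e ▸ inf_le_left)))
  exact hPQ ((key P hPlt).trans (key Q hQlt).symm)

theorem sylow_eq_of_mem (h : OrdersLeFive G) (hp : p = 3 ∨ p = 5) {P Q : Sylow p G} {x : G}
    (hxP : x ∈ (P : Subgroup G)) (hxQ : x ∈ (Q : Subgroup G)) (hx : x ≠ 1) : P = Q := by
  by_contra hne
  exact hx (Subgroup.mem_bot.1 (sylow_inf_eq_bot h hp hne ▸ ⟨hxP, hxQ⟩))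

/-- The centraliser of a nontrivial element of a Sylow `p`-subgroup lies in it. -/
theorem centralizer_le_sylow (h : OrdersLeFive G) (hp : p = 3 ∨ p = 5) (P : Sylow p G) {x : G}
    (hxP : x ∈ (P : Subgroup G)) (hx : x ≠ 1) :
    Subgroup.centralizer ({x} : Set G) ≤ P := by
  haveI := Fact.mk (prime_of_eq hp)
  have hxo := orderOf_eq_of_mem h hp P.isPGroup' hxP hx
  have hC : IsPGroup p (Subgroup.centralizer ({x} : Set G)) := fun y => ⟨1, by
    rw [pow_one]
    exact Subtype.ext (pow_eq_one_of_commute h hp hxo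
      (Subgroup.mem_centralizer_singleton_iff.1 y.2).symm)⟩
  obtain ⟨T, hT⟩ := hC.exists_le_sylow
  exact sylow_eq_of_mem h hp (hT (Subgroup.mem_centralizer_singleton_iff.2 rfl)) hxP hx ▸ hT

/-- The Sylow subgroups are trivial intersection subgroups. -/
theorem sylow_ti (h : OrdersLeFive G) (hp : p = 3 ∨ p = 5) (P : Sylow p G) (g : G)
    (hg : g ∉ Subgroup.normalizer ((P : Subgroup G) : Set G)) (t : G) (ht : t ∈ (P : Subgroup G))
    (hgt : g * t * g⁻¹ ∈ (P : Subgroup G)) : t = 1 := by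
  by_contra h1
  refine hg (Sylow.smul_eq_iff_mem_normalizer.1 ?_)
  refine sylow_eq_of_mem h hp (x := g * t * g⁻¹) ?_ hgt fun e => h1 (conj_eq_one_iff.1 e)
  exact ⟨t, ht, rfl⟩

/-- A `p`-element conjugate to its inverse makes the normaliser of its Sylow subgroup even. -/
theorem even_normalizer_of_real (h : OrdersLeFive G) (hp : p = 3 ∨ p = 5) (P : Sylow p G)
    {x g : G} (hx : orderOf x = p) (hg : g * x * g⁻¹ = x⁻¹) :
    ∃ t ∈ Subgroup.normalizer ((P : Subgroup G) : Set G), orderOf t = 2 := by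
  haveI := Fact.mk (prime_of_eq hp)
  have hx1 : x ≠ 1 := fun e => (prime_of_eq hp).ne_one (by rw [← hx, e, orderOf_one])
  obtain ⟨T, hT⟩ := IsPGroup.exists_le_sylow (G := G) (p := p) (P := Subgroup.zpowers x)
    (isPGroup_zpowers x (by rw [← hx, pow_orderOf_eq_one]))
  have hxT : x ∈ (T : Subgroup G) := hT (Subgroup.mem_zpowers x)
  have hgN : g ∈ Subgroup.normalizer ((T : Subgroup G) : Set G) := by
    by_contra hg'
    exact hx1 (sylow_ti h hp T g hg' x hxT (hg ▸ inv_mem hxT))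
  have hgo : 2 ∣ orderOf g := by
    by_contra hodd
    have hg2 : Commute (g ^ 2) x := by
      refine mul_inv_eq_iff_eq_mul.1 ?_
      calc g ^ 2 * x * (g ^ 2)⁻¹ = g * (g * x * g⁻¹) * g⁻¹ := by rw [pow_two]; group
        _ = g * x⁻¹ * g⁻¹ := by rw [hg]
        _ = (g * x * g⁻¹)⁻¹ := conj_inv.symm
        _ = x := by rw [hg, inv_inv]
    obtain ⟨m, hm⟩ := Nat.odd_iff.2 (Nat.two_dvd_ne_zero.1 hodd)
    have hgg : g = (g ^ 2) ^ (m + 1) := by
      rw [← pow_mul, show 2 * (m + 1) = orderOf g + 1 by omega, pow_succ, pow_orderOf_eq_one, one_mul]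
    have hc : Commute g x := by rw [hgg]; exact hg2.pow_left _
    rw [hc.eq, mul_inv_cancel_right] at hg
    have := orderOf_dvd_of_pow_eq_one (x := x) (n := 2) (by rw [pow_two]; nth_rw 2 [hg]; exact mul_inv_cancel x)
    rw [hx] at this
    rcases hp with rfl | rfl <;> norm_num at this
  set t₀ := g ^ (orderOf g / 2)
  have ht₀ : orderOf t₀ = 2 := orderOf_pow_orderOf_div (orderOf_pos g).ne' hgo
  obtain ⟨a, rfl⟩ := MulAction.exists_smul_eq G T P
  refine ⟨a * t₀ * a⁻¹, ?_, by rw [← MulAut.conj_apply, MulEquiv.orderOf_eq, ht₀]⟩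
  refine Sylow.smul_eq_iff_mem_normalizer.1 ?_
  rw [mul_smul, mul_smul, inv_smul_smul, Sylow.smul_eq_iff_mem_normalizer.2 (pow_mem hgN _)]

end CfsgLib.SpectrumFive
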